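import Groth.Prelude
import Groth.Agent.S18029
import Groth.Agent.S19202

/-!
# The schematic closure of a subgroup of the generic fibre
-/

set_option autoImplicit false
set_option linter.style.haveILetI false
universe u

open CategoryTheory MonoidalCategory CartesianMonoidalCategory MonObj GrpObj AlgebraicGeometry CategoryTheory.Limits

namespace Groth.Agent.NeronHD28

theorem exists_closure_subgroup {X : Scheme.{u}} (G : Over X) [GrpObj G] {K : Scheme.{u}} (ζ : K ⟶ X)
    [Flat ζ] [Mono ζ] [IsAffineHom ζ] [IsSchemeTheoreticallyDominant ζ]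
    (Hη : Over K) [GrpObj Hη] (i : Hη ⟶ Red.bc ζ G) [IsMonHom i] [IsClosedImmersion i.left]
    (hflat : ∀ (h : Hη.left ⟶ G.left), h ≫ G.hom = Hη.hom ≫ ζ → Flat (h.imageι ≫ G.hom)) :
    ∃ (H : Over X) (_ : GrpObj H) (j : H ⟶ G) (φ : Hη.left ⟶ H.left),
      IsMonHom j ∧ IsClosedImmersion j.left ∧ Flat H.hom ∧ IsPullback φ Hη.hom H.hom ζ ∧
      φ ≫ j.left = i.left ≫ pullback.fst G.hom ζ ∧ φ.ker = ⊥ := by
  let h : Hη.left ⟶ G.left := i.left ≫ pullback.fst G.hom ζ
  haveI : QuasiCompact h := by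
    haveI : QuasiCompact (pullback.fst G.hom ζ) := inferInstance
    haveI : QuasiCompact i.left := inferInstance
    infer_instance
  haveI := AlgGrp79.schDominant_toImage h
  let p : h.image ⟶ X := h.imageι ≫ G.hom
  have hw : i.left ≫ pullback.snd G.hom ζ = Hη.hom := Over.w i
  have hphom : h.toImage ≫ p = Hη.hom ≫ ζ := by
    rw [Scheme.Hom.toImage_imageι_assoc]
    simp [h, pullback.condition, ← hw]
  let H : Over X := Over.mk p
  let j : H ⟶ G := Over.homMk h.imageι rfl
  haveI : IsClosedImmersion j.left := inferInstanceAs (IsClosedImmersion h.imageι)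
  haveI : Flat H.hom := hflat h (by rw [show h ≫ G.hom = h.toImage ≫ p by rw [Scheme.Hom.toImage_imageι_assoc], hphom])
  obtain ⟨cι, hc1, hc2⟩ : ∃ cι : pullback p ζ ⟶ pullback G.hom ζ,
      cι ≫ pullback.fst _ _ = pullback.fst p ζ ≫ h.imageι ∧ cι ≫ pullback.snd _ _ = pullback.snd p ζ :=
    ⟨pullback.lift (pullback.fst p ζ ≫ h.imageι) (pullback.snd p ζ)
      (by rw [Category.assoc]; exact pullback.condition), pullback.lift_fst _ _ _, pullback.lift_snd _ _ _⟩
  obtain ⟨a, ha1, ha2⟩ : ∃ a : Hη.left ⟶ pullback p ζ,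
      a ≫ pullback.fst p ζ = h.toImage ∧ a ≫ pullback.snd p ζ = Hη.hom :=
    ⟨pullback.lift h.toImage Hη.hom hphom, pullback.lift_fst _ _ _, pullback.lift_snd _ _ _⟩
  have hac : a ≫ cι = i.left := by
    apply pullback.hom_ext
    · rw [Category.assoc, hc1, reassoc_of% ha1, Scheme.Hom.toImage_imageι]
    · rw [Category.assoc, hc2, ha2]
      exact hw.symm
  have hpb : IsPullback (𝟙 Hη.left) a h.toImage (pullback.fst p ζ) := by
    refine ⟨⟨by rw [Category.id_comp, ha1]⟩, ⟨PullbackCone.IsLimit.mk _ (fun s => s.fst)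
      (fun s => Category.comp_id _) (fun s => ?_) fun s m hm1 _ => by simpa using hm1⟩⟩
    apply pullback.hom_ext
    · rw [Category.assoc, ha1]
      exact s.condition
    · rw [← cancel_mono ζ, Category.assoc, Category.assoc, Category.assoc, reassoc_of% ha2,
        ← pullback.condition, ← hphom]
      exact s.condition_assoc p
  haveI : Flat (pullback.fst p ζ) := inferInstance
  haveI : QuasiCompact h.toImage := inferInstance
  haveI : IsSchemeTheoreticallyDominant a := IsSchemeTheoreticallyDominant.of_isPullback hpb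
  haveI : IsClosedImmersion cι := by
    have : IsPullback cι (pullback.fst p ζ) (pullback.fst G.hom ζ) h.imageι :=
      IsPullback.of_right (by rw [hc2]; exact (IsPullback.of_hasPullback p ζ).flip) hc1
        (IsPullback.of_hasPullback G.hom ζ).flip
    exact MorphismProperty.of_isPullback this.flip inferInstance
  haveI : IsClosedImmersion (a ≫ cι) := by rw [hac]; infer_instance
  haveI : IsClosedImmersion a := IsClosedImmersion.of_comp a cι
  haveI : IsIso a := IsClosedImmersion.isIso_iff_ker_eq_bot.2 a.ker_eq_bot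
  have hφ : IsPullback h.toImage Hη.hom H.hom ζ :=
    (IsPullback.of_hasPullback p ζ).of_iso (asIso a).symm (Iso.refl _) (Iso.refl _) (Iso.refl _)
      (by simp [← ha1]) (by simp [← ha2]) (by simp [H, p]) (by simp)
  have hφj : h.toImage ≫ j.left = i.left ≫ pullback.fst G.hom ζ := Scheme.Hom.toImage_imageι h
  have key : ∀ (B : Over X) [Flat B.hom] (θ : B ⟶ G),
      (∀ (T : Over K) (v : (Over.map ζ).obj T ⟶ B), ∃ x : T ⟶ Hη,
        RedPts82.toBase ζ (x ≫ i) = v ≫ θ) →
      ∃ θ' : B ⟶ H, θ' ≫ j = θ := by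
    intro B _ θ hθ
    let T : Over K := Over.mk (pullback.snd B.hom ζ)
    let v : (Over.map ζ).obj T ⟶ B := Over.homMk (pullback.fst B.hom ζ) pullback.condition
    haveI : IsSchemeTheoreticallyDominant v.left :=
      inferInstanceAs (IsSchemeTheoreticallyDominant (pullback.fst B.hom ζ))
    haveI : QuasiCompact v.left := inferInstanceAs (QuasiCompact (pullback.fst B.hom ζ))
    obtain ⟨x, hx⟩ := hθ T v
    let y : (Over.map ζ).obj T ⟶ H := Over.homMk (x.left ≫ h.toImage) (by
      show (x.left ≫ h.toImage) ≫ H.hom = T.hom ≫ ζ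
      rw [Category.assoc, hφ.w, ← Category.assoc, Over.w x])
    refine S18029.exists_lift_dom v θ j y (Over.OverMorphism.ext ?_)
    have hx' := congrArg (fun m => m.left) hx
    simp only [S18029.toBase_left', Over.comp_left, Category.assoc] at hx'
    show (x.left ≫ h.toImage) ≫ j.left = _
    rw [Category.assoc, hφj]
    exact hx'
  have pts : ∀ (T : Over K) (y : (Over.map ζ).obj T ⟶ H), ∃ x : T ⟶ Hη,
      RedPts82.toBase ζ (x ≫ i) = y ≫ j := by
    intro T y
    refine ⟨Over.homMk (hφ.lift y.left T.hom (Over.w y)) (hφ.lift_snd _ _ _), Over.OverMorphism.ext ?_⟩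
    rw [S18029.toBase_left', Over.comp_left, Over.comp_left]
    show (hφ.lift y.left T.hom (Over.w y) ≫ i.left) ≫ _ = y.left ≫ j.left
    rw [Category.assoc, ← hφj, ← Category.assoc, hφ.lift_fst]
  haveI : Mono j := by
    haveI : Mono ((Over.forget _).map j) := inferInstanceAs (Mono j.left)
    exact (Over.forget _).mono_of_mono_map inferInstance
  obtain ⟨m, hm⟩ : ∃ m : H ⊗ H ⟶ H, m ≫ j = (fst _ _ ≫ j) * (snd _ _ ≫ j) := by
    haveI : Flat (H ⊗ H).hom := by
      haveI : Flat (pullback.fst H.hom H.hom) := inferInstance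
      exact inferInstanceAs (Flat (pullback.fst H.hom H.hom ≫ H.hom))
    refine key _ _ fun T v => ?_
    obtain ⟨x, hx⟩ := pts T (v ≫ fst _ _)
    obtain ⟨x', hx'⟩ := pts T (v ≫ snd _ _)
    refine ⟨x * x', ?_⟩
    rw [MonObj.mul_comp, RedPts82.toBase_mul, hx, hx', MonObj.comp_mul, Category.assoc, Category.assoc]
  obtain ⟨n, hn⟩ : ∃ n : H ⟶ H, n ≫ j = j⁻¹ := by
    refine key _ _ fun T v => ?_
    obtain ⟨x, hx⟩ := pts T v
    refine ⟨x⁻¹, ?_⟩
    rw [GrpObj.inv_comp, RedPts82.toBase_inv, hx, GrpObj.comp_inv]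
  obtain ⟨e, he⟩ : ∃ e : 𝟙_ _ ⟶ H, e ≫ j = 1 := by
    haveI : Flat (𝟙_ (Over X)).hom := inferInstanceAs (Flat (𝟙 _))
    refine key _ _ fun T v => ⟨1, ?_⟩
    rw [MonObj.one_comp, RedPts82.toBase_one, MonObj.comp_one]
  obtain ⟨_, hmon⟩ := RedPts82.exists_grpObj_mono j
    (fun T => ⟨toUnit T ≫ e, by rw [Category.assoc, he, MonObj.comp_one]⟩)
    (fun T a b => ⟨lift a b ≫ m, by
      rw [Category.assoc, hm, MonObj.comp_mul, lift_fst_assoc, lift_snd_assoc]⟩)
    (fun T a => ⟨a ≫ n, by rw [Category.assoc, hn, GrpObj.comp_inv]⟩)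
  exact ⟨H, ‹_›, j, h.toImage, hmon, inferInstance, inferInstance, hφ, hφj, h.toImage.ker_eq_bot⟩

theorem exists_flat_closure_subgroup (R : Type u) [CommRing R] [IsDedekindDomain R]
    (G : Over (Spec (CommRingCat.of R))) [GrpObj G]
    (HK : Over (Spec (CommRingCat.of (FractionRing R)))) [GrpObj HK]
    (i : HK ⟶ Red.bc (Neron.genPt R) G) [IsMonHom i] [IsClosedImmersion i.left] :
    ∃ (H : Over (Spec (CommRingCat.of R))) (_ : GrpObj H) (j : H ⟶ G) (φ : HK.left ⟶ H.left),
      IsMonHom j ∧ IsClosedImmersion j.left ∧ Flat H.hom ∧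
      IsPullback φ HK.hom H.hom (Neron.genPt R) ∧
      φ ≫ j.left = i.left ≫ pullback.fst G.hom (Neron.genPt R) ∧
      φ.ker = ⊥ := by
  haveI : Flat (Neron.genPt R) := by
    rw [Flat.SpecMap_iff, CommRingCat.hom_ofHom, RingHom.flat_algebraMap_iff]
    exact IsLocalization.flat _ (nonZeroDivisors R)
  haveI : IsPreimmersion (Neron.genPt R) := IsPreimmersion.of_isLocalization (nonZeroDivisors R)
  haveI : Mono (Neron.genPt R) := inferInstance
  haveI : IsAffineHom (Neron.genPt R) := inferInstance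
  haveI : IsDominant (Neron.genPt R) := by
    rw [isDominant_iff]
    show DenseRange (PrimeSpectrum.comap (algebraMap R (FractionRing R)))
    refine (PrimeSpectrum.denseRange_comap_iff_ker_le_nilRadical (algebraMap R (FractionRing R))).2 ?_
    rw [(RingHom.injective_iff_ker_eq_bot _).1 (IsFractionRing.injective R (FractionRing R))]
    exact bot_le
  haveI : IsReduced (Spec (CommRingCat.of R)) := inferInstance
  haveI : IsSchemeTheoreticallyDominant (Neron.genPt R) := .of_isDominant _
  refine exists_closure_subgroup G (Neron.genPt R) HK i fun h hh => ?_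
  haveI : Flat HK.hom := inferInstance
  haveI : Flat (HK.hom ≫ Neron.genPt R) := inferInstance
  exact S19202.result R (HK.hom ≫ Neron.genPt R) G.hom h hh

end Groth.Agent.NeronHD28
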