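import Groth.Agent.NeronHD28.Proper

/-! Morphisms of generic fibres into proper groups extend. -/

set_option autoImplicit false
universe u

open CategoryTheory CategoryTheory.Limits AlgebraicGeometry

namespace Groth.Agent.NeronHD28

theorem ext_of_dense_agree {Z G S : Scheme.{u}} [IsReduced Z] (p : G ⟶ S) [IsSeparated p] (a b : Z ⟶ G)
    (hab : a ≫ p = b ≫ p)
    (h : ∀ z : Z, ∃ (T : Scheme.{u}) (c : T ⟶ Z) (t : T), c.base t ⤳ z ∧ c ≫ a = c ≫ b) : a = b := by
  let L := pullback.lift a b hab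
  let D := pullback.diagonal p
  let e := pullback.fst L D
  have : IsClosedImmersion e := inferInstance
  have hea : e ≫ a = e ≫ b := by
    have hc := pullback.condition (f := L) (g := D)
    have h1 := congrArg (· ≫ pullback.fst p p) hc
    have h2 := congrArg (· ≫ pullback.snd p p) hc
    simp only [L, D, Category.assoc, pullback.lift_fst, pullback.lift_snd, pullback.diagonal_fst,
      pullback.diagonal_snd, Category.comp_id] at h1 h2
    exact h1.trans h2.symm
  have : IsDominant e := ⟨fun z => by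
    obtain ⟨T, c, t, htz, hc⟩ := h z
    let m : T ⟶ pullback L D := pullback.lift c (c ≫ a) (by
      apply pullback.hom_ext
      · simp only [L, D, Category.assoc, pullback.lift_fst, pullback.diagonal_fst, Category.comp_id]
      · simp only [L, D, Category.assoc, pullback.lift_snd, pullback.diagonal_snd, Category.comp_id, hc])
    refine closure_mono (s := {c.base t}) ?_ htz.mem_closure
    rintro _ rfl
    exact ⟨m.base t, by rw [← Scheme.Hom.comp_apply, pullback.lift_fst]⟩⟩
  exact ext_of_isDominant_of_isSeparated p hab e hea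

variable {R : Type u} [CommRing R] [IsDedekindDomain R] {X G : Scheme.{u}}
  (pX : X ⟶ Spec (CommRingCat.of R)) [Smooth pX]

theorem eq_of_specializes_of_dim_zero (η : X) (hη : ringKrullDim (X.presheaf.stalk η) ≤ 0) (y : X) (h : y ⤳ η) :
    y = η := by
  have : Ring.KrullDimLE 0 (X.presheaf.stalk η) := Ring.krullDimLE_iff.2 hη
  have : y ∈ Set.range (X.fromSpecStalk η).base := by rw [Scheme.range_fromSpecStalk]; exact h
  obtain ⟨c, rfl⟩ := this
  have hc : c = IsLocalRing.closedPoint (X.presheaf.stalk η) :=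
    PrimeSpectrum.ext (IsLocalRing.eq_maximalIdeal (Ideal.IsPrime.isMaximal' (hI := c.isPrime)))
  rw [hc, Scheme.fromSpecStalk_closedPoint]

include pX in
theorem exists_maximal_specializes (y : X) : ∃ η : X, η ⤳ y ∧ ringKrullDim (X.presheaf.stalk η) ≤ 0 := by
  have := isDomain_stalk_of_smooth pX y
  refine ⟨(X.fromSpecStalk y).base (⊥ : PrimeSpectrum (X.presheaf.stalk y)), ?_, ?_⟩
  · have h : (X.fromSpecStalk y).base (⊥ : PrimeSpectrum (X.presheaf.stalk y)) ∈ Set.range (X.fromSpecStalk y).base :=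
      ⟨_, rfl⟩
    rw [Scheme.range_fromSpecStalk] at h
    exact h
  · rw [ringKrullDim_stalk_fromSpecStalk]
    rw [show (⊥ : PrimeSpectrum (X.presheaf.stalk y)).asIdeal = ⊥ from rfl, Ideal.height_bot]
    rfl

theorem exists_factor_genPt (η : X) (hη : ringKrullDim (X.presheaf.stalk η) ≤ 0) :
    ∃ c : Spec (X.presheaf.stalk η) ⟶ pullback pX (Neron.genPt R),
      c ≫ pullback.fst _ _ = X.fromSpecStalk η := by
  obtain ⟨ψ, hψ⟩ := Spec.map_surjective (X.fromSpecStalk η ≫ pX)
  have hbot : pX.base η = (⊥ : PrimeSpectrum R) := by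
    obtain ⟨η', hη', h⟩ := Flat.generalizingMap pX
      (show (⊥ : PrimeSpectrum R) ⤳ pX.base η from (PrimeSpectrum.le_iff_specializes _ _).1 bot_le)
    rw [← h, eq_of_specializes_of_dim_zero η hη η' hη']
  have := isDomain_stalk_of_smooth pX η
  have hinj : Function.Injective ψ.hom := by
    rw [RingHom.injective_iff_ker_eq_bot, eq_bot_iff]
    intro r hr
    have h1 : (Spec.map ψ).base (IsLocalRing.closedPoint (X.presheaf.stalk η)) = (⊥ : PrimeSpectrum R) := by
      rw [hψ, Scheme.Hom.comp_apply, Scheme.fromSpecStalk_closedPoint, hbot]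
    have h2 : r ∈ ((Spec.map ψ).base (IsLocalRing.closedPoint (X.presheaf.stalk η))).asIdeal := by
      show ψ.hom r ∈ IsLocalRing.maximalIdeal _
      rw [RingHom.mem_ker.1 hr]
      exact Submodule.zero_mem _
    rw [h1] at h2
    exact h2
  have hfield : IsField (X.presheaf.stalk η) := by
    have : Ring.KrullDimLE 0 (X.presheaf.stalk η) := Ring.krullDimLE_iff.2 hη
    exact Ring.KrullDimLE.isField_of_isDomain
  let := hfield.toField
  obtain ⟨κ, hκ⟩ := exists_fracLift (K := FractionRing R) (L := X.presheaf.stalk η) ψ.hom hinj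
  refine ⟨pullback.lift (X.fromSpecStalk η) (Spec.map (CommRingCat.ofHom κ)) ?_, pullback.lift_fst _ _ _⟩
  rw [← hψ, Neron.genPt, ← Spec.map_comp]
  congr 1
  exact CommRingCat.hom_ext hκ.symm

theorem exists_open_of_generic (pG : G ⟶ Spec (CommRingCat.of R)) [LocallyOfFiniteType pG]
    (w : pullback pX (Neron.genPt R) ⟶ G) (hw : w ≫ pG = pullback.fst pX (Neron.genPt R) ≫ pX) :
    ∃ (U : X.Opens) (f : (U : Scheme.{u}) ⟶ G), Dense (U : Set X) ∧ f ≫ pG = U.ι ≫ pX ∧
      ∀ η : X, ringKrullDim (X.presheaf.stalk η) ≤ 0 → ∃ (c : Spec (X.presheaf.stalk η) ⟶ pullback pX (Neron.genPt R))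
        (m : Spec (X.presheaf.stalk η) ⟶ (U : Scheme.{u})),
        c ≫ pullback.fst _ _ = X.fromSpecStalk η ∧ m ≫ U.ι = X.fromSpecStalk η ∧ m ≫ f = c ≫ w := by
  have := isLocallyNoetherian_of_smooth pX
  let M := {η : X // ringKrullDim (X.presheaf.stalk η) ≤ 0}
  have hloc : ∀ η : M, ∃ (c : Spec (X.presheaf.stalk η.1) ⟶ pullback pX (Neron.genPt R)) (W : X.Opens)
      (hW : η.1 ∈ W) (g : (W : Scheme.{u}) ⟶ G), c ≫ pullback.fst _ _ = X.fromSpecStalk η.1 ∧
      c ≫ w = W.fromSpecStalkOfMem η.1 hW ≫ g ∧ g ≫ pG = W.ι ≫ pX ∧ ∀ z ∈ W, η.1 ⤳ z := by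
    intro η
    have := isDomain_stalk_of_smooth pX η.1
    obtain ⟨c, hc⟩ := exists_factor_genPt pX η.1 η.2
    obtain ⟨W₀, hW₀, hgen⟩ := EGA73.exists_irreducible_nbhd η.1
    obtain ⟨W₁, hW₁, g₁, hg₁, hg₁p⟩ := spread_out_of_isGermInjective' pX pG (c ≫ w)
      (by rw [Category.assoc, hw, ← Category.assoc, hc])
    refine ⟨c, W₀ ⊓ W₁, ⟨hW₀, hW₁⟩, X.homOfLE inf_le_right ≫ g₁, hc, ?_, ?_, fun z hz => ?_⟩
    · rw [hg₁, ← Category.assoc]
      congr 1
      rw [← cancel_mono W₁.ι, Category.assoc, Scheme.homOfLE_ι, Scheme.Opens.fromSpecStalkOfMem_ι,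
        Scheme.Opens.fromSpecStalkOfMem_ι]
    · rw [Category.assoc, hg₁p, ← Category.assoc, Scheme.homOfLE_ι]
    · have h := hgen z hz.1
      have : (X.fromSpecStalk η.1).base (genericPoint (Spec (X.presheaf.stalk η.1))) = η.1 := by
        refine eq_of_specializes_of_dim_zero η.1 η.2 _ ?_
        have h2 : (X.fromSpecStalk η.1).base (genericPoint (Spec (X.presheaf.stalk η.1))) ∈
            Set.range (X.fromSpecStalk η.1).base := ⟨_, rfl⟩
        rw [Scheme.range_fromSpecStalk] at h2
        exact h2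
      rwa [this] at h
  choose c W hW g hc hcw hg hgen using hloc
  obtain ⟨f, hf⟩ := EGA73.exists_glue_opens W g fun i j T a b hab _ => by
    by_cases hne : Nonempty T
    · obtain ⟨t⟩ := hne
      have e : (W i).ι.base (a.base t) = (W j).ι.base (b.base t) := by
        rw [← Scheme.Hom.comp_apply, hab, Scheme.Hom.comp_apply]
      have h1 : i.1 ⤳ (W i).ι.base (a.base t) := hgen i _ (a.base t).2
      have h2 : j.1 ⤳ (W i).ι.base (a.base t) := e ▸ hgen j _ (b.base t).2
      obtain rfl : i = j := by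
        refine Subtype.ext ?_
        have : IsDomain (X.presheaf.stalk ((W i).ι.base (a.base t))) := isDomain_stalk_of_smooth pX _
        have key : ∀ η : M, η.1 ⤳ (W i).ι.base (a.base t) →
            η.1 = (X.fromSpecStalk ((W i).ι.base (a.base t))).base
              (⊥ : PrimeSpectrum (X.presheaf.stalk ((W i).ι.base (a.base t)))) := by
          intro η hη
          have hr : η.1 ∈ Set.range (X.fromSpecStalk ((W i).ι.base (a.base t))).base := by
            rw [Scheme.range_fromSpecStalk]; exact hη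
          obtain ⟨q, hq⟩ := hr
          refine (eq_of_specializes_of_dim_zero η.1 η.2 _ ?_).symm
          rw [← hq]
          exact ((PrimeSpectrum.le_iff_specializes _ _).1 bot_le).map (Scheme.Hom.continuous _)
        rw [key i h1, key j h2]
      rw [(cancel_mono (W i).ι).1 hab]
    · have : IsEmpty T := not_nonempty_iff.1 hne
      exact isInitialOfIsEmpty.hom_ext _ _
  refine ⟨⨆ i, W i, f, ?_, ?_, fun η hη => ⟨c ⟨η, hη⟩, (W ⟨η, hη⟩).fromSpecStalkOfMem η (hW ⟨η, hη⟩) ≫
    X.homOfLE (le_iSup W ⟨η, hη⟩), hc _, ?_, ?_⟩⟩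
  · intro y
    obtain ⟨η, hη, hη0⟩ := exists_maximal_specializes pX y
    exact hη.mem_closed isClosed_closure (subset_closure (TopologicalSpace.Opens.mem_iSup.2 ⟨⟨η, hη0⟩, hW _⟩))
  · refine Scheme.Cover.hom_ext (Scheme.Opens.iSupOpenCover W) _ _ fun o => ?_
    change X.homOfLE (le_iSup W o) ≫ _ = X.homOfLE (le_iSup W o) ≫ _
    rw [← Category.assoc, hf, hg, ← Category.assoc, Scheme.homOfLE_ι]
  · rw [Category.assoc, Scheme.homOfLE_ι, Scheme.Opens.fromSpecStalkOfMem_ι]
  · rw [Category.assoc, hf, hcw]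

/-- A morphism on the generic fibre to a proper group extends uniquely. -/
theorem existsUnique_extension_generic (pG : G ⟶ Spec (CommRingCat.of R)) [GrpObj (Over.mk pG)] [IsProper pG]
    (w : pullback pX (Neron.genPt R) ⟶ G) (hw : w ≫ pG = pullback.fst pX (Neron.genPt R) ≫ pX) :
    ∃! g : X ⟶ G, g ≫ pG = pX ∧ pullback.fst pX (Neron.genPt R) ≫ g = w := by
  obtain ⟨U, f, hU, hf, hη⟩ := exists_open_of_generic pX pG w hw
  obtain ⟨g, ⟨hg, hgU⟩, -⟩ := existsUnique_extension_proper pX pG U hU f hf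
  have hsch := schDom_fst_genPt pX
  have hred : IsReduced (pullback pX (Neron.genPt R)) := isReduced_of_smooth (pullback.snd pX (Neron.genPt R))
  refine ⟨g, ⟨hg, ext_of_dense_agree pG _ _ (by rw [Category.assoc, hg, hw]) fun z => ?_⟩, fun g' hg' => ?_⟩
  · obtain ⟨η, hηz, hη0⟩ := exists_maximal_specializes pX ((pullback.fst pX (Neron.genPt R)).base z)
    obtain ⟨c, m, hc, hm, hmf⟩ := hη η hη0
    refine ⟨_, c, IsLocalRing.closedPoint _, ?_, ?_⟩
    · have : IsPreimmersion (Neron.genPt R) := IsPreimmersion.of_isLocalization (nonZeroDivisors R)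
      rw [← (pullback.fst pX (Neron.genPt R)).isEmbedding.isInducing.specializes_iff, ← Scheme.Hom.comp_apply, hc,
        Scheme.fromSpecStalk_closedPoint]
      exact hηz
    · rw [← Category.assoc, hc, ← hm, Category.assoc, hgU, hmf]
  · have hgen : pullback.fst pX (Neron.genPt R) ≫ g = w := by
      refine ext_of_dense_agree pG _ _ (by rw [Category.assoc, hg, hw]) fun z => ?_
      obtain ⟨η, hηz, hη0⟩ := exists_maximal_specializes pX ((pullback.fst pX (Neron.genPt R)).base z)
      obtain ⟨c, m, hc, hm, hmf⟩ := hη η hη0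
      refine ⟨_, c, IsLocalRing.closedPoint _, ?_, ?_⟩
      · have : IsPreimmersion (Neron.genPt R) := IsPreimmersion.of_isLocalization (nonZeroDivisors R)
        rw [← (pullback.fst pX (Neron.genPt R)).isEmbedding.isInducing.specializes_iff, ← Scheme.Hom.comp_apply, hc,
          Scheme.fromSpecStalk_closedPoint]
        exact hηz
      · rw [← Category.assoc, hc, ← hm, Category.assoc, hgU, hmf]
    exact ext_of_schDom (pullback.fst pX (Neron.genPt R)) pG _ _ (by rw [hg'.1, hg]) (by rw [hg'.2, hgen])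

end Groth.Agent.NeronHD28
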