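import Groth.Agent.Unr55.SmoothStalkCor
import Groth.Agent.Props58.Stalks
import Groth.Agent.CAlg1.Regular
import Mathlib.AlgebraicGeometry.Morphisms.Smooth
import Mathlib.AlgebraicGeometry.Properties

/-! Schemes smooth over a Dedekind domain. -/

set_option autoImplicit false
universe u

open CategoryTheory CategoryTheory.Limits AlgebraicGeometry

namespace Groth.Agent.NeronHD28

variable {R : Type u} [CommRing R] [IsDedekindDomain R]

theorem regular_stalk_spec (t : Spec (CommRingCat.of R)) :
    IsRegularLocalRing ((Spec (CommRingCat.of R)).presheaf.stalk t) := by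
  let tt : PrimeSpectrum R := t
  have h : IsRegularLocalRing (Localization.AtPrime tt.asIdeal) := inferInstance
  let e : Localization.AtPrime tt.asIdeal ≃+* (Spec (CommRingCat.of R)).presheaf.stalk t :=
    (IsLocalization.algEquiv tt.asIdeal.primeCompl (Localization.AtPrime tt.asIdeal)
      ((Spec.structureSheaf R).presheaf.stalk tt)).toRingEquiv
  exact IsRegularLocalRing.of_ringEquiv e

variable {Y : Scheme.{u}} (q : Y ⟶ Spec (CommRingCat.of R)) [Smooth q]
include q

theorem isLocallyNoetherian_of_smooth : IsLocallyNoetherian Y :=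
  LocallyOfFiniteType.isLocallyNoetherian q

theorem regular_stalk_of_smooth (y : Y) : IsRegularLocalRing (Y.presheaf.stalk y) :=
  (Unr55.isRegularLocalRing_stalk_iff_of_smooth q y
    (Scheme.Hom.mem_smoothLocus.mp ((Scheme.Hom.smoothLocus_eq_top q).ge trivial))).2 (regular_stalk_spec _)

theorem isDomain_stalk_of_smooth (y : Y) : IsDomain (Y.presheaf.stalk y) := by
  have := regular_stalk_of_smooth q y
  exact CAlg1.isDomain_regular _

theorem isReduced_of_smooth : IsReduced Y := by
  have : ∀ y : Y, _root_.IsReduced (Y.presheaf.stalk y) := fun y => by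
    have := isDomain_stalk_of_smooth q y
    infer_instance
  exact isReduced_of_isReduced_stalk Y

omit q in
/-- The dimension of the local ring at a generization. -/
theorem ringKrullDim_stalk_fromSpecStalk (X : Scheme.{u}) (x : X) (z : PrimeSpectrum (X.presheaf.stalk x)) :
    ringKrullDim (X.presheaf.stalk ((X.fromSpecStalk x) z)) = (z.asIdeal.height : WithBot ℕ∞) := by
  have := Props58.isIso_stalkMap_fromSpecStalk X x z
  rw [ringKrullDim_eq_of_ringEquiv ((asIso ((X.fromSpecStalk x).stalkMap z)).commRingCatIsoToRingEquiv.trans
    (IsLocalization.algEquiv z.asIdeal.primeCompl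
      ((Spec.structureSheaf (X.presheaf.stalk x)).presheaf.stalk z) (Localization.AtPrime z.asIdeal)).toRingEquiv)]
  exact IsLocalization.AtPrime.ringKrullDim_eq_height z.asIdeal _

end Groth.Agent.NeronHD28
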