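import Groth.Agent.NeronHD28.FlatIffQF
import Groth.Agent.NeronHD28.SmoothReg
import Groth.Agent.E4O.RectDepthSemicont
import Groth.Agent.SGA3a.GrpHomFinite
import Mathlib.AlgebraicGeometry.Morphisms.QuasiFinite
import Mathlib.AlgebraicGeometry.Morphisms.Flat
import Mathlib.AlgebraicGeometry.FunctionField

/-! Flatness and quasi-finiteness of generically finite morphisms of regular integral schemes. -/

set_option autoImplicit false
set_option linter.style.haveILetI false
universe u

open CategoryTheory CategoryTheory.Limits AlgebraicGeometry TopologicalSpace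

namespace Groth.Agent.NeronHD28

variable {X Y : Scheme.{u}} [IsIntegral X] [IsIntegral Y] [IsLocallyNoetherian Y]

theorem flat_iff_locallyQuasiFinite_of_regular (f : X ⟶ Y) [LocallyOfFiniteType f]
    (hX : ∀ x : X, IsRegularLocalRing (X.presheaf.stalk x)) (hY : ∀ y : Y, IsRegularLocalRing (Y.presheaf.stalk y))
    (hdom : f (genericPoint X) = genericPoint Y) (hfin : (f ⁻¹' {genericPoint Y}).Finite) :
    Flat f ↔ LocallyQuasiFinite f := by
  haveI : IsLocallyNoetherian X := LocallyOfFiniteType.isLocallyNoetherian f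
  rw [HasRingHomProperty.iff_appLE (P := @Flat), HasRingHomProperty.iff_appLE (P := @LocallyQuasiFinite)]
  refine forall_congr' fun V => forall_congr' fun U => forall_congr' fun e => ?_
  rcases isEmpty_or_nonempty (U.1 : Set X) with hU | hU
  · haveI : Subsingleton Γ(X, U.1) :=
      CommRingCat.subsingleton_of_isTerminal (X.sheaf.isTerminalOfEqEmpty (Opens.ext (Set.eq_empty_of_isEmpty _)))
    algebraize [(f.appLE V U e).hom]
    exact ⟨fun _ => (inferInstance : Algebra.QuasiFinite Γ(Y, V.1) Γ(X, U.1)),
      fun _ => (inferInstance : Module.Flat Γ(Y, V.1) Γ(X, U.1))⟩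
  haveI : Nonempty (U.1 : Scheme.{u}) := hU
  haveI : Nonempty (V.1 : Scheme.{u}) := ⟨⟨f hU.some.1, e hU.some.2⟩⟩
  haveI := E4O.isRegularRing_sections hX U.2
  haveI := E4O.isRegularRing_sections hY V.2
  haveI : IsDomain Γ(X, U.1) := inferInstance
  haveI : IsDomain Γ(Y, V.1) := inferInstance
  have hft : (f.appLE V U e).hom.FiniteType := HasRingHomProperty.appLE @LocallyOfFiniteType f ‹_› V U e
  haveI hiU : IsOpenImmersion U.2.fromSpec := IsAffineOpen.isOpenImmersion_fromSpec _
  haveI hiV : IsOpenImmersion V.2.fromSpec := IsAffineOpen.isOpenImmersion_fromSpec _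
  have key : ∀ q : PrimeSpectrum Γ(X, U.1),
      V.2.fromSpec (Spec.map (f.appLE V U e) q) = f (U.2.fromSpec q) := fun q => by
    exact congr($(IsAffineOpen.SpecMap_appLE_fromSpec f V.2 U.2 e) q)
  have hgU : U.2.fromSpec (⊥ : PrimeSpectrum Γ(X, U.1)) = genericPoint X := by
    rw [← genericPoint_eq_bot_of_affine Γ(X, U.1)]
    exact genericPoint_eq_of_isOpenImmersion U.2.fromSpec
  have hgV : V.2.fromSpec (⊥ : PrimeSpectrum Γ(Y, V.1)) = genericPoint Y := by
    rw [← genericPoint_eq_bot_of_affine Γ(Y, V.1)]
    exact genericPoint_eq_of_isOpenImmersion V.2.fromSpec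
  have hbot : (⊥ : Ideal Γ(X, U.1)).comap (f.appLE V U e).hom = ⊥ := by
    have h := key (⊥ : PrimeSpectrum Γ(X, U.1))
    rw [hgU, hdom, ← hgV] at h
    exact congrArg PrimeSpectrum.asIdeal (V.2.fromSpec.isOpenEmbedding.injective h)
  algebraize [(f.appLE V U e).hom]
  haveI : FaithfulSMul Γ(Y, V.1) Γ(X, U.1) := (faithfulSMul_iff_algebraMap_injective _ _).2 (by
    rw [RingHom.injective_iff_ker_eq_bot, RingHom.ker_eq_comap_bot]
    exact hbot)
  have hprimes : ((⊥ : Ideal Γ(Y, V.1)).primesOver Γ(X, U.1)).Finite := by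
    refine (((hfin.preimage U.2.fromSpec.isOpenEmbedding.injective.injOn)).image PrimeSpectrum.asIdeal).subset ?_
    rintro q ⟨hq, ho⟩
    refine ⟨⟨q, hq⟩, ?_, rfl⟩
    show f (U.2.fromSpec ⟨q, hq⟩) = genericPoint Y
    rw [← key, ← hgV]
    exact congrArg V.2.fromSpec (PrimeSpectrum.ext ho.over.symm)
  have h0 := trdeg_eq_zero_of_finite_primesOver_bot _ _ hprimes
  exact ⟨fun (_ : Module.Flat Γ(Y, V.1) Γ(X, U.1)) => quasiFinite_of_flat _ _ h0,
    fun (_ : Algebra.QuasiFinite Γ(Y, V.1) Γ(X, U.1)) => flat_of_quasiFinite _ _ h0⟩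

variable {R : Type u} [CommRing R] [IsDedekindDomain R]

/-- A smooth scheme over a Dedekind domain with irreducible generic fibre is integral and its generic point
lies over the generic point. -/
theorem isIntegral_of_smooth_dedekind {Z : Scheme.{u}} (z : Z ⟶ Spec (CommRingCat.of R)) [Smooth z]
    [IrreducibleSpace ↥(pullback z (Neron.genPt R))] : IsIntegral Z := by
  haveI := isReduced_of_smooth z
  let pr := pullback.fst z (Neron.genPt R)
  have hd : closure (Set.range pr) = Set.univ := Set.eq_univ_of_forall fun x => by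
    obtain ⟨x', hx', hp⟩ := Flat.generalizingMap z
      (show (⊥ : PrimeSpectrum R) ⤳ z x from (PrimeSpectrum.le_iff_specializes _ _).1 bot_le)
    refine hx'.mem_closed isClosed_closure (subset_closure ?_)
    rw [Scheme.Pullback.range_fst]
    refine ⟨IsLocalRing.closedPoint _, PrimeSpectrum.ext ?_⟩
    rw [show z x' = (⊥ : PrimeSpectrum R) from hp]
    show (IsLocalRing.maximalIdeal (FractionRing R)).comap (algebraMap R (FractionRing R)) = ⊥
    rw [(IsLocalRing.maximalIdeal (FractionRing R)).eq_bot_of_prime, ← RingHom.ker_eq_comap_bot,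
      (RingHom.injective_iff_ker_eq_bot _).1 (IsFractionRing.injective R (FractionRing R))]
  have h := ((IrreducibleSpace.isIrreducible_univ _).image pr pr.continuous.continuousOn).closure
  rw [Set.image_univ, hd] at h
  haveI : IrreducibleSpace Z := (irreducibleSpace_def Z).2 h
  exact isIntegral_of_irreducibleSpace_of_isReduced Z

theorem genericPoint_map_genPt {Z : Scheme.{u}} (z : Z ⟶ Spec (CommRingCat.of R)) [Smooth z] [IsIntegral Z] :
    z (genericPoint Z) = (⊥ : PrimeSpectrum R) := by
  obtain ⟨x', hx', hp⟩ := Flat.generalizingMap z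
    (show (⊥ : PrimeSpectrum R) ⤳ z (genericPoint Z) from (PrimeSpectrum.le_iff_specializes _ _).1 bot_le)
  rwa [(((genericPoint_spec Z).specializes trivial).antisymm hx').eq]

end Groth.Agent.NeronHD28

namespace Groth.Agent.NeronHD28

variable {R : Type u} [CommRing R] [IsDedekindDomain R]

open MonoidalCategory CartesianMonoidalCategory MonObj in
/-- For group schemes smooth over a Dedekind domain with integral generic fibres, a generically finite
surjective homomorphism is flat if and only if it is quasi-finite. -/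
theorem flat_iff_locallyQuasiFinite_of_generic_finite (A B : Over (Spec (CommRingCat.of R)))
    [Smooth A.hom] [Smooth B.hom] [IrreducibleSpace ↥(pullback A.hom (Neron.genPt R))]
    [IrreducibleSpace ↥(pullback B.hom (Neron.genPt R))]
    (φ : A ⟶ B) [IsFinite ((Neron.genericFibre R).map φ).left] [Surjective ((Neron.genericFibre R).map φ).left] :
    Flat φ.left ↔ LocallyQuasiFinite φ.left := by
  haveI := isIntegral_of_smooth_dedekind A.hom
  haveI := isIntegral_of_smooth_dedekind B.hom
  haveI : IsLocallyNoetherian B.left := isLocallyNoetherian_of_smooth B.hom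
  haveI : LocallyOfFiniteType φ.left := by
    haveI : LocallyOfFiniteType (φ.left ≫ B.hom) := by rw [Over.w φ]; infer_instance
    exact locallyOfFiniteType_of_comp φ.left B.hom
  let g := Neron.genPt R
  let φK := ((Neron.genericFibre R).map φ).left
  have hφK : φK ≫ pullback.fst B.hom g = pullback.fst A.hom g ≫ φ.left := pullback.lift_fst _ _ _
  have hrange : ∀ {Z : Scheme.{u}} (z : Z ⟶ Spec (CommRingCat.of R)) (x : Z),
      z x = (⊥ : PrimeSpectrum R) → x ∈ Set.range (pullback.fst z g) := fun z x hx => by
    rw [Scheme.Pullback.range_fst]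
    refine ⟨IsLocalRing.closedPoint _, PrimeSpectrum.ext ?_⟩
    rw [hx]
    show (IsLocalRing.maximalIdeal (FractionRing R)).comap (algebraMap R (FractionRing R)) = ⊥
    rw [(IsLocalRing.maximalIdeal (FractionRing R)).eq_bot_of_prime, ← RingHom.ker_eq_comap_bot,
      (RingHom.injective_iff_ker_eq_bot _).1 (IsFractionRing.injective R (FractionRing R))]
  refine flat_iff_locallyQuasiFinite_of_regular φ.left (regular_stalk_of_smooth A.hom)
    (regular_stalk_of_smooth B.hom) ?_ ?_
  · obtain ⟨b, hb⟩ := hrange B.hom (genericPoint B.left) (genericPoint_map_genPt B.hom)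
    obtain ⟨a, ha⟩ := φK.surjective b
    have h1 : φ.left (pullback.fst A.hom g a) = genericPoint B.left := by
      rw [← Scheme.Hom.comp_apply, ← hφK, Scheme.Hom.comp_apply, ha, hb]
    refine (Specializes.antisymm ((genericPoint_spec B.left).specializes trivial) ?_).eq.symm
    rw [← h1]
    exact ((genericPoint_spec A.left).specializes trivial).map φ.left.continuous
  · refine (((φK.finite_preimage_singleton (hrange B.hom (genericPoint B.left)
      (genericPoint_map_genPt B.hom)).choose).image (pullback.fst A.hom g))).subset ?_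
    intro x hx
    obtain ⟨a, rfl⟩ := hrange A.hom x (by
      rw [← Over.w φ, Scheme.Hom.comp_apply, show φ.left x = genericPoint B.left from hx]
      exact genericPoint_map_genPt B.hom)
    refine ⟨a, ?_, rfl⟩
    haveI : IsPreimmersion g := IsPreimmersion.of_isLocalization (nonZeroDivisors R)
    apply (pullback.fst B.hom g).isEmbedding.injective
    rw [(hrange B.hom (genericPoint B.left) (genericPoint_map_genPt B.hom)).choose_spec,
      ← Scheme.Hom.comp_apply, hφK, Scheme.Hom.comp_apply]
    exact hx

end Groth.Agent.NeronHD28
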