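import Groth.Agent.NeronHD28.Ext
import Groth.Prelude.Def_Neron
import Mathlib.AlgebraicGeometry.Morphisms.SchemeTheoreticallyDominant
import Mathlib.AlgebraicGeometry.Morphisms.Flat

/-! The generic fibre of a flat scheme is scheme-theoretically dominant. -/

set_option autoImplicit false
universe u

open CategoryTheory CategoryTheory.Limits AlgebraicGeometry

namespace Groth.Agent.NeronHD28

variable {R : Type u} [CommRing R] [IsDomain R]

theorem schDom_genPt : IsSchemeTheoreticallyDominant (Neron.genPt R) := by
  rw [isSchemeTheoreticallyDominant_iff_isDominant]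
  refine ⟨?_⟩
  exact (PrimeSpectrum.denseRange_comap_iff_ker_le_nilRadical _).2 (by
    show RingHom.ker (algebraMap R (FractionRing R)) ≤ _
    rw [(RingHom.injective_iff_ker_eq_bot _).1 (IsFractionRing.injective R (FractionRing R))]
    exact bot_le)

theorem schDom_fst_genPt {Y : Scheme.{u}} (y : Y ⟶ Spec (CommRingCat.of R)) [Flat y] :
    IsSchemeTheoreticallyDominant (pullback.fst y (Neron.genPt R)) := by
  have := schDom_genPt (R := R)
  exact IsSchemeTheoreticallyDominant.of_isPullback (IsPullback.of_hasPullback y (Neron.genPt R)).flip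

theorem exists_lift_of_schDom {V W X G : Scheme.{u}} (j : V ⟶ W) [IsSchemeTheoreticallyDominant j]
    (i : G ⟶ X) [IsClosedImmersion i] (g : W ⟶ X) (l : V ⟶ G) (h : l ≫ i = j ≫ g) :
    ∃ g' : W ⟶ G, g' ≫ i = g := by
  let m : V ⟶ pullback i g := pullback.lift l j h
  have hm : m ≫ pullback.snd i g = j := pullback.lift_snd _ _ _
  have hker : (pullback.snd i g).ker = ⊥ := by
    have := Scheme.Hom.le_ker_comp m (pullback.snd i g)
    rw [hm, IsSchemeTheoreticallyDominant.ker_eq_bot (f := j)] at this
    exact le_bot_iff.mp this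
  have : IsIso (pullback.snd i g) := by
    have h0 : IsIso (pullback.snd i g).imageι := by
      show IsIso (Scheme.IdealSheafData.subschemeι _)
      rw [hker]; infer_instance
    rw [← (pullback.snd i g).toImage_imageι]
    infer_instance
  exact ⟨inv (pullback.snd i g) ≫ pullback.fst i g, by
    rw [Category.assoc, pullback.condition, IsIso.inv_hom_id_assoc]⟩

theorem genericFibre_map_eq_iff {Y N : Over (Spec (CommRingCat.of R))} (g₁ g₂ : Y ⟶ N) :
    (Neron.genericFibre R).map g₁ = (Neron.genericFibre R).map g₂ ↔
      pullback.fst Y.hom (Neron.genPt R) ≫ g₁.left = pullback.fst Y.hom (Neron.genPt R) ≫ g₂.left := by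
  rw [← homEquiv_counit_comp (Neron.genPt R) g₁, ← homEquiv_counit_comp (Neron.genPt R) g₂, Equiv.apply_eq_iff_eq]
  constructor
  · intro h
    have := congrArg Over.Hom.left h
    rwa [Over.comp_left, Over.comp_left, counit_left] at this
  · intro h
    ext : 1
    rw [Over.comp_left, Over.comp_left, counit_left]
    exact h

theorem genericFibre_map_left_fst {Y N : Over (Spec (CommRingCat.of R))} (g : Y ⟶ N) :
    ((Neron.genericFibre R).map g).left ≫ pullback.fst N.hom (Neron.genPt R) =
      pullback.fst Y.hom (Neron.genPt R) ≫ g.left :=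
  pullback.lift_fst _ _ _

theorem ext_of_schDom {V W Z T : Scheme.{u}} (j : V ⟶ W) [IsSchemeTheoreticallyDominant j] (p : Z ⟶ T)
    [IsSeparated p] (a b : W ⟶ Z) (hab : a ≫ p = b ≫ p) (h : j ≫ a = j ≫ b) : a = b := by
  obtain ⟨g, hg⟩ := exists_lift_of_schDom j (pullback.diagonal p) (pullback.lift a b hab) (j ≫ a) (by
    apply pullback.hom_ext
    · rw [Category.assoc, pullback.diagonal_fst, Category.comp_id, Category.assoc, pullback.lift_fst]
    · rw [Category.assoc, pullback.diagonal_snd, Category.comp_id, Category.assoc, pullback.lift_snd, h])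
  have h1 := congrArg (· ≫ pullback.fst p p) hg
  have h2 := congrArg (· ≫ pullback.snd p p) hg
  simp only [Category.assoc, pullback.diagonal_fst, pullback.diagonal_snd, pullback.lift_fst,
    pullback.lift_snd, Category.comp_id] at h1 h2
  rw [← h1, ← h2]

theorem genericFibre_map_injective {Y N : Over (Spec (CommRingCat.of R))} [Flat Y.hom] [IsSeparated N.hom] :
    Function.Injective (fun g : Y ⟶ N => (Neron.genericFibre R).map g) := by
  intro g₁ g₂ h
  have := schDom_fst_genPt Y.hom
  ext : 1
  exact ext_of_schDom (pullback.fst Y.hom (Neron.genPt R)) N.hom _ _ (by rw [Over.w g₁, Over.w g₂])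
    ((genericFibre_map_eq_iff g₁ g₂).1 h)

end Groth.Agent.NeronHD28
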