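import Groth.Agent.NeronHD28.Weil
import Groth.Agent.NeronHD28.Generic
import Mathlib.RingTheory.DedekindDomain.Dvr
import Mathlib.RingTheory.PrincipalIdealDomain

/-! Rational maps into proper schemes and proper groups over a Dedekind base. -/

set_option autoImplicit false
universe u

open CategoryTheory CategoryTheory.Limits AlgebraicGeometry

namespace Groth.Agent.NeronHD28

variable {R : Type u} [CommRing R] [IsDedekindDomain R]

theorem isPrincipal_maximalIdeal_stalk_spec (t : Spec (CommRingCat.of R)) :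
    (IsLocalRing.maximalIdeal ((Spec (CommRingCat.of R)).presheaf.stalk t)).IsPrincipal := by
  let tt : PrimeSpectrum R := t
  have h : IsPrincipalIdealRing (Localization.AtPrime tt.asIdeal) := by
    by_cases hb : tt.asIdeal = ⊥
    · have hf : IsField (Localization.AtPrime tt.asIdeal) := by
        rw [IsLocalRing.isField_iff_maximalIdeal_eq, ← Localization.AtPrime.map_eq_maximalIdeal]
        simp [hb]
      exact hf.isPrincipalIdealRing
    · have := IsLocalization.AtPrime.isDiscreteValuationRing_of_dedekind_domain R hb (Localization.AtPrime tt.asIdeal)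
      infer_instance
  let e : Localization.AtPrime tt.asIdeal ≃+* (Spec (CommRingCat.of R)).presheaf.stalk t :=
    (IsLocalization.algEquiv tt.asIdeal.primeCompl (Localization.AtPrime tt.asIdeal)
      ((Spec.structureSheaf R).presheaf.stalk tt)).toRingEquiv
  have : IsPrincipalIdealRing ((Spec (CommRingCat.of R)).presheaf.stalk t) :=
    IsPrincipalIdealRing.of_surjective e.toRingHom e.surjective
  exact IsPrincipalIdealRing.principal _

variable {X : Scheme.{u}} (pX : X ⟶ Spec (CommRingCat.of R)) [Smooth pX]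

/-- Every point is a specialization, inside its fibre, of a point with local ring of dimension at most one. -/
theorem exists_specializes_dim_le_one (x : X) : ∃ ξ : X, ξ ⤳ x ∧ pX.base ξ = pX.base x ∧
    ringKrullDim (X.presheaf.stalk ξ) ≤ 1 := by
  have := isLocallyNoetherian_of_smooth pX
  let O := (Spec (CommRingCat.of R)).presheaf.stalk (pX.base x)
  let φ : O ⟶ X.presheaf.stalk x := pX.stalkMap x
  obtain ⟨π, hπ⟩ := (isPrincipal_maximalIdeal_stalk_spec (R := R) (pX.base x)).principal
  have hπm : π ∈ IsLocalRing.maximalIdeal O := hπ ▸ Submodule.mem_span_singleton_self π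
  have hne : Ideal.span {φ π} ≠ ⊤ := by
    rw [Ne, Ideal.span_singleton_eq_top]
    exact fun h => (IsLocalRing.mem_maximalIdeal _).1 hπm (isUnit_of_map_unit φ.hom π h)
  obtain ⟨z, hz⟩ := Ideal.nonempty_minimalPrimes hne
  let zz : PrimeSpectrum (X.presheaf.stalk x) := ⟨z, hz.1.1⟩
  have hcl : (Spec.map φ).base zz = IsLocalRing.closedPoint O := by
    refine PrimeSpectrum.ext ?_
    have hle : IsLocalRing.maximalIdeal O ≤ z.comap φ.hom := by
      rw [hπ, Submodule.span_le]
      intro a ha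
      rw [Set.mem_singleton_iff.1 ha]
      exact hz.1.2 (Ideal.mem_span_singleton_self _)
    have := hz.1.1
    exact ((IsLocalRing.maximalIdeal.isMaximal O).eq_of_le (Ideal.IsPrime.ne_top inferInstance) hle).symm
  refine ⟨(X.fromSpecStalk x).base zz, ?_, ?_, ?_⟩
  · have : (X.fromSpecStalk x).base zz ∈ Set.range (X.fromSpecStalk x).base := ⟨zz, rfl⟩
    rw [Scheme.range_fromSpecStalk] at this
    exact this
  · rw [← Scheme.Hom.comp_apply, ← Scheme.SpecMap_stalkMap_fromSpecStalk, Scheme.Hom.comp_apply, hcl,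
      Scheme.fromSpecStalk_closedPoint]
  · rw [ringKrullDim_stalk_fromSpecStalk]
    have := hz.1.1
    exact WithBot.coe_le_coe.2 (Ideal.height_le_one_of_isPrincipal_of_mem_minimalPrimes (Ideal.span {φ π}) z hz)

theorem fibre_dense_of_dim_le_one (V : X.Opens)
    (hV : ∀ x : X, x ∉ V → (2 : WithBot ℕ∞) ≤ ringKrullDim (X.presheaf.stalk x)) :
    ∀ x : X, x ∈ closure ((V : Set X) ∩ {y | pX.base y = pX.base x}) := by
  intro x
  obtain ⟨ξ, hξ, hξx, hdim⟩ := exists_specializes_dim_le_one pX x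
  have hξV : ξ ∈ V := by
    by_contra h
    exact absurd ((hV ξ h).trans hdim) (by decide)
  exact hξ.mem_closed isClosed_closure (subset_closure ⟨hξV, hξx⟩)

theorem exists_extension_codim_two {Y : Scheme.{u}} (pY : Y ⟶ Spec (CommRingCat.of R)) [IsProper pY]
    (U : X.Opens) (hU : Dense (U : Set X)) (f : (U : Scheme.{u}) ⟶ Y) (hf : f ≫ pY = U.ι ≫ pX) :
    ∃ (V : X.Opens) (hUV : U ≤ V) (g : (V : Scheme.{u}) ⟶ Y),
      g ≫ pY = V.ι ≫ pX ∧ X.homOfLE hUV ≫ g = f ∧
      ∀ x : X, x ∉ V → (2 : WithBot ℕ∞) ≤ ringKrullDim (X.presheaf.stalk x) := by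
  have := isLocallyNoetherian_of_smooth pX
  have := isReduced_of_smooth pX
  obtain ⟨V, hUV, g, hg, hgU, hP⟩ := EGA73.extend_proper_codim_one pY pX {x | ringKrullDim (X.presheaf.stalk x) ≤ 1}
    (fun x hx => by
      have := regular_stalk_of_smooth pX x
      have := isDomain_stalk_of_smooth pX x
      exact ⟨‹_›, EGA73.valuationRing_of_regular _ hx⟩) U hU f hf
  refine ⟨V, hUV, g, hg, hgU, fun x hx => ?_⟩
  obtain ⟨n, hn⟩ : ∃ n : ℕ, ringKrullDim (X.presheaf.stalk x) = n :=
    ⟨_, (IsRegularLocalRing.iff_finrank_cotangentSpace _).1 (regular_stalk_of_smooth pX x) |>.symm⟩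
  have h1 : ¬ (n : WithBot ℕ∞) ≤ 1 := fun h => hx (hP x (show ringKrullDim _ ≤ 1 from hn ▸ h))
  rw [hn]
  have h2 : 2 ≤ n := by
    by_contra hc
    exact h1 (by exact_mod_cast (by omega : n ≤ 1))
  exact_mod_cast h2

variable {G : Scheme.{u}} (pG : G ⟶ Spec (CommRingCat.of R)) [GrpObj (Over.mk pG)] [IsProper pG]

/-- A rational map from a smooth scheme to a proper group is a morphism. -/
theorem existsUnique_extension_proper (U : X.Opens) (hU : Dense (U : Set X)) (f : (U : Scheme.{u}) ⟶ G)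
    (hf : f ≫ pG = U.ι ≫ pX) : ∃! g : X ⟶ G, g ≫ pG = pX ∧ U.ι ≫ g = f := by
  obtain ⟨V, hUV, f', hf', hfU, hV⟩ := exists_extension_codim_two pX pG U hU f hf
  obtain ⟨g, ⟨hg, hgV⟩, -⟩ := weil_extension pX pG V (fibre_dense_of_dim_le_one pX V hV) hV f' hf'
  refine ⟨g, ⟨hg, ?_⟩, fun g' hg' => ?_⟩
  · rw [← Scheme.homOfLE_ι _ hUV, Category.assoc, hgV, hfU]
  · refine ext_of_dense pX pG U hU _ _ hg'.1 hg ?_
    rw [hg'.2, ← hfU, ← Scheme.homOfLE_ι _ hUV, Category.assoc, hgV]

end Groth.Agent.NeronHD28
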