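import Groth.Prelude.Def_CInt
import Mathlib.AlgebraicGeometry.Restrict
import Mathlib.AlgebraicGeometry.Morphisms.Smooth
import Mathlib.AlgebraicGeometry.Morphisms.Etale
import Mathlib.CategoryTheory.Comma.Over.Pullback

/-! The mapping property of restriction to an open subscheme, as unique extension of morphisms. -/

set_option autoImplicit false
universe u

open CategoryTheory CategoryTheory.Limits AlgebraicGeometry

namespace Groth.Agent.NeronHD28

variable {S : Scheme.{u}}

/-- Morphisms over `S` defined over the open extend uniquely. -/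
def ExtProp (N : Over S) (U : S.Opens) {Z : Scheme.{u}} (z : Z ⟶ S) : Prop :=
  ∀ h : ((z ⁻¹ᵁ U : Z.Opens) : Scheme.{u}) ⟶ N.left, h ≫ N.hom = (z ⁻¹ᵁ U).ι ≫ z →
    ∃! g : Z ⟶ N.left, g ≫ N.hom = z ∧ (z ⁻¹ᵁ U).ι ≫ g = h

/-- Morphisms over `S` are determined over the open. -/
def UniqProp (N : Over S) (U : S.Opens) {Z : Scheme.{u}} (z : Z ⟶ S) : Prop :=
  ∀ g₁ g₂ : Z ⟶ N.left, g₁ ≫ N.hom = z → g₂ ≫ N.hom = z → (z ⁻¹ᵁ U).ι ≫ g₁ = (z ⁻¹ᵁ U).ι ≫ g₂ → g₁ = g₂

theorem ExtProp.uniq {N : Over S} {U : S.Opens} {Z : Scheme.{u}} {z : Z ⟶ S} (h : ExtProp N U z) :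
    UniqProp N U z := fun g₁ g₂ h₁ h₂ he => by
  obtain ⟨g, -, hu⟩ := h ((z ⁻¹ᵁ U).ι ≫ g₂) (by rw [Category.assoc, h₂])
  exact (hu g₁ ⟨h₁, he⟩).trans (hu g₂ ⟨h₂, rfl⟩).symm

theorem homEquiv_counit_comp {Z N : Over S} {T : Scheme.{u}} (ι : T ⟶ S) (g : Z ⟶ N) :
    ((Over.mapPullbackAdj ι).homEquiv _ N) ((Over.mapPullbackAdj ι).counit.app Z ≫ g) = (Over.pullback ι).map g := by
  rw [Adjunction.homEquiv_naturality_right, Adjunction.homEquiv_unit, Adjunction.right_triangle_components]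
  exact Category.id_comp _

theorem counit_left {Z : Over S} {T : Scheme.{u}} (ι : T ⟶ S) :
    ((Over.mapPullbackAdj ι).counit.app Z).left = pullback.fst Z.hom ι := by
  simp [Over.mapPullbackAdj]

theorem map_eq_iff {Z N : Over S} (U : S.Opens) (g₁ g₂ : Z ⟶ N) :
    (Over.pullback U.ι).map g₁ = (Over.pullback U.ι).map g₂ ↔
      (Z.hom ⁻¹ᵁ U).ι ≫ g₁.left = (Z.hom ⁻¹ᵁ U).ι ≫ g₂.left := by
  rw [← homEquiv_counit_comp U.ι g₁, ← homEquiv_counit_comp U.ι g₂, Equiv.apply_eq_iff_eq]
  rw [← pullbackRestrictIsoRestrict_inv_fst Z.hom U, Category.assoc, Category.assoc, cancel_epi (pullbackRestrictIsoRestrict Z.hom U).inv]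
  constructor
  · intro h
    have := congrArg Over.Hom.left h
    rwa [Over.comp_left, Over.comp_left, counit_left] at this
  · intro h
    ext : 1
    rw [Over.comp_left, Over.comp_left, counit_left]
    exact h

theorem injective_iff_uniqProp (N : Over S) (U : S.Opens) (Z : Over S) :
    Function.Injective (fun g : Z ⟶ N => (Over.pullback U.ι).map g) ↔ UniqProp N U Z.hom := by
  constructor
  · intro h g₁ g₂ h₁ h₂ he
    exact congrArg Over.Hom.left (h (a₁ := Over.homMk g₁ h₁) (a₂ := Over.homMk g₂ h₂)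
      ((map_eq_iff U (Over.homMk g₁ h₁ : Z ⟶ N) (Over.homMk g₂ h₂)).2 he))
  · intro h g₁ g₂ he
    exact Over.OverMorphism.ext (h g₁.left g₂.left (Over.w g₁) (Over.w g₂) ((map_eq_iff U g₁ g₂).1 he))

theorem bijective_iff_extProp (N : Over S) (U : S.Opens) (Z : Over S) :
    Function.Bijective (fun g : Z ⟶ N => (Over.pullback U.ι).map g) ↔ ExtProp N U Z.hom := by
  constructor
  · intro h t ht
    let v : (Over.map U.ι).obj ((Over.pullback U.ι).obj Z) ⟶ N :=
      Over.homMk ((pullbackRestrictIsoRestrict Z.hom U).hom ≫ t) (by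
        show (_ ≫ t) ≫ N.hom = pullback.snd Z.hom U.ι ≫ U.ι
        rw [Category.assoc, ht, pullbackRestrictIsoRestrict_hom_ι_assoc, pullback.condition])
    obtain ⟨g, hg⟩ := h.2 ((Over.mapPullbackAdj U.ι).homEquiv _ N v)
    have hg' : pullback.fst Z.hom U.ι ≫ g.left = (pullbackRestrictIsoRestrict Z.hom U).hom ≫ t := by
      have h1 : (Over.mapPullbackAdj U.ι).counit.app Z ≫ g = v :=
        ((Over.mapPullbackAdj U.ι).homEquiv _ N).injective ((homEquiv_counit_comp U.ι g).trans hg)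
      rw [← counit_left]
      exact congrArg Over.Hom.left h1
    have hgt : (Z.hom ⁻¹ᵁ U).ι ≫ g.left = t := by
      rw [← pullbackRestrictIsoRestrict_inv_fst Z.hom U, Category.assoc, hg', Iso.inv_hom_id_assoc]
    exact ⟨g.left, ⟨Over.w g, hgt⟩, fun g' hg'' =>
      ((injective_iff_uniqProp N U Z).1 h.1) g' g.left hg''.1 (Over.w g) (hg''.2.trans hgt.symm)⟩
  · intro h
    refine ⟨(injective_iff_uniqProp N U Z).2 h.uniq, fun w => ?_⟩
    let v := ((Over.mapPullbackAdj U.ι).homEquiv _ N).symm w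
    obtain ⟨g, ⟨hg₁, hg₂⟩, -⟩ := h ((pullbackRestrictIsoRestrict Z.hom U).inv ≫ v.left) (by
      rw [Category.assoc, Over.w v, ← pullbackRestrictIsoRestrict_inv_fst Z.hom U, Category.assoc, pullback.condition]
      rfl)
    refine ⟨Over.homMk g hg₁, ?_⟩
    refine (homEquiv_counit_comp U.ι (Over.homMk g hg₁ : Z ⟶ N)).symm.trans (((Over.mapPullbackAdj U.ι).homEquiv _ N).symm.injective ?_)
    rw [Equiv.symm_apply_apply]
    ext : 1
    rw [Over.comp_left, counit_left]
    show pullback.fst Z.hom U.ι ≫ g = v.left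
    rw [← pullbackRestrictIsoRestrict_hom_ι Z.hom U, Category.assoc, hg₂, Iso.hom_inv_id_assoc]

theorem extProp_pullback_iff {S' : Scheme.{u}} (g : S' ⟶ S) (N : Over S) (U : S.Opens) {Z : Scheme.{u}} (z : Z ⟶ S') :
    ExtProp ((Over.pullback g).obj N) (g ⁻¹ᵁ U) z ↔ ExtProp N U (z ≫ g) := by
  constructor
  · intro h t ht
    obtain ⟨a, ⟨ha₁, ha₂⟩, hau⟩ := h (pullback.lift t ((z ⁻¹ᵁ g ⁻¹ᵁ U).ι ≫ z) (ht.trans (Category.assoc _ _ _).symm))
      (pullback.lift_snd _ _ _)
    refine ⟨a ≫ pullback.fst _ _, ⟨?_, ?_⟩, fun b hb => ?_⟩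
    · rw [Category.assoc, pullback.condition, ← Category.assoc]
      exact congrArg (· ≫ g) ha₁
    · exact (Category.assoc _ _ _).symm.trans ((congrArg (· ≫ pullback.fst N.hom g) ha₂).trans (pullback.lift_fst _ _ _))
    · have := hau (pullback.lift b z hb.1) ⟨pullback.lift_snd _ _ _, pullback.hom_ext
        (by rw [Category.assoc, pullback.lift_fst]; exact hb.2.trans (pullback.lift_fst _ _ _).symm)
        (by rw [Category.assoc, pullback.lift_snd]; exact (pullback.lift_snd _ _ _).symm)⟩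
      rw [← this, pullback.lift_fst]
  · intro h t ht
    obtain ⟨a, ⟨ha₁, ha₂⟩, hau⟩ := h (t ≫ pullback.fst _ _)
      ((Category.assoc t (pullback.fst N.hom g) N.hom).trans ((congrArg (t ≫ ·) pullback.condition).trans
        ((Category.assoc t (pullback.snd N.hom g) g).symm.trans ((congrArg (· ≫ g) ht).trans (Category.assoc _ _ _)))))
    refine ⟨pullback.lift a z ha₁, ⟨pullback.lift_snd _ _ _, pullback.hom_ext ?_ ?_⟩, fun b hb => ?_⟩
    · rw [Category.assoc, pullback.lift_fst]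
      exact ha₂
    · rw [Category.assoc, pullback.lift_snd]
      exact ht.symm
    · refine pullback.hom_ext ?_ ?_
      · refine (hau (b ≫ pullback.fst _ _) ⟨?_, ?_⟩).trans (pullback.lift_fst _ _ _).symm
        · rw [Category.assoc, pullback.condition, ← Category.assoc]
          exact congrArg (· ≫ g) hb.1
        · exact (Category.assoc _ _ _).symm.trans (congrArg (· ≫ pullback.fst N.hom g) hb.2)
      · exact hb.1.trans (pullback.lift_snd _ _ _).symm

theorem uniqProp_pullback_iff {S' : Scheme.{u}} (g : S' ⟶ S) (N : Over S) (U : S.Opens) {Z : Scheme.{u}} (z : Z ⟶ S')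
    (h : UniqProp N U (z ≫ g)) : UniqProp ((Over.pullback g).obj N) (g ⁻¹ᵁ U) z := fun b₁ b₂ h₁ h₂ he => by
  refine pullback.hom_ext (h _ _ ?_ ?_ ?_) (h₁.trans h₂.symm)
  · rw [Category.assoc, pullback.condition, ← Category.assoc]
    exact congrArg (· ≫ g) h₁
  · rw [Category.assoc, pullback.condition, ← Category.assoc]
    exact congrArg (· ≫ g) h₂
  · exact (Category.assoc _ _ _).symm.trans ((congrArg (· ≫ pullback.fst N.hom g) he).trans (Category.assoc _ _ _))

theorem smooth_of_comp_etale {X Y T : Scheme.{u}} (s : X ⟶ Y) (f : Y ⟶ T) [Etale f] (h : Smooth (s ≫ f)) :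
    Smooth s := by
  let gr : X ⟶ pullback (s ≫ f) f := pullback.lift (𝟙 X) s (by simp)
  have : Smooth gr :=
    MorphismProperty.of_isPullback (P := (@Smooth : MorphismProperty Scheme.{u})) (pullback_lift_diagonal_isPullback s f)
      (inferInstanceAs <| Smooth (pullback.diagonal f))
  have : Smooth (pullback.snd (s ≫ f) f) := have := h; inferInstance
  rw [show s = gr ≫ pullback.snd _ _ from (pullback.lift_snd _ _ _).symm]
  infer_instance

end Groth.Agent.NeronHD28
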