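import Groth.Prelude
import Groth.Agent.LimTop61.BirationalZMT
import Groth.Agent.An92.Rat.SectionExt
import Groth.Agent.An92.Rat.SchDenseOps
import Groth.Agent.SGA3a.SchemDense

/-! Morphisms from a dense open of a normal scheme extend along integral targets. -/

set_option autoImplicit false
set_option linter.style.haveILetI false
universe u

open CategoryTheory CategoryTheory.Limits AlgebraicGeometry

namespace Groth.Agent.NeronHD28

/-- Integral source version. -/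
theorem exists_ext_of_integral {Y T B : Scheme.{u}} [IsIntegral Y]
    (hN : ∀ y : Y, IsIntegrallyClosed (Y.presheaf.stalk y)) (O : Y.Opens) [Nonempty O] [QuasiCompact O.ι]
    (p : Y ⟶ B) (q : T ⟶ B) [IsIntegralHom q] (h : (O : Scheme.{u}) ⟶ T) (hh : h ≫ q = O.ι ≫ p) :
    ∃ g : Y ⟶ T, g ≫ q = p ∧ O.ι ≫ g = h := by
  haveI : IsIntegral (O : Scheme.{u}) := isIntegral_of_isOpenImmersion O.ι
  haveI : IsIso O.ι.fromNormalization :=
    LimTop61.isIso_fromNormalization O.ι hN (genericPoint_eq_of_isOpenImmersion O.ι) inferInstance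
  haveI : IsIntegralHom (pullback.snd q p) := MorphismProperty.pullback_snd (P := @IsIntegralHom) q p ‹_›
  let f₁ : (O : Scheme.{u}) ⟶ pullback q p := pullback.lift h O.ι hh
  have H : O.ι = f₁ ≫ pullback.snd q p := (pullback.lift_snd _ _ _).symm
  let g : Y ⟶ pullback q p :=
    inv O.ι.fromNormalization ≫ O.ι.normalizationDesc f₁ (pullback.snd q p) H
  have hg : g ≫ pullback.snd q p = 𝟙 Y := by
    simp only [g, Category.assoc, Scheme.Hom.normalizationDesc_comp, IsIso.inv_hom_id]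
  have hι : O.ι ≫ inv O.ι.fromNormalization = O.ι.toNormalization := by
    rw [IsIso.comp_inv_eq, Scheme.Hom.toNormalization_fromNormalization]
  refine ⟨g ≫ pullback.fst q p, ?_, ?_⟩
  · rw [Category.assoc, pullback.condition, ← Category.assoc, hg, Category.id_comp]
  · calc O.ι ≫ g ≫ pullback.fst q p
        = O.ι.toNormalization ≫ O.ι.normalizationDesc f₁ (pullback.snd q p) H ≫ pullback.fst q p := by
          rw [← hι]; simp only [g, Category.assoc]
      _ = h := by rw [Scheme.Hom.toNormalization_normalizationDesc_assoc, pullback.lift_fst]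

/-- A morphism on a schematically dense open of a normal locally Noetherian scheme extends along
an integral target. -/
theorem exists_ext_of_normal {Y T B : Scheme.{u}} [IsLocallyNoetherian Y] (hY : Pi1.IsNormalScheme Y)
    {O : Y.Opens} (hO : CInt.IsSchematicallyDense O)
    (p : Y ⟶ B) (q : T ⟶ B) [IsIntegralHom q] (h : (O : Scheme.{u}) ⟶ T) (hh : h ≫ q = O.ι ≫ p) :
    ∃ g : Y ⟶ T, g ≫ q = p ∧ O.ι ≫ g = h := by
  have hW : ∀ y : Y, ∃ W : Y.Opens, y ∈ W ∧ IsIntegral (W : Scheme.{u}) := fun y => by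
    haveI := (hY y).1
    obtain ⟨W, -, h1, h2⟩ := An92.Rat.exists_integral_nhd y
    exact ⟨W, h1, h2⟩
  choose W hyW hWi using hW
  have hO' : Dense (O : Set Y) := An92.Rat.dense_of_schDense hO
  have key : ∀ y, ∃ g : (W y : Scheme.{u}) ⟶ T, g ≫ q = (W y).ι ≫ p ∧
      ((W y).ι ⁻¹ᵁ O).ι ≫ g = Scheme.Hom.resLE (W y).ι O ((W y).ι ⁻¹ᵁ O) le_rfl ≫ h := fun y => by
    haveI := hWi y
    obtain ⟨z, hzW, hzO⟩ := hO'.inter_open_nonempty (W y) (W y).2 ⟨y, hyW y⟩
    haveI : Nonempty ((W y).ι ⁻¹ᵁ O) := ⟨⟨⟨z, hzW⟩, hzO⟩⟩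
    refine exists_ext_of_integral (fun w => ?_) ((W y).ι ⁻¹ᵁ O) ((W y).ι ≫ p) q _ ?_
    · haveI := (hY ((W y).ι w)).2
      exact IsIntegrallyClosed.of_equiv (asIso ((W y).ι.stalkMap w)).commRingCatIsoToRingEquiv
    · rw [Category.assoc, hh, Scheme.Hom.resLE_comp_ι_assoc]
  choose g hgq hgO using key
  let C : Y.OpenCover := Y.openCoverOfIsOpenCover W (by
    rw [TopologicalSpace.IsOpenCover, eq_top_iff]
    exact fun y _ => TopologicalSpace.Opens.mem_iSup.2 ⟨y, hyW y⟩)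
  have hcomp : ∀ a b : Y, pullback.fst (W a).ι (W b).ι ≫ g a = pullback.snd (W a).ι (W b).ι ≫ g b := by
    intro a b
    let c := pullback.fst (W a).ι (W b).ι ≫ (W a).ι
    have hc : pullback.snd (W a).ι (W b).ι ≫ (W b).ι = c := pullback.condition.symm
    refine SGA3a.eq_of_eqOn_schemDense q (c ⁻¹ᵁ O) (An92.Rat.schDense_preimage_of_flat c hO) _ _ ?_ ?_
    · rw [Category.assoc, hgq, Category.assoc, hgq]
      exact congrArg (· ≫ p) pullback.condition |>.trans (Category.assoc _ _ _) |> ((Category.assoc _ _ _).symm.trans ·)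
    · let d : ((c ⁻¹ᵁ O : _) : Scheme.{u}) ⟶ (O : Scheme.{u}) := Scheme.Hom.resLE c O (c ⁻¹ᵁ O) le_rfl
      have ea : ∀ (i : Y) (π : pullback (W a).ι (W b).ι ⟶ (W i : Scheme.{u})) (hπ : π ≫ (W i).ι = c),
          (c ⁻¹ᵁ O).ι ≫ π ≫ g i = d ≫ h := fun i π hπ => by
        have hle : c ⁻¹ᵁ O ≤ π ⁻¹ᵁ ((W i).ι ⁻¹ᵁ O) := by rw [← Scheme.Hom.comp_preimage, hπ]
        rw [← Scheme.Hom.resLE_comp_ι_assoc π hle, hgO, ← Category.assoc]
        congr 1
        rw [← cancel_mono O.ι]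
        simp only [d, Category.assoc, Scheme.Hom.resLE_comp_ι, Scheme.Hom.resLE_comp_ι_assoc]
        rw [hπ]
      exact (ea a _ rfl).trans (ea b _ hc).symm
  let G : Y ⟶ T := C.glueMorphisms g hcomp
  have hG : ∀ y, (W y).ι ≫ G = g y := fun y => C.ι_glueMorphisms g hcomp y
  have hGq : G ≫ q = p := C.hom_ext _ _ fun y => by
    rw [← Category.assoc]
    exact (congrArg (· ≫ q) (hG y)).trans (hgq y)
  refine ⟨G, hGq, ?_⟩
  refine Scheme.Cover.hom_ext ((O : Scheme.{u}).openCoverOfIsOpenCover (fun y => O.ι ⁻¹ᵁ W y) (by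
    rw [TopologicalSpace.IsOpenCover, eq_top_iff]
    exact fun z _ => TopologicalSpace.Opens.mem_iSup.2 ⟨z.1, hyW z.1⟩)) _ _ fun y => ?_
  show (O.ι ⁻¹ᵁ W y).ι ≫ O.ι ≫ G = (O.ι ⁻¹ᵁ W y).ι ≫ h
  let e := Scheme.Hom.resLE O.ι (W y) (O.ι ⁻¹ᵁ W y) le_rfl
  have he : ⊤ ≤ e ⁻¹ᵁ ((W y).ι ⁻¹ᵁ O) := fun z _ => by
    show (e ≫ (W y).ι) z ∈ O
    rw [Scheme.Hom.resLE_comp_ι]
    exact z.1.2
  calc (O.ι ⁻¹ᵁ W y).ι ≫ O.ι ≫ G = e ≫ g y := by
        rw [← hG, ← Category.assoc, ← Category.assoc, Scheme.Hom.resLE_comp_ι]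
    _ = (O.ι ⁻¹ᵁ W y).ι ≫ h := by
        haveI : IsIso (⊤ : ((O.ι ⁻¹ᵁ W y : _) : Scheme.{u}).Opens).ι :=
          inferInstanceAs (IsIso (Scheme.topIso _).hom)
        rw [← cancel_epi (⊤ : ((O.ι ⁻¹ᵁ W y : _) : Scheme.{u}).Opens).ι,
          ← Scheme.Hom.resLE_comp_ι_assoc e he, hgO, ← Category.assoc, ← Category.assoc]
        congr 1
        rw [← cancel_mono O.ι]
        simp only [e, Category.assoc, Scheme.Hom.resLE_comp_ι, Scheme.Hom.resLE_comp_ι_assoc]

end Groth.Agent.NeronHD28
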