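import Groth.Prelude
import Groth.Agent.NeronHD28.Ext
import Groth.Agent.NeronHD28.NormalExtend
import Groth.Agent.Unr55.SmoothDescScheme
import Groth.Agent.SchBasics.DiffSmoothLimit
import Groth.Agent.S4989

/-! The smooth locus of a normal finite cover of a normal scheme has the mapping property. -/

set_option autoImplicit false
set_option linter.style.haveILetI false
universe u

open CategoryTheory CategoryTheory.Limits AlgebraicGeometry

namespace Groth.Agent.NeronHD28

theorem isNormalScheme_of_smooth {X Y : Scheme.{u}} (f : X ⟶ Y) [Smooth f] (hY : Pi1.IsNormalScheme Y) :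
    Pi1.IsNormalScheme X := fun x =>
  ((S4989.result f x (by rw [f.smoothLocus_eq_top]; trivial)).2).2 (hY (f.base x))

theorem genPt_antisymm {X : Scheme.{u}} (v : X) [IsDomain (X.presheaf.stalk v)] {ξ : X}
    (h : ξ ⤳ An92.Rat.genPt v) : ξ = An92.Rat.genPt v :=
  (h.antisymm (An92.Rat.genPt_specializes_of_specializes v (h.trans (An92.Rat.genPt_specializes v)))).eq

theorem eq_of_specializes_of_lqf {X Y : Scheme.{u}} (f : X ⟶ Y) [LocallyQuasiFinite f] {x x' : X}
    (h : x ⤳ x') (he : f x = f x') : x = x' := by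
  have hd : _root_.IsDiscrete (f ⁻¹' {f x'}) := f.isDiscrete_preimage_singleton _
  haveI : DiscreteTopology (f ⁻¹' {f x'}) := hd.to_subtype
  have h1 : (⟨x, he⟩ : (f ⁻¹' {f x'})) ⤳ ⟨x', rfl⟩ := (subtype_specializes_iff _ _).2 h
  exact congrArg Subtype.val h1.eq

theorem isIso_stalkMap_of_eq_id {Z : Scheme.{u}} {f : Z ⟶ Z} (h : f = 𝟙 Z) (v : Z) : IsIso (f.stalkMap v) := by
  subst h
  infer_instance

/-- A retraction onto a normal point is a local isomorphism. -/
theorem isIso_stalkMap_of_section {P Z : Scheme.{u}} (hP : Pi1.IsNormalScheme P) (hZ : Pi1.IsNormalScheme Z)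
    (pr : P ⟶ Z) [LocallyQuasiFinite pr] (σ : Z ⟶ P) (hσ : σ ≫ pr = 𝟙 Z) (v : Z) :
    IsIso (pr.stalkMap (σ v)) := by
  haveI := (hZ v).1
  haveI := (hP (σ v)).1
  have hid : ∀ a : Z, pr (σ a) = a := fun a => by rw [← Scheme.Hom.comp_apply, hσ]; rfl
  have hη : σ (An92.Rat.genPt v) ⤳ σ v := (An92.Rat.genPt_specializes v).map σ.continuous
  have hgen : An92.Rat.genPt (σ v) = σ (An92.Rat.genPt v) := by
    have h := An92.Rat.genPt_specializes_of_specializes (σ v) hη
    refine eq_of_specializes_of_lqf pr h ?_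
    have h' := h.map pr.continuous
    rw [hid] at h'
    rw [hid]
    exact genPt_antisymm v h'
  have hsurj : Function.Surjective (σ.stalkMap v) := fun b => by
    have e : pr.stalkMap (σ v) ≫ σ.stalkMap v = (σ ≫ pr).stalkMap v := (Scheme.Hom.stalkMap_comp σ pr v).symm
    haveI : IsIso ((σ ≫ pr).stalkMap v) := isIso_stalkMap_of_eq_id hσ v
    obtain ⟨a, ha⟩ := (ConcreteCategory.bijective_of_isIso ((σ ≫ pr).stalkMap v)).2 b
    rw [← e] at ha
    exact ⟨_, ha⟩
  have hinj : Function.Injective (σ.stalkMap v) := by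
    have h2 : (Spec.map (σ.stalkMap v)).base ⟨⊥, Ideal.isPrime_bot⟩ = ⟨⊥, Ideal.isPrime_bot⟩ := by
      apply (P.fromSpecStalk (σ v)).isEmbedding.injective
      rw [← Scheme.Hom.comp_apply, Scheme.SpecMap_stalkMap_fromSpecStalk, Scheme.Hom.comp_apply]
      exact hgen.symm
    have h3 := congrArg PrimeSpectrum.asIdeal h2
    change Ideal.comap (σ.stalkMap v).hom ⊥ = ⊥ at h3
    exact (injective_iff_map_eq_zero (σ.stalkMap v).hom).2 fun a ha => by
      rw [← Ideal.mem_bot, ← h3]
      exact ha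
  haveI : IsIso (σ.stalkMap v) := (ConcreteCategory.isIso_iff_bijective _).2 ⟨hinj, hsurj⟩
  haveI : IsIso (pr.stalkMap (σ v) ≫ σ.stalkMap v) := by
    rw [← Scheme.Hom.stalkMap_comp σ pr v]
    exact isIso_stalkMap_of_eq_id hσ v
  exact IsIso.of_isIso_comp_right (pr.stalkMap (σ v)) (σ.stalkMap v)

/-- Smooth schemes only map into the smooth locus of a normal quasi-finite scheme. -/
theorem mem_smoothLocus_of_smooth_source {S T Z : Scheme.{u}} (π : T ⟶ S) [LocallyQuasiFinite π]
    [LocallyOfFinitePresentation π] (hT : Pi1.IsNormalScheme T) (hS : Pi1.IsNormalScheme S)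
    (z : Z ⟶ S) [Smooth z] (g : Z ⟶ T) (hg : g ≫ π = z) (v : Z) : g v ∈ π.smoothLocus := by
  haveI : LocallyQuasiFinite (pullback.snd π z) :=
    MorphismProperty.pullback_snd (P := @LocallyQuasiFinite) π z ‹_›
  haveI : Smooth (pullback.fst π z) := inferInstance
  let σ : Z ⟶ pullback π z := pullback.lift g (𝟙 Z) (by rw [hg, Category.id_comp])
  have hiso := isIso_stalkMap_of_section (isNormalScheme_of_smooth (pullback.fst π z) hT)
    (isNormalScheme_of_smooth z hS) (pullback.snd π z) σ (pullback.lift_snd _ _ _) v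
  have hh : ((pullback.fst π z ≫ π).stalkMap (σ v)).hom.FormallySmooth := by
    rw [pullback.condition]
    erw [Scheme.Hom.stalkMap_comp (pullback.snd π z) z (σ v)]
    have h0 : (z.stalkMap (pullback.snd π z (σ v))).hom.FormallySmooth :=
      Scheme.Hom.mem_smoothLocus.1 (by rw [z.smoothLocus_eq_top]; trivial)
    haveI := hiso
    exact (RingHom.FormallySmooth.respectsIso.cancel_right_isIso _ ((pullback.snd π z).stalkMap (σ v))).2 h0
  haveI : LocallyOfFinitePresentation (pullback.fst π z ≫ π) := inferInstance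
  have h := Unr55.formallySmooth_stalkMap_of_flat π (pullback.fst π z) (σ v) (Flat.stalkMap _ _) hh
  have e : pullback.fst π z (σ v) = g v := by
    rw [← Scheme.Hom.comp_apply, pullback.lift_fst]
  rw [e] at h
  exact Scheme.Hom.mem_smoothLocus.2 h

/-- The mapping property of the smooth locus. -/
theorem extProp_smoothLocus {S T : Scheme.{u}} [IsLocallyNoetherian S] (hS : Pi1.IsNormalScheme S)
    (π : T ⟶ S) [IsFinite π] [LocallyOfFinitePresentation π] (hT : Pi1.IsNormalScheme T)
    (U : S.Opens) (hU : CInt.IsSchematicallyDense U) {Z : Scheme.{u}} (z : Z ⟶ S) [Smooth z] :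
    ExtProp (Over.mk (π.smoothLocus.ι ≫ π)) U z := by
  intro h hh
  haveI : IsLocallyNoetherian Z := LocallyOfFiniteType.isLocallyNoetherian z
  have hd := An92.Rat.schDense_preimage_of_flat z hU
  obtain ⟨g, hgq, hgO⟩ := exists_ext_of_normal (isNormalScheme_of_smooth z hS) hd z π
    (h ≫ π.smoothLocus.ι) ((Category.assoc _ _ _).trans hh)
  have hr : Set.range g ⊆ Set.range π.smoothLocus.ι := by
    rw [Scheme.Opens.range_ι]
    rintro _ ⟨v, rfl⟩
    exact mem_smoothLocus_of_smooth_source π hT hS z g hgq v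
  refine ⟨IsOpenImmersion.lift π.smoothLocus.ι g hr, ⟨?_, ?_⟩, fun g' hg' => ?_⟩
  · show IsOpenImmersion.lift π.smoothLocus.ι g hr ≫ π.smoothLocus.ι ≫ π = z
    rw [IsOpenImmersion.lift_fac_assoc, hgq]
  · rw [← cancel_mono π.smoothLocus.ι, Category.assoc]
    exact (congrArg (_ ≫ ·) (IsOpenImmersion.lift_fac _ _ hr)).trans hgO
  · haveI : IsSeparated (π.smoothLocus.ι ≫ π) := inferInstance
    refine SGA3a.eq_of_eqOn_schemDense (π.smoothLocus.ι ≫ π) (z ⁻¹ᵁ U) hd _ _ ?_ ?_
    · rw [IsOpenImmersion.lift_fac_assoc, hgq]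
      exact hg'.1
    · rw [← cancel_mono π.smoothLocus.ι]
      refine (congrArg (· ≫ π.smoothLocus.ι) hg'.2).trans (hgO.symm.trans ?_)
      exact ((Category.assoc _ _ _).trans (congrArg (_ ≫ ·) (IsOpenImmersion.lift_fac _ _ hr))).symm

end Groth.Agent.NeronHD28
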