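import Groth.Agent.NeronHD28.GenExtend
import Groth.Agent.NeronHD28.SmoothLocusNMP

/-! Morphisms of generic fibres into finite schemes extend over normal schemes. -/

set_option autoImplicit false
set_option linter.style.haveILetI false
universe u

open CategoryTheory CategoryTheory.Limits AlgebraicGeometry

namespace Groth.Agent.NeronHD28

variable {R : Type u} [CommRing R] [IsDedekindDomain R] {X G : Scheme.{u}}
  (pX : X ⟶ Spec (CommRingCat.of R)) [Smooth pX]

theorem isNormalScheme_Spec (C : Type u) [CommRing C]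
    (h : ∀ (p : Ideal C) [p.IsPrime], IsDomain (Localization.AtPrime p) ∧ IsIntegrallyClosed (Localization.AtPrime p)) :
    Pi1.IsNormalScheme (Spec (CommRingCat.of C)) := fun x => by
  let y : PrimeSpectrum C := x
  have e := (IsLocalization.algEquiv y.asIdeal.primeCompl
    ((Spec.structureSheaf C).presheaf.stalk y) (Localization.AtPrime y.asIdeal)).toRingEquiv
  obtain ⟨h1, h2⟩ := h y.asIdeal
  exact ⟨e.toMulEquiv.isDomain _, IsIntegrallyClosed.of_equiv e.symm⟩

theorem isNormalScheme_Spec_dedekind : Pi1.IsNormalScheme (Spec (CommRingCat.of R)) :=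
  isNormalScheme_Spec R fun p _ => ⟨inferInstance,
    isIntegrallyClosed_of_isLocalization _ p.primeCompl p.primeCompl_le_nonZeroDivisors⟩

/-- A morphism on the generic fibre to a finite scheme extends uniquely. -/
theorem existsUnique_extension_generic_finite (pG : G ⟶ Spec (CommRingCat.of R)) [IsFinite pG]
    (w : pullback pX (Neron.genPt R) ⟶ G) (hw : w ≫ pG = pullback.fst pX (Neron.genPt R) ≫ pX) :
    ∃! g : X ⟶ G, g ≫ pG = pX ∧ pullback.fst pX (Neron.genPt R) ≫ g = w := by
  haveI := isLocallyNoetherian_of_smooth pX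
  haveI : ∀ x : X, _root_.IsReduced (X.presheaf.stalk x) := fun x => by
    haveI := isDomain_stalk_of_smooth pX x
    infer_instance
  haveI : IsReduced X := isReduced_of_isReduced_stalk X
  obtain ⟨U, f, hU, hf, hη⟩ := exists_open_of_generic pX pG w hw
  obtain ⟨g, hg, hgU⟩ := exists_ext_of_normal (isNormalScheme_of_smooth pX isNormalScheme_Spec_dedekind)
    (An92.Rat.schDense_of_dense hU) pX pG f hf
  have hsch := schDom_fst_genPt pX
  have hred : IsReduced (pullback pX (Neron.genPt R)) := isReduced_of_smooth (pullback.snd pX (Neron.genPt R))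
  have hgen : pullback.fst pX (Neron.genPt R) ≫ g = w := by
    refine ext_of_dense_agree pG _ _ (by rw [Category.assoc, hg, hw]) fun z => ?_
    obtain ⟨η, hηz, hη0⟩ := exists_maximal_specializes pX ((pullback.fst pX (Neron.genPt R)).base z)
    obtain ⟨c, m, hc, hm, hmf⟩ := hη η hη0
    refine ⟨_, c, IsLocalRing.closedPoint _, ?_, ?_⟩
    · have : IsPreimmersion (Neron.genPt R) := IsPreimmersion.of_isLocalization (nonZeroDivisors R)
      rw [← (pullback.fst pX (Neron.genPt R)).isEmbedding.isInducing.specializes_iff, ← Scheme.Hom.comp_apply, hc,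
        Scheme.fromSpecStalk_closedPoint]
      exact hηz
    · rw [← Category.assoc, hc, ← hm, Category.assoc, hgU, hmf]
  exact ⟨g, ⟨hg, hgen⟩, fun g' hg' =>
    ext_of_schDom (pullback.fst pX (Neron.genPt R)) pG _ _ (by rw [hg'.1, hg]) (by rw [hg'.2, hgen])⟩

/-- A pullback square restricts along a monomorphism. -/
theorem isPullback_of_mono {P A A' B S : Scheme.{u}} {a : P ⟶ A'} {m : A' ⟶ A} [Mono m] {b : P ⟶ B} {c : A ⟶ S}
    {d : B ⟶ S} (h : IsPullback (a ≫ m) b c d) : IsPullback a b (m ≫ c) d :=
  IsPullback.of_isLimit' ⟨by rw [← Category.assoc]; exact h.w⟩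
    (PullbackCone.IsLimit.mk _
      (fun s => h.lift (s.fst ≫ m) s.snd (by rw [Category.assoc]; exact s.condition))
      (fun s => (cancel_mono m).1 ((Category.assoc _ _ _).trans (h.lift_fst _ _ _)))
      (fun s => h.lift_snd _ _ _)
      (fun s l h1 h2 => h.hom_ext (by rw [h.lift_fst, ← Category.assoc, h1]) (by rw [h.lift_snd, h2])))

end Groth.Agent.NeronHD28
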