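import Groth.Agent.SGA3a.GrpTargetLocus
import Groth.Agent.SGA3a.GrpImageDim
import Groth.Agent.AlgGrp79.SepDense
import Groth.Agent.Grp57.PowEtale
import Mathlib.GroupTheory.QuotientGroup.Defs
import Mathlib.AlgebraicGeometry.AlgClosed.Basic
import Mathlib.Topology.NoetherianSpace

/-! Rational points and identity components over an algebraically closed field. -/

set_option autoImplicit false
set_option linter.style.haveILetI false
universe u

open CategoryTheory CategoryTheory.Limits MonoidalCategory CartesianMonoidalCategory MonObj AlgebraicGeometry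

namespace Groth.Agent.NeronHD28.KPts

variable {K : Type u} [Field K] {G : Over (Spec (CommRingCat.of K))}

/-- The underlying point of a rational point. -/
noncomputable def pt (x : 𝟙_ (Over (Spec (CommRingCat.of K))) ⟶ G) : G.left :=
  x.left (IsLocalRing.closedPoint K)

variable [GrpObj G] [LocallyOfFiniteType G.hom]

/-- The rational points in the identity component. -/
def comp0 : Subgroup (𝟙_ (Over (Spec (CommRingCat.of K))) ⟶ G) where
  carrier := {x | pt x ∈ connectedComponent (Grp57.unitPt G)}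
  one_mem' := by
    show pt 1 ∈ connectedComponent (Grp57.unitPt G)
    exact SGA3a.TargetLocus.one_mem_neutral (T := 𝟙_ (Over (Spec (CommRingCat.of K)))) (IsLocalRing.closedPoint K)
  mul_mem' := by
    intro x y hx hy
    have h := SGA3a.mul_inv_mem_neutral x y⁻¹ (IsLocalRing.closedPoint K) hx
      (SGA3a.inv_mem_neutral y _ hy)
    rw [inv_inv] at h
    exact h
  inv_mem' := fun {x} hx => SGA3a.inv_mem_neutral x _ hx

/-- Right translation by a rational point. -/
noncomputable def translate (x : 𝟙_ (Over (Spec (CommRingCat.of K))) ⟶ G) : G ≅ G where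
  hom := 𝟙 G * (toUnit G ≫ x)
  inv := 𝟙 G * (toUnit G ≫ x)⁻¹
  hom_inv_id := by
    rw [comp_mul, Category.comp_id, GrpObj.comp_inv, ← Category.assoc, toUnit_unique (_ ≫ toUnit G) (toUnit G),
      mul_inv_cancel_right]
  inv_hom_id := by
    rw [comp_mul, Category.comp_id, ← Category.assoc, toUnit_unique (_ ≫ toUnit G) (toUnit G),
      inv_mul_cancel_right]

theorem comp_translate (y x : 𝟙_ (Over (Spec (CommRingCat.of K))) ⟶ G) : y ≫ (translate x).hom = y * x := by
  rw [translate, comp_mul, Category.comp_id, ← Category.assoc, toUnit_unique (_ ≫ toUnit G) (𝟙 _), Category.id_comp]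

theorem mem_component_iff (x y : 𝟙_ (Over (Spec (CommRingCat.of K))) ⟶ G) :
    pt y ∈ connectedComponent (pt x) ↔ y * x⁻¹ ∈ comp0 (G := G) := by
  haveI : IsIso (translate x⁻¹).hom.left := ((Over.forget _).mapIso (translate x⁻¹)).isIso_hom
  let t := (translate x⁻¹).hom.left
  have hp : ∀ z, t (pt z) = pt (z * x⁻¹) := fun z => by
    show t (z.left (IsLocalRing.closedPoint K)) = (z * x⁻¹).left (IsLocalRing.closedPoint K)
    rw [← comp_translate z x⁻¹]
    rfl
  have he : t (pt x) = Grp57.unitPt G := by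
    rw [hp, mul_inv_cancel, Hom.one_def, toUnit_unique (toUnit _) (𝟙 _), Category.id_comp]
    rfl
  have hc : t '' connectedComponent (pt x) = connectedComponent (Grp57.unitPt G) := by
    rw [← he]
    have h1 := t.homeomorph.image_connectedComponentIn (s := Set.univ) (Set.mem_univ (pt x))
    rwa [Set.image_univ_of_surjective t.homeomorph.surjective, connectedComponentIn_univ,
      connectedComponentIn_univ] at h1
  show _ ↔ pt (y * x⁻¹) ∈ connectedComponent (Grp57.unitPt G)
  rw [← hp, ← hc]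
  exact (t.homeomorph.injective.mem_set_image).symm

theorem exists_pos_pow_mem [QuasiCompact G.hom] (x : 𝟙_ (Over (Spec (CommRingCat.of K))) ⟶ G) :
    ∃ n : ℕ, 0 < n ∧ x ^ n ∈ comp0 (G := G) := by
  haveI : IsNoetherian G.left := by
    haveI : IsLocallyNoetherian G.left := LocallyOfFiniteType.isLocallyNoetherian G.hom
    haveI : CompactSpace G.left := QuasiCompact.compactSpace_of_compactSpace G.hom
    exact {}
  haveI : Finite (irreducibleComponents G.left) :=
    (TopologicalSpace.NoetherianSpace.finite_irreducibleComponents).to_subtype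
  obtain ⟨a, b, hne, hab⟩ := Finite.exists_ne_map_eq_of_infinite fun n : ℕ =>
    (⟨irreducibleComponent (pt (x ^ n)), irreducibleComponent_mem_irreducibleComponents _⟩ :
      irreducibleComponents G.left)
  have hab' : irreducibleComponent (pt (x ^ a)) = irreducibleComponent (pt (x ^ b)) := congrArg Subtype.val hab
  wlog hlt : a < b generalizing a b
  · exact this b a hne.symm hab.symm hab'.symm (lt_of_le_of_ne (not_lt.1 hlt) hne.symm)
  refine ⟨b - a, Nat.sub_pos_of_lt hlt, ?_⟩
  have h := (mem_component_iff (x ^ a) (x ^ b)).1 ((irreducibleComponent_subset_connectedComponent)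
    (hab' ▸ mem_irreducibleComponent))
  rwa [← pow_sub _ hlt.le] at h

theorem exists_exponent [QuasiCompact G.hom] :
    ∃ c : ℕ, 0 < c ∧ ∀ x : 𝟙_ (Over (Spec (CommRingCat.of K))) ⟶ G, x ^ c ∈ comp0 (G := G) := by
  haveI : IsNoetherian G.left := by
    haveI : IsLocallyNoetherian G.left := LocallyOfFiniteType.isLocallyNoetherian G.hom
    haveI : CompactSpace G.left := QuasiCompact.compactSpace_of_compactSpace G.hom
    exact {}
  haveI : Finite (irreducibleComponents G.left) :=
    (TopologicalSpace.NoetherianSpace.finite_irreducibleComponents).to_subtype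
  let N := Nat.card (irreducibleComponents G.left)
  refine ⟨N.factorial, N.factorial_pos, fun x => ?_⟩
  obtain ⟨a, b, hne, hab⟩ : ∃ a b : Fin (N + 1), a ≠ b ∧
      irreducibleComponent (pt (x ^ (a : ℕ))) = irreducibleComponent (pt (x ^ (b : ℕ))) := by
    haveI := Fintype.ofFinite (irreducibleComponents G.left)
    obtain ⟨a, b, hne, hab⟩ := Fintype.exists_ne_map_eq_of_card_lt (fun n : Fin (N + 1) =>
      (⟨irreducibleComponent (pt (x ^ (n : ℕ))), irreducibleComponent_mem_irreducibleComponents _⟩ :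
        irreducibleComponents G.left)) (by simp [N, Nat.card_eq_fintype_card])
    exact ⟨a, b, hne, congrArg Subtype.val hab⟩
  wlog hlt : (a : ℕ) < b generalizing a b
  · exact this b a hne.symm hab.symm (lt_of_le_of_ne (not_lt.1 hlt) (Fin.val_ne_of_ne hne.symm))
  have h := (mem_component_iff (x ^ (a : ℕ)) (x ^ (b : ℕ))).1 ((irreducibleComponent_subset_connectedComponent)
    (hab ▸ mem_irreducibleComponent))
  rw [← pow_sub _ hlt.le] at h
  obtain ⟨e, he⟩ := Nat.dvd_factorial (Nat.sub_pos_of_lt hlt) (by omega : (b : ℕ) - a ≤ N)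
  rw [he, pow_mul]
  exact (comp0 (G := G)).pow_mem h e

section Powers

variable [IsCommMonObj G]

omit [LocallyOfFiniteType G.hom] in
theorem isMonHom_npow (n : ℕ) : IsMonHom ((𝟙 G : G ⟶ G) ^ n) where
  one_hom := by
    rw [MonObj.comp_pow, Category.comp_id,
      show η[G] = (1 : 𝟙_ _ ⟶ G) by rw [Hom.one_def, toUnit_unique (toUnit _) (𝟙 _), Category.id_comp], one_pow]
  mul_hom := by
    rw [MonObj.comp_pow, Category.comp_id, MonObj.mul_eq_mul, mul_pow, MonObj.comp_mul]
    congr 1 <;> simp [MonObj.comp_pow]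

/-- The power map on the identity component. -/
noncomputable def powHom (n : ℕ) : SGA3a.TargetLocus.preNeutral (𝟙 G) ⟶ G :=
  SGA3a.TargetLocus.preNeutralι (𝟙 G) ≫ (𝟙 G) ^ n

theorem powHom_eq (n : ℕ) :
    powHom (G := G) n = (SGA3a.TargetLocus.preNeutralι (𝟙 G)) ^ n := by
  rw [powHom, MonObj.comp_pow, Category.comp_id]

theorem powHom_range_subset (n : ℕ) :
    Set.range (powHom (G := G) n).left ⊆ connectedComponent (Grp57.unitPt G) := by
  obtain ⟨_, _⟩ := SGA3a.TargetLocus.exists_grpObj_preNeutral (𝟙 G)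
  haveI : PreconnectedSpace ↥(SGA3a.TargetLocus.preNeutral (𝟙 G)).left :=
    Subtype.preconnectedSpace (isPreconnected_connectedComponent (x := Grp57.unitPt G))
  refine (isPreconnected_range (powHom (G := G) n).left.continuous).subset_connectedComponent
    ⟨Grp57.unitPt _, ?_⟩
  show (η[SGA3a.TargetLocus.preNeutral (𝟙 G)] ≫ powHom n).left (IsLocalRing.closedPoint K) = _
  rw [powHom_eq, MonObj.comp_pow, IsMonHom.one_hom,
    show η[G] = (1 : 𝟙_ _ ⟶ G) by rw [Hom.one_def, toUnit_unique (toUnit _) (𝟙 _), Category.id_comp],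
    one_pow, Hom.one_def, toUnit_unique (toUnit _) (𝟙 _), Category.id_comp]
  rfl

theorem isClosed_range_powHom [QuasiCompact G.hom] (n : ℕ) :
    IsClosed (Set.range (powHom (G := G) n).left) := by
  obtain ⟨_, _⟩ := SGA3a.TargetLocus.exists_grpObj_preNeutral (𝟙 G)
  haveI : QuasiCompact (𝟙 G : G ⟶ G).left := inferInstanceAs (QuasiCompact (𝟙 G.left))
  haveI := SGA3a.TargetLocus.quasiCompact_preNeutral (𝟙 G)
  haveI : LocallyOfFiniteType (SGA3a.TargetLocus.preNeutral (𝟙 G)).hom :=
    inferInstanceAs (LocallyOfFiniteType (_ ≫ G.hom))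
  haveI : IsSeparated G.hom := Groth.Agent.AlgGrp79.isSeparated_grp G
  haveI : QuasiCompact (powHom (G := G) n).left := by
    haveI : QuasiCompact ((powHom (G := G) n).left ≫ G.hom) := by rw [Over.w]; infer_instance
    exact QuasiCompact.of_comp (powHom (G := G) n).left G.hom
  haveI := isMonHom_npow (G := G) n
  haveI : IsMonHom (powHom (G := G) n) := by unfold powHom; infer_instance
  exact SGA3a.GrpImageDim.isClosed_range (powHom (G := G) n)

variable [IsAlgClosed K]

/-- Rational points in the image of the power map are powers. -/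
theorem exists_pow_eq (n : ℕ) (w : 𝟙_ (Over (Spec (CommRingCat.of K))) ⟶ G)
    (hw : pt w ∈ Set.range (powHom (G := G) n).left) :
    ∃ z : 𝟙_ (Over (Spec (CommRingCat.of K))) ⟶ G, z ∈ comp0 (G := G) ∧ z ^ n = w := by
  haveI : LocallyOfFiniteType (SGA3a.TargetLocus.preNeutral (𝟙 G)).hom :=
    inferInstanceAs (LocallyOfFiniteType (_ ≫ G.hom))
  let P := SGA3a.TargetLocus.preNeutral (𝟙 G)
  haveI : JacobsonSpace P.left := LocallyOfFiniteType.jacobsonSpace P.hom
  have hwc : IsClosed ({pt w} : Set G.left) :=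
    ((pointEquivClosedPoint G.hom) ⟨w.left, Over.w w⟩).2
  obtain ⟨a, ha1, ha2⟩ := nonempty_inter_closedPoints (hw : ((powHom (G := G) n).left ⁻¹' {pt w}).Nonempty)
    (hwc.preimage (powHom (G := G) n).left.continuous).isLocallyClosed
  obtain ⟨⟨a', ha'⟩, hpa⟩ := (pointEquivClosedPoint P.hom).surjective ⟨a, ha2⟩
  have hpa' : a' (IsLocalRing.closedPoint K) = a := congrArg Subtype.val hpa
  let z : 𝟙_ (Over (Spec (CommRingCat.of K))) ⟶ P := Over.homMk a' ha'
  refine ⟨z ≫ SGA3a.TargetLocus.preNeutralι (𝟙 G), ?_, ?_⟩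
  · exact (a' (IsLocalRing.closedPoint K)).2
  · have hz : (z ≫ SGA3a.TargetLocus.preNeutralι (𝟙 G)) ^ n = z ≫ powHom n := by
      rw [powHom_eq, MonObj.comp_pow]
    ext : 1
    refine ext_of_apply_closedPoint_eq G.hom (Over.w _) (Over.w _) ?_
    rw [hz]
    show (powHom (G := G) n).left (a' (IsLocalRing.closedPoint K)) = pt w
    rw [hpa']
    exact ha1

/-- Multiples of enough high powers of a prime are divisible inside the identity component. -/
theorem exists_divisible_level [QuasiCompact G.hom] (p : ℕ) :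
    ∃ s : ℕ, ∀ (t : ℕ), s ≤ t → ∀ z : 𝟙_ (Over (Spec (CommRingCat.of K))) ⟶ G, z ∈ comp0 (G := G) →
      ∃ z', z' ∈ comp0 (G := G) ∧ z' ^ (p ^ t) = z ^ (p ^ s) := by
  haveI : IsNoetherian G.left := by
    haveI : IsLocallyNoetherian G.left := LocallyOfFiniteType.isLocallyNoetherian G.hom
    haveI : CompactSpace G.left := QuasiCompact.compactSpace_of_compactSpace G.hom
    exact {}
  let D : ℕ → TopologicalSpace.Closeds G.left := fun t => ⟨_, isClosed_range_powHom (G := G) (p ^ t)⟩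
  obtain ⟨_, ⟨s, rfl⟩, hs⟩ := (wellFounded_lt (α := TopologicalSpace.Closeds G.left)).has_min (Set.range D)
    ⟨_, 0, rfl⟩
  refine ⟨s, fun t ht z hz => exists_pow_eq _ _ ?_⟩
  have hle : D t ≤ D s := by
    obtain ⟨d, rfl⟩ := Nat.exists_eq_add_of_le ht
    rintro _ ⟨a, rfl⟩
    obtain ⟨l, hl⟩ := SGA3a.TargetLocus.exists_lift_preNeutral (𝟙 G) (powHom (G := G) (p ^ d)) fun q => by
      rw [Category.comp_id]
      exact powHom_range_subset _ ⟨q, rfl⟩
    have : powHom (G := G) (p ^ (s + d)) = l ≫ powHom (p ^ s) := by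
      rw [powHom_eq (p ^ s), MonObj.comp_pow, hl, powHom_eq, powHom_eq, ← pow_mul]
      congr 1
      ring
    rw [this]
    exact ⟨l.left a, rfl⟩
  have heq : D t = D s := eq_of_le_of_not_lt hle (hs _ ⟨t, rfl⟩)
  have hmem : pt (z ^ (p ^ s)) ∈ (D s : Set G.left) := by
    obtain ⟨l, hl⟩ := SGA3a.TargetLocus.exists_lift_preNeutral (𝟙 G) z fun q => by
      rw [Category.comp_id, Subsingleton.elim (α := PrimeSpectrum K) q (IsLocalRing.closedPoint K)]
      exact hz
    refine ⟨l.left (IsLocalRing.closedPoint K), ?_⟩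
    show (l ≫ powHom (p ^ s)).left (IsLocalRing.closedPoint K) = _
    rw [powHom_eq, MonObj.comp_pow, hl]
    rfl
  rwa [← heq] at hmem

/-- A torsion rational point in the component of a point of prime power order in the component group. -/
theorem exists_torsion_in_component [QuasiCompact G.hom] (p r : ℕ)
    (x : 𝟙_ (Over (Spec (CommRingCat.of K))) ⟶ G) (hx : x ^ (p ^ r) ∈ comp0 (G := G)) :
    ∃ y, y * x⁻¹ ∈ comp0 (G := G) ∧ ∃ s : ℕ, y ^ (p ^ s) = 1 := by
  obtain ⟨s, hs⟩ := exists_divisible_level (G := G) p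
  obtain ⟨z, hz, hzx⟩ := hs (r + s) (Nat.le_add_left s r) _ hx
  refine ⟨x * z⁻¹, ?_, r + s, ?_⟩
  · rw [mul_comm x, mul_inv_cancel_right]
    exact inv_mem hz
  · rw [mul_pow, inv_pow, hzx, ← pow_mul, ← pow_add, mul_inv_cancel]

/-- The identity component is divisible by integers invertible in the field. -/
theorem exists_root [Smooth G.hom] [QuasiCompact G.hom] (m : ℕ) (hm : (m : K) ≠ 0)
    (w : 𝟙_ (Over (Spec (CommRingCat.of K))) ⟶ G) (hw : w ∈ comp0 (G := G)) :
    ∃ z, z ∈ comp0 (G := G) ∧ z ^ m = w := by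
  refine exists_pow_eq _ _ ?_
  haveI : Etale ((𝟙 G : G ⟶ G) ^ m).left := by
    have h := Grp57.etale_zpow G (m : ℤ) (by exact_mod_cast hm)
    rwa [zpow_natCast] at h
  haveI : IsOpenImmersion (SGA3a.TargetLocus.preNeutralι (𝟙 G)).left :=
    inferInstanceAs (IsOpenImmersion ((𝟙 G : G ⟶ G).left ⁻¹ᵁ _).ι)
  haveI : UniversallyOpen (powHom (G := G) m).left := by
    rw [powHom, Over.comp_left]
    infer_instance
  have hclopen : IsClopen (Set.range (powHom (G := G) m).left) :=
    ⟨isClosed_range_powHom m, (powHom (G := G) m).left.isOpenMap.isOpen_range⟩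
  obtain ⟨_, _⟩ := SGA3a.TargetLocus.exists_grpObj_preNeutral (𝟙 G)
  have hne : (connectedComponent (Grp57.unitPt G) ∩ Set.range (powHom (G := G) m).left).Nonempty :=
    ⟨_, powHom_range_subset m ⟨Grp57.unitPt _, rfl⟩, Grp57.unitPt _, rfl⟩
  exact isPreconnected_connectedComponent.subset_isClopen hclopen hne hw

/-- The component extension splits if its `p`-primary part splits. -/
theorem split_of_pPart_split [Smooth G.hom] [QuasiCompact G.hom] (p : ℕ) [Fact p.Prime] [CharP K p]
    (h : ∀ x : 𝟙_ (Over (Spec (CommRingCat.of K))) ⟶ G, (∃ r : ℕ, x ^ (p ^ r) ∈ comp0 (G := G)) →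
      ∃ y, y * x⁻¹ ∈ comp0 (G := G) ∧ ∀ n : ℕ, y ^ n = 1 ↔ x ^ n ∈ comp0 (G := G))
    (x : 𝟙_ (Over (Spec (CommRingCat.of K))) ⟶ G) :
    ∃ y, y * x⁻¹ ∈ comp0 (G := G) ∧ ∀ n : ℕ, y ^ n = 1 ↔ x ^ n ∈ comp0 (G := G) := by
  let H : Subgroup (𝟙_ (Over (Spec (CommRingCat.of K))) ⟶ G) := comp0
  have hord : ∀ n : ℕ, x ^ n ∈ H ↔ orderOf (x : _ ⧸ H) ∣ n := fun n => by
    rw [orderOf_dvd_iff_pow_eq_one, ← QuotientGroup.mk_pow, QuotientGroup.eq_one_iff]
  let d := orderOf (x : _ ⧸ H)
  have hd0 : d ≠ 0 := by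
    obtain ⟨n, hn, hn'⟩ := exists_pos_pow_mem x
    exact fun h0 => hn.ne' (Nat.eq_zero_of_zero_dvd (h0 ▸ (hord n).1 hn'))
  obtain ⟨r, m, hpm, hd⟩ := Nat.exists_eq_pow_mul_and_not_dvd hd0 p (Fact.out : p.Prime).ne_one
  have hcop : IsCoprime (m : ℤ) ((p ^ r : ℕ) : ℤ) :=
    Nat.isCoprime_iff_coprime.2 (((Fact.out : p.Prime).coprime_iff_not_dvd.2 hpm).symm.pow_right r)
  obtain ⟨a, b, hab⟩ := hcop
  let x₁ := x ^ (a * (m : ℤ))
  let x₂ := x ^ (b * ((p ^ r : ℕ) : ℤ))
  have hx12 : x₁ * x₂ = x := by rw [← zpow_add, hab, zpow_one]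
  have hxd : x ^ d ∈ H := (hord d).2 dvd_rfl
  obtain ⟨y₁, hy₁, hy₁'⟩ := h x₁ ⟨r, by
    have e : x₁ ^ (p ^ r) = (x ^ d) ^ a := by
      rw [← zpow_natCast x₁, ← zpow_natCast x, ← zpow_mul, ← zpow_mul, hd]
      congr 1
      push_cast
      ring
    rw [e]
    exact H.zpow_mem hxd a⟩
  obtain ⟨z, hz, hzm⟩ := exists_root m (fun h0 => hpm ((CharP.cast_eq_zero_iff K p m).1 h0)) (x₂ ^ m) (by
    have e : x₂ ^ m = (x ^ d) ^ b := by
      rw [← zpow_natCast x₂, ← zpow_natCast x, ← zpow_mul, ← zpow_mul, hd]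
      congr 1
      push_cast
      ring
    rw [e]
    exact H.zpow_mem hxd b)
  have hy₂ : (x₂ * z⁻¹) ^ m = 1 := by rw [mul_pow, inv_pow, hzm, mul_inv_cancel]
  have hyx : y₁ * (x₂ * z⁻¹) * x⁻¹ ∈ H := by
    have e : y₁ * (x₂ * z⁻¹) * x⁻¹ = (y₁ * x₁⁻¹) * z⁻¹ := by
      rw [← hx12, mul_inv, _root_.mul_mul_mul_comm, mul_comm x₂ z⁻¹, mul_inv_cancel_right]
    rw [e]
    exact H.mul_mem hy₁ (H.inv_mem hz)
  refine ⟨_, hyx, fun n => ⟨fun hn => ?_, fun hn => ?_⟩⟩
  · have := H.pow_mem hyx n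
    rwa [mul_pow _ x⁻¹, hn, _root_.one_mul, inv_pow, H.inv_mem_iff] at this
  · have hdn : d ∣ n := (hord n).1 hn
    have h1 : y₁ ^ n = 1 := by
      refine (hy₁' n).2 ?_
      have e : x₁ ^ n = (x ^ n) ^ (a * (m : ℤ)) := by
        rw [← zpow_natCast x₁, ← zpow_natCast x, ← zpow_mul, ← zpow_mul, mul_comm]
      rw [e]
      exact H.zpow_mem hn _
    obtain ⟨c, rfl⟩ := (hd ▸ Dvd.intro_left _ rfl : m ∣ d).trans hdn
    rw [mul_pow, h1, pow_mul, hy₂, one_pow, _root_.mul_one]

end Powers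

end Groth.Agent.NeronHD28.KPts
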