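import Groth.Agent.NeronHD28.PowEtale
import Groth.Agent.S0536
import Mathlib.AlgebraicGeometry.Morphisms.FormallyUnramified
import Mathlib.RingTheory.Henselian

/-! Torsion of order invertible on a henselian base lifts uniquely. -/

set_option autoImplicit false
universe u

open CategoryTheory CategoryTheory.Limits AlgebraicGeometry MonoidalCategory CartesianMonoidalCategory MonObj

namespace Groth.Agent.NeronHD28

variable {R : Type u} [CommRing R]

/-- The closed point of a local base. -/
noncomputable abbrev closedPt (R : Type u) [CommRing R] [IsLocalRing R] :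
    Spec (CommRingCat.of (IsLocalRing.ResidueField R)) ⟶ Spec (CommRingCat.of R) :=
  Spec.map (CommRingCat.ofHom (IsLocalRing.residue R))

theorem closedPt_apply [IsLocalRing R] (c : Spec (CommRingCat.of (IsLocalRing.ResidueField R))) :
    (closedPt R).base c = IsLocalRing.closedPoint R := by
  refine PrimeSpectrum.ext ?_
  show (PrimeSpectrum.asIdeal c).comap (IsLocalRing.residue R) = IsLocalRing.maximalIdeal R
  rw [(PrimeSpectrum.asIdeal c).eq_bot_of_prime, ← RingHom.ker_eq_comap_bot, IsLocalRing.ker_residue]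

theorem exists_section_of_smooth_henselian [HenselianLocalRing R] {T : Scheme.{u}}
    (p : T ⟶ Spec (CommRingCat.of R)) [Smooth p]
    (t₀ : Spec (CommRingCat.of (IsLocalRing.ResidueField R)) ⟶ T) (h : t₀ ≫ p = closedPt R) :
    ∃ σ : Spec (CommRingCat.of R) ⟶ T, σ ≫ p = 𝟙 _ ∧ closedPt R ≫ σ = t₀ := by
  let c : Spec (CommRingCat.of (IsLocalRing.ResidueField R)) := IsLocalRing.closedPoint _
  obtain ⟨V, hV, hcV, -⟩ := exists_isAffineOpen_mem_and_subset (U := (⊤ : T.Opens)) (x := t₀.base c) trivial
  let j : Spec Γ(T, V) ⟶ T := hV.fromSpec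
  have hr : Set.range t₀ ⊆ Set.range j := by
    rintro _ ⟨c', rfl⟩
    show _ ∈ Set.range hV.fromSpec
    rw [hV.range_fromSpec]
    exact (Subsingleton.elim c c' : _) ▸ hcV
  obtain ⟨ψ, hψ⟩ := Spec.map_surjective (IsOpenImmersion.lift j t₀ hr)
  obtain ⟨φ, hφ⟩ := Spec.map_surjective (j ≫ p)
  have hsm : φ.hom.Smooth := (HasRingHomProperty.Spec_iff (P := @Smooth)).1 (hφ ▸ inferInstance)
  algebraize [φ.hom]
  have : Algebra.Smooth R Γ(T, V) := hsm
  have hψφ : φ ≫ ψ = CommRingCat.ofHom (IsLocalRing.residue R) := by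
    apply Spec.map_injective
    rw [Spec.map_comp, hψ, hφ, ← Category.assoc, IsOpenImmersion.lift_fac, h]
  let σ₀ : Γ(T, V) →ₐ[R] R ⧸ IsLocalRing.maximalIdeal R :=
    { ψ.hom with commutes' := fun r => congrArg (fun m => m.hom r) hψφ }
  obtain ⟨τ, hτ⟩ := Groth.Agent.S0536.result R Γ(T, V) R (IsLocalRing.maximalIdeal R) σ₀
  refine ⟨Spec.map (CommRingCat.ofHom τ.toRingHom) ≫ j, ?_, ?_⟩
  · rw [Category.assoc, ← hφ, ← Spec.map_comp,
      show φ ≫ CommRingCat.ofHom τ.toRingHom = 𝟙 (CommRingCat.of R) from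
        CommRingCat.hom_ext (RingHom.ext fun r => τ.commutes r), Spec.map_id]
  · have he : CommRingCat.ofHom τ.toRingHom ≫ CommRingCat.ofHom (IsLocalRing.residue R) = ψ :=
      CommRingCat.hom_ext (RingHom.ext fun a => AlgHom.congr_fun hτ a)
    rw [← Category.assoc, ← Spec.map_comp, he, hψ, IsOpenImmersion.lift_fac]

theorem section_unique_of_unramified [IsLocalRing R] {T : Scheme.{u}} (p : T ⟶ Spec (CommRingCat.of R))
    [FormallyUnramified p] [LocallyOfFiniteType p] (σ σ' : Spec (CommRingCat.of R) ⟶ T)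
    (hσ : σ ≫ p = 𝟙 _) (hσ' : σ' ≫ p = 𝟙 _) (h : closedPt R ≫ σ = closedPt R ≫ σ') : σ = σ' := by
  let L := pullback.lift σ σ' (hσ.trans hσ'.symm)
  let D := pullback.diagonal p
  have : IsOpenImmersion D := inferInstance
  have hr : Set.range L ⊆ Set.range D := by
    have hm : L.base (IsLocalRing.closedPoint R) ∈ Set.range D := by
      refine ⟨σ.base (IsLocalRing.closedPoint R), ?_⟩
      have e : closedPt R ≫ σ ≫ D = closedPt R ≫ L := by
        apply pullback.hom_ext
        · simp only [L, D, Category.assoc, pullback.diagonal_fst, pullback.lift_fst, Category.comp_id]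
        · simp only [L, D, Category.assoc, pullback.diagonal_snd, pullback.lift_snd, Category.comp_id, h]
      have e2 := congrArg (fun m : Spec (CommRingCat.of (IsLocalRing.ResidueField R)) ⟶ pullback p p =>
        m.base (IsLocalRing.closedPoint _)) e
      simpa only [Scheme.Hom.comp_apply, closedPt_apply] using e2
    rintro _ ⟨z, rfl⟩
    exact ((IsLocalRing.specializes_closedPoint z).map L.continuous).mem_open D.opensRange.2 hm
  have h1 : IsOpenImmersion.lift D L hr ≫ D = L := IsOpenImmersion.lift_fac _ _ _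
  have e₁ := congrArg (· ≫ pullback.fst p p) h1
  have e₂ := congrArg (· ≫ pullback.snd p p) h1
  simp only [L, D, Category.assoc, pullback.diagonal_fst, pullback.diagonal_snd, pullback.lift_fst, pullback.lift_snd,
    Category.comp_id] at e₁ e₂
  exact e₁.symm.trans e₂

/-- Two rational points with the same image are equal. -/
theorem ext_of_point_eq [IsLocalRing R] {T : Scheme.{u}} (p : T ⟶ Spec (CommRingCat.of R))
    {a b : Spec (CommRingCat.of (IsLocalRing.ResidueField R)) ⟶ T} (ha : a ≫ p = closedPt R) (hb : b ≫ p = closedPt R)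
    (hpt : ∀ c, a.base c = b.base c) : a = b := by
  let c : Spec (CommRingCat.of (IsLocalRing.ResidueField R)) := IsLocalRing.closedPoint _
  obtain ⟨V, hV, hcV, -⟩ := exists_isAffineOpen_mem_and_subset (U := (⊤ : T.Opens)) (x := a.base c) trivial
  let j : Spec Γ(T, V) ⟶ T := hV.fromSpec
  have hr : ∀ (m : Spec (CommRingCat.of (IsLocalRing.ResidueField R)) ⟶ T), m.base c = a.base c →
      Set.range m ⊆ Set.range j := by
    rintro m hm _ ⟨c', rfl⟩
    show _ ∈ Set.range hV.fromSpec
    rw [hV.range_fromSpec, Subsingleton.elim c' c, hm]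
    exact hcV
  obtain ⟨φ, hφ⟩ := Spec.map_surjective (j ≫ p)
  obtain ⟨ψa, hψa⟩ := Spec.map_surjective (IsOpenImmersion.lift j a (hr a rfl))
  obtain ⟨ψb, hψb⟩ := Spec.map_surjective (IsOpenImmersion.lift j b (hr b (hpt c).symm))
  have hover : ∀ (ψ : Γ(T, V) ⟶ CommRingCat.of (IsLocalRing.ResidueField R))
      (m : Spec (CommRingCat.of (IsLocalRing.ResidueField R)) ⟶ T), Spec.map ψ ≫ j = m → m ≫ p = closedPt R →
      ∀ r, ψ (φ r) = IsLocalRing.residue R r := by
    intro ψ m hm hmp r
    have : φ ≫ ψ = CommRingCat.ofHom (IsLocalRing.residue R) := by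
      apply Spec.map_injective
      rw [Spec.map_comp, hφ, ← Category.assoc, hm, hmp]
    exact congrArg (fun m => m.hom r) this
  have ja : Spec.map ψa ≫ j = a := by rw [hψa, IsOpenImmersion.lift_fac]
  have jb : Spec.map ψb ≫ j = b := by rw [hψb, IsOpenImmersion.lift_fac]
  have hpts : (Spec.map ψa).base c = (Spec.map ψb).base c := by
    apply j.isOpenEmbedding.injective
    rw [← Scheme.Hom.comp_apply, ← Scheme.Hom.comp_apply, ja, jb, hpt c]
  have hker : ∀ z, ψa z = 0 → ψb z = 0 := by
    intro z hz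
    have h1 : z ∈ ((Spec.map ψa).base c).asIdeal := by
      show ψa.hom z ∈ IsLocalRing.maximalIdeal _
      rw [show ψa.hom z = 0 from hz]
      exact Submodule.zero_mem _
    rw [hpts] at h1
    have h2 : ψb.hom z ∈ IsLocalRing.maximalIdeal (IsLocalRing.ResidueField R) := h1
    rw [IsLocalRing.maximalIdeal_eq_bot] at h2
    exact h2
  have : ψa = ψb := by
    ext z
    obtain ⟨r, hr'⟩ := IsLocalRing.residue_surjective (ψa z)
    have h1 : ψa (z - φ r) = 0 := by rw [map_sub, hover ψa a ja ha, hr', sub_self]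
    have h2 := hker _ h1
    rw [map_sub, sub_eq_zero] at h2
    rw [h2, hover ψb b jb hb, hr']
  rw [← ja, ← jb, this]

theorem one_left {S : Scheme.{u}} (T G : Over S) [GrpObj G] : (1 : T ⟶ G).left = T.hom ≫ (η[G]).left := by
  show (toUnit T).left ≫ (η[G]).left = _
  rfl

theorem existsUnique_torsion_lift [HenselianLocalRing R] (G : Over (Spec (CommRingCat.of R))) [GrpObj G]
    [IsCommMonObj G] [Smooth G.hom] (N : ℕ) (hN : IsUnit (N : R))
    (τ : Over.mk (closedPt R) ⟶ G) (hτ : τ ^ N = 1) :
    ∃! σ : Over.mk (𝟙 (Spec (CommRingCat.of R))) ⟶ G,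
      σ ^ N = 1 ∧ Over.homMk (closedPt R) (Category.comp_id _) ≫ σ = τ := by
  let f := ((𝟙 G : G ⟶ G) ^ N).left
  have : Etale f := etale_pow G N (natCast_residueField_ne_zero N hN)
  let e : Spec (CommRingCat.of R) ⟶ G.left := (η[G]).left
  let p : pullback f e ⟶ Spec (CommRingCat.of R) := pullback.snd f e
  have : Etale p := inferInstanceAs (Etale (pullback.snd f e))
  have hpow : ∀ {T : Over (Spec (CommRingCat.of R))} (x : T ⟶ G), x ^ N = 1 ↔ x.left ≫ f = T.hom ≫ e := by
    intro T x
    have h1 : x ≫ ((𝟙 G : G ⟶ G) ^ N) = x ^ N := by rw [MonObj.comp_pow, Category.comp_id]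
    constructor
    · intro h
      rw [← h1] at h
      exact (congrArg Over.Hom.left h).trans (one_left T G)
    · intro h
      rw [← h1]
      ext : 1
      exact h.trans (one_left T G).symm
  obtain ⟨s, hs, hst⟩ := exists_section_of_smooth_henselian p
    (pullback.lift τ.left (closedPt R) ((hpow τ).1 hτ)) (pullback.lift_snd _ _ _)
  have hover : (s ≫ pullback.fst f e) ≫ G.hom = 𝟙 _ := by
    have : pullback.fst f e ≫ G.hom = p := by
      have hf : f ≫ G.hom = G.hom := Over.w _
      have he : e ≫ G.hom = 𝟙 _ := Over.w (η[G])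
      rw [← hf, ← Category.assoc, pullback.condition, Category.assoc, he, Category.comp_id]
    rw [Category.assoc, this, hs]
  refine ⟨Over.homMk (s ≫ pullback.fst f e) hover, ⟨?_, ?_⟩, ?_⟩
  · rw [hpow]
    show (s ≫ pullback.fst f e) ≫ f = 𝟙 _ ≫ e
    rw [Category.assoc, pullback.condition, ← Category.assoc, hs]
  · ext : 1
    show closedPt R ≫ s ≫ pullback.fst f e = τ.left
    rw [← Category.assoc, hst, pullback.lift_fst]
  · intro σ' hσ'
    obtain ⟨h1, h2⟩ := hσ'
    have h1' := (hpow σ').1 h1
    change σ'.left ≫ f = 𝟙 _ ≫ e at h1'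
    have : pullback.lift σ'.left (𝟙 _) h1' = s := by
      refine section_unique_of_unramified p _ _ (pullback.lift_snd _ _ _) hs ?_
      rw [hst]
      apply pullback.hom_ext
      · rw [Category.assoc, pullback.lift_fst, pullback.lift_fst]
        exact congrArg Over.Hom.left h2
      · rw [Category.assoc, pullback.lift_snd, pullback.lift_snd]
        exact Category.comp_id _
    ext : 1
    show σ'.left = s ≫ pullback.fst f e
    rw [← this, pullback.lift_fst]

/-- A point killed by an invertible integer which reduces to the unit is the unit. -/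
theorem eq_one_of_pow_eq_one [HenselianLocalRing R] (G : Over (Spec (CommRingCat.of R))) [GrpObj G]
    [IsCommMonObj G] [Smooth G.hom] (N : ℕ) (hN : IsUnit (N : R))
    (x : Over.mk (𝟙 (Spec (CommRingCat.of R))) ⟶ G) (hx : x ^ N = 1)
    (h : x.left.base (IsLocalRing.closedPoint R) = (η[G]).left.base (IsLocalRing.closedPoint R)) : x = 1 := by
  let q : Over.mk (closedPt R) ⟶ Over.mk (𝟙 (Spec (CommRingCat.of R))) := Over.homMk (closedPt R) (Category.comp_id _)
  have hres : q ≫ x = q ≫ 1 := by
    ext : 1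
    rw [Over.comp_left, Over.comp_left, one_left]
    show closedPt R ≫ x.left = closedPt R ≫ 𝟙 _ ≫ (η[G]).left
    rw [Category.id_comp]
    refine ext_of_point_eq G.hom ?_ ?_ ?_
    · rw [Category.assoc, Over.w x]
      exact Category.comp_id _
    · rw [Category.assoc, Over.w (η[G])]
      exact Category.comp_id _
    · intro c
      rw [Scheme.Hom.comp_apply, Scheme.Hom.comp_apply, closedPt_apply, h]
  exact (existsUnique_torsion_lift G N hN (q ≫ 1) (by rw [MonObj.comp_one, one_pow])).unique
    ⟨hx, hres⟩ ⟨one_pow _, rfl⟩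

end Groth.Agent.NeronHD28
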