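import Groth.Agent.NeronHD28.PowEtale
import Groth.Agent.NeronHD28.FlatIffQFScheme
import Groth.Agent.Deligne57.General
import Groth.Agent.RedPts82.SubGrp
import Groth.Agent.AlgGrp79.KernelPts
import Groth.Agent.AlgGrp79.Homogeneous
import Groth.Agent.SpPts86.LocPMore
import Groth.Prelude.Def_Neron
import Groth.Prelude.Def_SGA7IX

/-! Isogenies of Néron models of degree invertible on the base. -/

set_option autoImplicit false
set_option linter.style.haveILetI false
universe u

open CategoryTheory CategoryTheory.Limits AlgebraicGeometry MonoidalCategory CartesianMonoidalCategory MonObj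

namespace Groth.Agent.NeronHD28

theorem isCommMonObj_of_mono {S : Scheme.{u}} {G K : Over S} [GrpObj G] [IsCommMonObj G] [GrpObj K]
    (j : K ⟶ G) [Mono j] [IsMonHom j] : IsCommMonObj K := by
  refine ⟨?_⟩
  rw [← cancel_mono j, Category.assoc, IsMonHom.mul_hom, ← Category.assoc]
  simp only [← BraidedCategory.braiding_naturality, Category.assoc, IsCommMonObj.mul_comm]

/-- A homomorphism with finite kernel over a field: the power by the order of the kernel factors through it. -/
theorem exists_comp_eq_pow {K : Type u} [Field K] {G H : Over (Spec (CommRingCat.of K))} [GrpObj G] [GrpObj H]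
    [IsCommMonObj G] [LocallyOfFiniteType G.hom] [QuasiCompact G.hom] [LocallyOfFiniteType H.hom]
    [IsReduced H.left] (f : G ⟶ H) [IsMonHom f] [Surjective f.left] [QuasiCompact f.left]
    {N : Over (Spec (CommRingCat.of K))} (i : N ⟶ G) (hker : AlgGrp.IsKernel i f) [IsFinite N.hom]
    (n : ℕ) (hn : ∀ s, N.hom.finrank s = n) : ∃ g : H ⟶ G, f ≫ g = (𝟙 G) ^ n := by
  haveI := AlgGrp79.mono_of_isKernel hker
  obtain ⟨_, _⟩ : ∃ (_ : GrpObj N), IsMonHom i := by
    refine RedPts82.exists_grpObj_mono i (fun T => ?_) (fun T a b => ?_) fun T a => ?_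
    · exact AlgGrp79.exists_ker_of_comp_one hker 1 (MonObj.one_comp f)
    · exact AlgGrp79.exists_ker_of_comp_one hker _ (by
        rw [MonObj.mul_comp, AlgGrp79.isKernel_comp_one hker, AlgGrp79.isKernel_comp_one hker, _root_.one_mul])
    · exact AlgGrp79.exists_ker_of_comp_one hker _ (by
        rw [GrpObj.inv_comp, AlgGrp79.isKernel_comp_one hker, inv_one])
  haveI := isCommMonObj_of_mono i
  haveI : Flat N.hom := by
    haveI : Subsingleton (Spec (CommRingCat.of K)) := inferInstanceAs (Subsingleton (PrimeSpectrum K))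
    infer_instance
  haveI : Flat f.left := AlgGrp79.flat_of_surjective_hom f
  haveI : EffectiveEpi f.left := inferInstance
  have hc : ∀ {W : Scheme.{u}} (a b : W ⟶ G.left), a ≫ f.left = b ≫ f.left →
      a ≫ ((𝟙 G) ^ n : G ⟶ G).left = b ≫ ((𝟙 G) ^ n : G ⟶ G).left := by
    intro W a b hab
    have hw : b ≫ G.hom = a ≫ G.hom := by
      rw [← Over.w f, reassoc_of% hab]
    let a' : Over.mk (a ≫ G.hom) ⟶ G := Over.homMk a rfl
    let b' : Over.mk (a ≫ G.hom) ⟶ G := Over.homMk b hw
    have h0 : (a' * b'⁻¹) ≫ f = 1 := by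
      rw [MonObj.mul_comp, GrpObj.inv_comp, mul_inv_eq_one]
      exact Over.OverMorphism.ext hab
    obtain ⟨k, hk⟩ := AlgGrp79.exists_ker_of_comp_one hker _ h0
    have h1 : (a' * b'⁻¹) ^ n = 1 := by
      rw [← hk, ← MonObj.pow_comp, Deligne57.pow_eq_one N n hn _ k, MonObj.one_comp]
    rw [mul_pow, inv_pow, mul_inv_eq_one] at h1
    have h2 : a' ≫ (𝟙 G) ^ n = b' ≫ (𝟙 G) ^ n := by
      rw [MonObj.comp_pow, MonObj.comp_pow, Category.comp_id, Category.comp_id, h1]
    exact congrArg Over.Hom.left h2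
  refine ⟨Over.homMk (EffectiveEpi.desc f.left _ hc) ?_, ?_⟩
  · rw [← cancel_epi f.left, EffectiveEpi.fac_assoc, Over.w, Over.w]
  · ext : 1
    exact EffectiveEpi.fac f.left _ hc

section Dedekind

variable {R : Type u} [CommRing R]

theorem isKernel_genericFibre {A B N : Over (Spec (CommRingCat.of R))} [GrpObj B] {i : N ⟶ A} {φ : A ⟶ B}
    (h : AlgGrp.IsKernel i φ) [IsDomain R] :
    AlgGrp.IsKernel ((Neron.genericFibre R).map i) ((Neron.genericFibre R).map φ) := by
  let F := Neron.genericFibre R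
  let e : 𝟙_ _ ≅ F.obj (𝟙_ (Over (Spec (CommRingCat.of R)))) := asIso (Functor.LaxMonoidal.ε F)
  refine IsPullback.of_iso (h.map F) (Iso.refl _) (Iso.refl _) e.symm (Iso.refl _) (by simp [F]) ?_ (by simp [F]) ?_
  · exact toUnit_unique _ _
  · rw [Iso.refl_hom, Category.comp_id, Functor.obj.η_def]
    exact (Iso.inv_hom_id_assoc e _).symm

variable [IsDomain R]

/-- The kernel of a homomorphism of Néron models has the mapping property. -/
theorem bijective_kernel {A B N : Over (Spec (CommRingCat.of R))} [GrpObj A] [GrpObj B] {i : N ⟶ A}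
    {φ : A ⟶ B} [IsMonHom φ] (h : AlgGrp.IsKernel i φ) (Y : Over (Spec (CommRingCat.of R)))
    (hA : Function.Bijective (fun g : Y ⟶ A => (Neron.genericFibre R).map g))
    (hB : Function.Injective (fun g : Y ⟶ B => (Neron.genericFibre R).map g)) :
    Function.Bijective (fun g : Y ⟶ N => (Neron.genericFibre R).map g) := by
  let F := Neron.genericFibre R
  haveI := AlgGrp79.mono_of_isKernel h
  haveI := AlgGrp79.mono_of_isKernel (isKernel_genericFibre h)
  constructor
  · intro g₁ g₂ e
    rw [← cancel_mono i]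
    refine hA.1 ?_
    show F.map (g₁ ≫ i) = F.map (g₂ ≫ i)
    rw [Functor.map_comp, Functor.map_comp]
    exact congrArg (· ≫ F.map i) e
  · intro w
    obtain ⟨a, ha⟩ := hA.2 (w ≫ F.map i)
    have h1 : a ≫ φ = 1 := by
      refine hB ?_
      show F.map (a ≫ φ) = F.map 1
      have hiφ : i ≫ φ = 1 := by simpa using AlgGrp79.isKernel_comp_one h (𝟙 N)
      have hone : ∀ Z : Over (Spec (CommRingCat.of R)), F.map (1 : Z ⟶ B) = 1 := fun Z =>
        map_one F.homMonoidHom
      rw [Functor.map_comp, show F.map a = w ≫ F.map i from ha, Category.assoc, ← Functor.map_comp, hiφ,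
        hone, hone, MonObj.comp_one]
    obtain ⟨g, hg⟩ := AlgGrp79.exists_ker_of_comp_one h a h1
    refine ⟨g, (cancel_mono (F.map i)).1 ?_⟩
    show F.map g ≫ F.map i = w ≫ F.map i
    rw [← Functor.map_comp, hg]
    exact ha

end Dedekind

end Groth.Agent.NeronHD28
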