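import Groth.Agent.NeronHD28.RegularExt
import Groth.Agent.Unr55.SmoothStalkCor

/-! The Néron mapping property of proper groups over regular bases. -/

set_option autoImplicit false
universe u

open CategoryTheory CategoryTheory.Limits AlgebraicGeometry IsLocalRing

namespace Groth.Agent.NeronHD28

variable {S Y A : Scheme.{u}} [IsLocallyNoetherian S] (pA : A ⟶ S) [IsProper pA] (pY : Y ⟶ S) [Smooth pY]

include pY in
theorem regular_stalk_of_smooth_regular (hreg : ∀ s : S, IsRegularLocalRing (S.presheaf.stalk s)) (y : Y) :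
    IsRegularLocalRing (Y.presheaf.stalk y) :=
  (Unr55.isRegularLocalRing_stalk_iff_of_smooth pY y
    (Scheme.Hom.mem_smoothLocus.mp ((Scheme.Hom.smoothLocus_eq_top pY).ge trivial))).2 (hreg _)

include pY in
theorem isReduced_of_smooth_regular (hreg : ∀ s : S, IsRegularLocalRing (S.presheaf.stalk s)) : IsReduced Y := by
  have : ∀ y : Y, _root_.IsReduced (Y.presheaf.stalk y) := fun y => by
    have := regular_stalk_of_smooth_regular pY hreg y
    have := CAlg1.isDomain_regular (Y.presheaf.stalk y)
    infer_instance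
  exact isReduced_of_isReduced_stalk Y

/-- Restriction of morphisms into a proper scheme without rational curves is bijective. -/
theorem existsUnique_extension_regular (hreg : ∀ s : S, IsRegularLocalRing (S.presheaf.stalk s)) (hA : NoRat pA)
    (U : S.Opens) (hU : Dense (U : Set S)) (w : pullback pY U.ι ⟶ A) (hw : w ≫ pA = pullback.fst pY U.ι ≫ pY) :
    ∃! g : Y ⟶ A, g ≫ pA = pY ∧ pullback.fst pY U.ι ≫ g = w := by
  have : IsLocallyNoetherian Y := LocallyOfFiniteType.isLocallyNoetherian pY
  have := isReduced_of_smooth_regular pY hreg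
  let V := pY ⁻¹ᵁ U
  have hV : Dense (V : Set Y) := hU.preimage pY.isOpenMap
  let e := pullbackRestrictIsoRestrict pY U
  let g₀ : (V : Scheme.{u}) ⟶ A := e.inv ≫ w
  have he : e.inv ≫ pullback.fst pY U.ι = V.ι := pullbackRestrictIsoRestrict_inv_fst pY U
  have hg₀ : g₀ ≫ pA = V.ι ≫ pY := by rw [Category.assoc, hw, ← Category.assoc, he]
  obtain ⟨W, hVW, g', hg', hgV, hW⟩ := EGA73.exists_extension pA pY V hV g₀ hg₀ Set.univ fun y _ => by
    have := regular_stalk_of_smooth_regular pY hreg y
    have := CAlg1.isDomain_regular (Y.presheaf.stalk y)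
    refine exists_local_extension' pA pY V hV g₀ hg₀ y fun k hk => ?_
    obtain ⟨n, hn⟩ : ∃ n : ℕ, ringKrullDim (Y.presheaf.stalk y) = n :=
      ⟨_, (IsRegularLocalRing.spanFinrank_maximalIdeal (R := Y.presheaf.stalk y)).symm⟩
    exact extPt_of_regular pA hA n (Y.presheaf.stalk y) hn.le _ (Y.fromSpecStalk y ≫ pY) (k ≫ g₀)
      (by rw [Category.assoc, hg₀, ← Category.assoc k, hk, Category.assoc])
  obtain rfl : W = ⊤ := top_le_iff.1 fun y _ => hW y trivial
  let g := Y.topIso.inv ≫ g'
  have hgover : g ≫ pA = pY := by rw [Category.assoc, hg', ← Scheme.topIso_hom, Iso.inv_hom_id_assoc]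
  have hgV' : V.ι ≫ g = g₀ := by
    rw [← hgV, ← Category.assoc]
    congr 1
    rw [← cancel_mono (⊤ : Y.Opens).ι, Category.assoc, Scheme.homOfLE_ι, ← Scheme.topIso_hom, Iso.inv_hom_id,
      Category.comp_id]
  have hres : pullback.fst pY U.ι ≫ g = w := by
    rw [← cancel_epi e.inv, ← Category.assoc, he, hgV']
  refine ⟨g, ⟨hgover, hres⟩, fun g₁ hg₁ => ?_⟩
  have : IsDominant V.ι := ⟨by rw [DenseRange, Scheme.Opens.range_ι]; exact hV⟩
  refine ext_of_isDominant_of_isSeparated pA (hg₁.1.trans hgover.symm) V.ι ?_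
  rw [← he, Category.assoc, Category.assoc, hg₁.2, hres]

/-- Proper groups over regular bases have the Néron mapping property. -/
theorem bijective_pullback_map {S : Scheme.{u}} [IsLocallyNoetherian S]
    (hreg : ∀ s : S, IsRegularLocalRing (S.presheaf.stalk s)) (U : S.Opens) (hU : Dense (U : Set S))
    (A : Over S) [GrpObj A] [IsProper A.hom] (Y : Over S) [Smooth Y.hom] :
    Function.Bijective (fun f : Y ⟶ A => (Over.pullback U.ι).map f) := by
  have key : ∀ f : Y ⟶ A, ((Over.pullback U.ι).map f).left ≫ pullback.fst A.hom U.ι =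
      pullback.fst Y.hom U.ι ≫ f.left := fun f => pullback.lift_fst _ _ _
  refine ⟨fun f f' h => ?_, fun φ => ?_⟩
  · apply Over.OverMorphism.ext
    refine (existsUnique_extension_regular A.hom Y.hom hreg (noRat_of_grpObj A) U hU
      (pullback.fst Y.hom U.ι ≫ f.left) (by rw [Category.assoc, Over.w])).unique ⟨Over.w f, rfl⟩ ⟨Over.w f', ?_⟩
    rw [← key f', ← key f]
    exact congrArg (fun m => CommaMorphism.left m ≫ pullback.fst A.hom U.ι) h.symm
  · have hφ : φ.left ≫ pullback.snd A.hom U.ι = pullback.snd Y.hom U.ι := Over.w φ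
    obtain ⟨g, ⟨hg, hgU⟩, -⟩ := existsUnique_extension_regular A.hom Y.hom hreg (noRat_of_grpObj A) U hU
      (φ.left ≫ pullback.fst A.hom U.ι) (by
        rw [Category.assoc, pullback.condition, reassoc_of% hφ, ← pullback.condition])
    refine ⟨Over.homMk g hg, Over.OverMorphism.ext (pullback.hom_ext ?_ ?_)⟩
    · exact (key _).trans hgU
    · exact (Over.w ((Over.pullback U.ι).map (Over.homMk g hg : Y ⟶ A))).trans hφ.symm

end Groth.Agent.NeronHD28
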