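import Groth.Agent.S1607
import Groth.Agent.EGA4Alg4.IntegralDim
import Mathlib.AlgebraicGeometry.ZariskisMainTheorem
import Mathlib.AlgebraicGeometry.Morphisms.Integral
import Mathlib.AlgebraicGeometry.Morphisms.QuasiCompact

/-! Separated quasi-finite schemes over a one-dimensional Noetherian affine scheme are affine. -/

set_option autoImplicit false
set_option linter.style.haveILetI false
universe u

open CategoryTheory AlgebraicGeometry TopologicalSpace

namespace Groth.Agent.NeronHD28

theorem isAffineOpen_of_isCompact_of_integral {R : Type u} [CommRing R] [IsNoetherianRing R] [Ring.KrullDimLE 1 R]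
    {C : CommRingCat.{u}} (φ : CommRingCat.of R ⟶ C) (hφ : φ.hom.IsIntegral) (U : (Spec C).Opens)
    (hU : IsCompact (U : Set (Spec C))) : IsAffineOpen U := by
  classical
  algebraize [φ.hom]
  obtain ⟨s, hs, hUs⟩ := (isCompact_and_isOpen_iff_finite_and_eq_biUnion_basicOpen (X := Spec C)).1 ⟨hU, U.2⟩
  let ι := Scheme.ΓSpecIso C
  let T : Set C := (fun a => ι.hom a) '' s
  let C₀ := Algebra.adjoin R T
  haveI : Module.Finite R C₀ :=
    Algebra.finite_adjoin_of_finite_of_isIntegral (hs.image _) fun x _ => Algebra.IsIntegral.isIntegral x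
  haveI : IsNoetherianRing C₀ := isNoetherian_of_tower R inferInstance
  have hd : ringKrullDim C₀ ≤ 1 :=
    (EGA4Alg4.ringKrullDim_le_of_integral R C₀).trans (Ring.krullDimLE_iff.1 ‹Ring.KrullDimLE 1 R›)
  let π : Spec C ⟶ Spec (CommRingCat.of C₀) := Spec.map (CommRingCat.ofHom C₀.val.toRingHom)
  let U₀ : (Spec (CommRingCat.of C₀)).Opens :=
    ⨆ a : s, PrimeSpectrum.basicOpen (⟨ι.hom a.1, Algebra.subset_adjoin ⟨a.1, a.2, rfl⟩⟩ : C₀)
  have hpre : π ⁻¹ᵁ U₀ = U := by
    refine SetLike.coe_injective ?_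
    rw [hUs]
    ext x
    show π x ∈ U₀ ↔ x ∈ ⋃ a ∈ s, ((Spec C).basicOpen a : Set (Spec C))
    simp only [U₀, Set.mem_iUnion, SetLike.mem_coe]
    refine Opens.mem_iSup.trans ⟨fun ⟨⟨a, ha⟩, hx⟩ => ⟨a, ha, ?_⟩, fun ⟨a, ha, hx⟩ => ⟨⟨a, ha⟩, ?_⟩⟩
    · rw [basicOpen_eq_of_affine']
      exact hx
    · rw [basicOpen_eq_of_affine'] at hx
      exact hx
  have hfin : Finite s := hs
  have hc : IsCompact (U₀ : Set (Spec (CommRingCat.of C₀))) := by
    erw [Opens.coe_iSup]
    exact isCompact_iUnion fun a => PrimeSpectrum.isCompact_basicOpen _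
  haveI : IsNoetherianRing ↑(CommRingCat.of C₀) := ‹IsNoetherianRing C₀›
  have h0 : IsAffineOpen U₀ := S1607.result _ (fun x => by
    refine ⟨inferInstance, ?_⟩
    let xx : PrimeSpectrum C₀ := x
    let e : Localization.AtPrime xx.asIdeal ≃+* (Spec (CommRingCat.of C₀)).presheaf.stalk x :=
      (IsLocalization.algEquiv xx.asIdeal.primeCompl (Localization.AtPrime xx.asIdeal)
        ((Spec.structureSheaf C₀).presheaf.stalk xx)).toRingEquiv
    rw [← ringKrullDim_eq_of_ringEquiv e, IsLocalization.AtPrime.ringKrullDim_eq_height xx.asIdeal]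
    exact (Ideal.height_le_ringKrullDim_of_ne_top xx.isPrime.ne_top).trans hd) U₀ hc
  rw [← hpre]
  exact h0.preimage π

theorem isAffineHom_of_quasiFinite_separated {R : Type u} [CommRing R] [IsNoetherianRing R] [Ring.KrullDimLE 1 R]
    {X : Scheme.{u}} (f : X ⟶ Spec (CommRingCat.of R)) [LocallyQuasiFinite f] [LocallyOfFiniteType f]
    [IsSeparated f] [QuasiCompact f] : IsAffineHom f := by
  haveI : IsIntegralHom f.fromNormalization := inferInstance
  haveI : IsAffine f.normalization := isAffine_of_isAffineHom f.fromNormalization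
  let j : X ⟶ Spec Γ(f.normalization, ⊤) := f.toNormalization ≫ f.normalization.isoSpec.hom
  obtain ⟨φ, hφ⟩ := Spec.map_surjective (f.normalization.isoSpec.inv ≫ f.fromNormalization)
  have hint : φ.hom.IsIntegral := by
    rw [← IsIntegralHom.SpecMap_iff, hφ]
    infer_instance
  haveI : CompactSpace X := QuasiCompact.compactSpace_of_compactSpace f
  haveI : IsAffine (j.opensRange : Scheme.{u}) :=
    isAffineOpen_of_isCompact_of_integral φ hint j.opensRange (by
      rw [Scheme.Hom.coe_opensRange]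
      exact isCompact_range j.continuous)
  haveI : IsAffine X := .of_isIso j.isoOpensRange.hom
  exact isAffineHom_of_isAffine f

end Groth.Agent.NeronHD28
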