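import Mathlib.AlgebraicGeometry.Morphisms.UniversallyOpen
import Mathlib.AlgebraicGeometry.Fiber
import Mathlib.AlgebraicGeometry.Morphisms.Separated

/-! Points in a fibre of a product near the diagonal. -/

set_option autoImplicit false
universe u

open CategoryTheory CategoryTheory.Limits AlgebraicGeometry

namespace Groth.Agent.NeronHD28

theorem universallyOpen_specMap_field {k : Type u} [Field k] {Z : Scheme.{u}} (f : Z ⟶ Spec (CommRingCat.of k)) :
    UniversallyOpen f := by
  have : Subsingleton (Spec (CommRingCat.of k)) := inferInstanceAs (Subsingleton (PrimeSpectrum k))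
  infer_instance

/-- In an open neighbourhood of a diagonal point there is a point of the fibre mapping into `U`. -/
theorem exists_point_fibre {X S : Scheme.{u}} (f : X ⟶ S) (U : X.Opens)
    (hdense : ∀ x : X, x ∈ closure ((U : Set X) ∩ {y | f.base y = f.base x}))
    (x : X) (W : (pullback f f).Opens) (hW : (pullback.diagonal f).base x ∈ W) :
    ∃ v ∈ W, (pullback.fst f f).base v = x ∧ (pullback.snd f f).base v ∈ U := by
  let s := f.base x
  let ι' : Spec (X.residueField x) ⟶ Spec (S.residueField s) := Spec.map (f.residueFieldMap x)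
  have hι : ι' ≫ S.fromSpecResidueField s = X.fromSpecResidueField x ≫ f :=
    Scheme.Hom.SpecMap_residueFieldMap_fromSpecResidueField f x
  have : UniversallyOpen ι' := universallyOpen_specMap_field (k := S.residueField s) ι'
  let F := pullback f (S.fromSpecResidueField s)
  let Q := pullback (pullback.snd f (S.fromSpecResidueField s)) ι'
  let a : Q ⟶ F := pullback.fst _ _
  let b : Q ⟶ Spec (X.residueField x) := pullback.snd _ _
  have hab : a ≫ pullback.snd f (S.fromSpecResidueField s) = b ≫ ι' := pullback.condition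
  let m : Q ⟶ pullback f f := pullback.lift (b ≫ X.fromSpecResidueField x) (a ≫ pullback.fst f _) (by
    rw [Category.assoc, ← hι, ← Category.assoc, ← hab, Category.assoc, Category.assoc, pullback.condition])
  have hm₁ : m ≫ pullback.fst f f = b ≫ X.fromSpecResidueField x := pullback.lift_fst _ _ _
  have hm₂ : m ≫ pullback.snd f f = a ≫ pullback.fst f _ := pullback.lift_snd _ _ _
  let σ : Spec (X.residueField x) ⟶ Q :=
    pullback.lift (pullback.lift (X.fromSpecResidueField x) ι' hι.symm) (𝟙 _) (by rw [pullback.lift_snd, Category.id_comp])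
  have hσb : σ ≫ b = 𝟙 _ := pullback.lift_snd _ _ _
  have hσa : σ ≫ a ≫ pullback.fst f _ = X.fromSpecResidueField x := by
    rw [← Category.assoc, pullback.lift_fst, pullback.lift_fst]
  have hσm : σ ≫ m = X.fromSpecResidueField x ≫ pullback.diagonal f := by
    apply pullback.hom_ext
    · rw [Category.assoc, hm₁, ← Category.assoc, hσb, Category.id_comp, Category.assoc, pullback.diagonal_fst, Category.comp_id]
    · rw [Category.assoc, hm₂, hσa, Category.assoc, pullback.diagonal_snd, Category.comp_id]
  let c : Spec (X.residueField x) := IsLocalRing.closedPoint _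
  have hc : (X.fromSpecResidueField x).base c = x := X.fromSpecResidueField_apply _ _
  have hw : σ.base c ∈ m ⁻¹ᵁ W := by
    show m.base (σ.base c) ∈ W
    rw [← Scheme.Hom.comp_apply, hσm, Scheme.Hom.comp_apply, hc]
    exact hW
  have : UniversallyOpen a := inferInstanceAs (UniversallyOpen (pullback.fst _ _))
  obtain ⟨O', hO', hO⟩ := (pullback.fst f (S.fromSpecResidueField s)).isEmbedding.isInducing.isOpen_iff.1
    (a.isOpenMap _ (m ⁻¹ᵁ W).2)
  have hx : x ∈ O' := by
    have h1 : a.base (σ.base c) ∈ (pullback.fst f (S.fromSpecResidueField s)).base ⁻¹' O' := hO ▸ ⟨_, hw, rfl⟩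
    rw [Set.mem_preimage, ← Scheme.Hom.comp_apply, ← Scheme.Hom.comp_apply, hσa, hc] at h1
    exact h1
  obtain ⟨u, huO, huU, hus⟩ := mem_closure_iff.1 (hdense x) O' hO' hx
  have : u ∈ Set.range (pullback.fst f (S.fromSpecResidueField s)).base := by
    rw [Scheme.Pullback.range_fst, Scheme.range_fromSpecResidueField]
    exact hus
  obtain ⟨z, rfl⟩ := this
  obtain ⟨w, hwW, rfl⟩ : z ∈ a.base '' (m ⁻¹ᵁ W : Set Q) := hO ▸ huO
  refine ⟨m.base w, hwW, ?_, ?_⟩
  · rw [← Scheme.Hom.comp_apply, hm₁, Scheme.Hom.comp_apply]
    exact X.fromSpecResidueField_apply _ _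
  · rw [← Scheme.Hom.comp_apply, hm₂, Scheme.Hom.comp_apply]
    exact huU

end Groth.Agent.NeronHD28
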