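import Groth.Agent.NeronHD28.WeilDiag
import Groth.Agent.NeronHD28.WeilFibre

/-! Descending the extension along a flat projection. -/

set_option autoImplicit false
set_option maxHeartbeats 800000
universe u

open CategoryTheory CategoryTheory.Limits AlgebraicGeometry

namespace Groth.Agent.NeronHD28

/-- A `K`-point extends over `O` as soon as it extends over a faithfully flat local `O`-domain. -/
theorem exists_lift_of_flat_lift {S G : Scheme.{u}} [S.IsSeparated] (p : G ⟶ S) (O O' : CommRingCat.{u})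
    [IsDomain O] [IsLocalRing O] [IsDomain O'] [IsLocalRing O'] (φ : O ⟶ O') [IsLocalHom φ.hom] (hφ : φ.hom.Flat)
    (κ : CommRingCat.of (FractionRing O) ⟶ CommRingCat.of (FractionRing O'))
    (hκ : CommRingCat.ofHom (algebraMap O (FractionRing O)) ≫ κ = φ ≫ CommRingCat.ofHom (algebraMap O' (FractionRing O')))
    (s : Spec O ⟶ S) (xK : Spec (CommRingCat.of (FractionRing O)) ⟶ G) (hx : xK ≫ p = fracPt O ≫ s)
    (l' : Spec O' ⟶ G) (hl' : fracPt O' ≫ l' = Spec.map κ ≫ xK) :
    ∃ l : Spec O ⟶ G, l ≫ p = s ∧ fracPt O ≫ l = xK := by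
  obtain ⟨H, hH, hcH, -⟩ := exists_isAffineOpen_mem_and_subset (U := (⊤ : G.Opens))
    (x := l'.base (IsLocalRing.closedPoint O')) trivial
  have hlH := range_subset_of_closedPoint_mem l' H hcH
  have hxH : xK.base (IsLocalRing.closedPoint _) ∈ H := by
    have h1 : (Spec.map κ ≫ xK).base (IsLocalRing.closedPoint _) ∈ H := by
      rw [← hl']
      exact hlH ⟨_, rfl⟩
    rw [Scheme.Hom.comp_apply] at h1
    exact (Subsingleton.elim (IsLocalRing.closedPoint (FractionRing O))
      ((Spec.map κ).base (IsLocalRing.closedPoint (FractionRing O'))) : _) ▸ h1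
  refine exists_lift_of_forall_mem_range p O s xK hx hH hxH fun ρ hρ h => ?_
  obtain ⟨ρ', hρ'⟩ := chart_eq_of_lift (CommRingCat.ofHom (algebraMap O' (FractionRing O'))) l' hH hlH _ hl' (ρ ≫ κ)
    (by rw [Spec.map_comp, Category.assoc, hρ])
  refine mem_range_of_flat_local φ.hom hφ κ.hom (RingHom.ext fun o => ?_) (ρ h) ⟨ρ' h, ?_⟩
  · exact congrArg (fun m => m.hom o) hκ
  · exact (congrArg (fun m => m.hom h) hρ').symm

theorem exists_fracLift {A B K L : Type u} [CommRing A] [IsDomain A] [CommRing B] [IsDomain B] [Field K] [Algebra A K] [IsFractionRing A K]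
    [Field L] [Algebra B L] [IsFractionRing B L] (φ : A →+* B)
    (hφ : Function.Injective φ) : ∃ κ : K →+* L,
      κ.comp (algebraMap A K) = (algebraMap B L).comp φ := by
  have hg : Function.Injective ((algebraMap B L).comp φ) := (IsFractionRing.injective B L).comp hφ
  exact ⟨IsFractionRing.lift hg, RingHom.ext fun o => IsFractionRing.lift_algebraMap (K := K) hg o⟩

/-- The map of fraction fields induced by a flat local map of local domains. -/
theorem exists_fracMap {O O' : CommRingCat.{u}} [IsDomain O] [IsLocalRing O] [IsDomain O'] [IsLocalRing O']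
    (φ : O ⟶ O') [IsLocalHom φ.hom] (hφ : φ.hom.Flat) :
    ∃ κ : CommRingCat.of (FractionRing O) ⟶ CommRingCat.of (FractionRing O'),
      CommRingCat.ofHom (algebraMap O (FractionRing O)) ≫ κ = φ ≫ CommRingCat.ofHom (algebraMap O' (FractionRing O')) := by
  have hinj : Function.Injective φ.hom := by
    algebraize [φ.hom]
    have : IsLocalHom (algebraMap O O') := ‹IsLocalHom φ.hom›
    have : Module.Flat O O' := hφ
    have : Module.FaithfullyFlat O O' := Module.FaithfullyFlat.of_flat_of_isLocalHom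
    exact FaithfulSMul.algebraMap_injective O O'
  obtain ⟨κ, hκ⟩ := exists_fracLift (K := FractionRing O) (L := FractionRing O') φ.hom hinj
  exact ⟨CommRingCat.ofHom κ, CommRingCat.hom_ext hκ⟩

variable {R : Type u} [CommRing R] [IsDedekindDomain R] {X G : Scheme.{u}}
  (pX : X ⟶ Spec (CommRingCat.of R)) (pG : G ⟶ Spec (CommRingCat.of R))
  [GrpObj (Over.mk pG)] [Smooth pX]

/-- Given the extension `g` of the difference map, the map extends at the images of points of its domain. -/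
theorem exists_lift_of_diag_extension {U : X.Opens} (f : (U : Scheme.{u}) ⟶ G) (hf : f ≫ pG = U.ι ≫ pX)
    (W : (pullback pX pX).Opens) (g : (W : Scheme.{u}) ⟶ G) (hg : g ≫ pG = W.ι ≫ pairHom pX)
    (hagree : (pullback pX pX).homOfLE (inf_le_left : W ⊓ pairOpen pX U ≤ W) ≫ g =
      (pullback pX pX).homOfLE (inf_le_right : W ⊓ pairOpen pX U ≤ pairOpen pX U) ≫ diffMap pX pG f hf)
    (v : ↥(pullback pX pX)) (hvW : v ∈ W) (hvU : (pullback.snd pX pX).base v ∈ U)
    [IsDomain (X.presheaf.stalk ((pullback.fst pX pX).base v))]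
    (k : Spec (CommRingCat.of (FractionRing (X.presheaf.stalk ((pullback.fst pX pX).base v)))) ⟶ (U : Scheme.{u}))
    (hk : k ≫ U.ι = fracPt (X.presheaf.stalk ((pullback.fst pX pX).base v)) ≫ X.fromSpecStalk _) :
    ∃ l : Spec (X.presheaf.stalk ((pullback.fst pX pX).base v)) ⟶ G,
      l ≫ pG = X.fromSpecStalk _ ≫ pX ∧ fracPt (X.presheaf.stalk ((pullback.fst pX pX).base v)) ≫ l = k ≫ f := by
  let P := pullback pX pX
  let p1 := pullback.fst pX pX
  let p2 := pullback.snd pX pX
  let q := pairHom pX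
  have : Smooth q := inferInstance
  have := isDomain_stalk_of_smooth q v
  let O := X.presheaf.stalk (p1.base v)
  let O' := P.presheaf.stalk v
  let β' := fracPt O'
  let N : P.Opens := W ⊓ p2 ⁻¹ᵁ U
  let W2 := pairOpen pX U
  have hvN : v ∈ N := ⟨hvW, hvU⟩
  have hjr : Set.range (P.fromSpecStalk v) ⊆ (N : Set P) :=
    range_subset_of_closedPoint_mem _ N (by rw [Scheme.fromSpecStalk_closedPoint]; exact hvN)
  let j := IsOpenImmersion.lift N.ι (P.fromSpecStalk v) (by rwa [Scheme.Opens.range_ι])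
  have hj : j ≫ N.ι = P.fromSpecStalk v := IsOpenImmersion.lift_fac _ _ _
  have hflat : (p1.stalkMap v).hom.Flat := Flat.stalkMap p1 v
  obtain ⟨κ, hκ⟩ := exists_fracMap (p1.stalkMap v) hflat
  have hgen : β' ≫ P.fromSpecStalk v ≫ p1 = Spec.map κ ≫ k ≫ U.ι := by
    rw [hk, ← Scheme.SpecMap_stalkMap_fromSpecStalk, ← Category.assoc, ← Category.assoc (Spec.map κ), ← Spec.map_comp,
      ← Spec.map_comp, hκ]
  have hm' : Set.range (β' ≫ P.fromSpecStalk v) ⊆ ((W ⊓ W2 : P.Opens) : Set P) := by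
    rintro _ ⟨c, rfl⟩
    have hN : (β' ≫ P.fromSpecStalk v).base c ∈ N := by
      rw [Scheme.Hom.comp_apply]; exact hjr ⟨_, rfl⟩
    refine ⟨hN.1, ?_, hN.2⟩
    show p1.base ((β' ≫ P.fromSpecStalk v).base c) ∈ U
    rw [← Scheme.Hom.comp_apply, Category.assoc, hgen, ← Category.assoc, Scheme.Hom.comp_apply]
    exact ((Spec.map κ ≫ k).base c).2
  let m := IsOpenImmersion.lift (W ⊓ W2).ι (β' ≫ P.fromSpecStalk v) (by rwa [Scheme.Opens.range_ι])
  have hm : m ≫ (W ⊓ W2).ι = β' ≫ P.fromSpecStalk v := IsOpenImmersion.lift_fac _ _ _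
  let m2 := m ≫ P.homOfLE (inf_le_right : W ⊓ W2 ≤ W2)
  have hm2 : m2 ≫ W2.ι = β' ≫ P.fromSpecStalk v := by rw [Category.assoc, Scheme.homOfLE_ι, hm]
  let aN : (N : Scheme.{u}) ⟶ W := P.homOfLE inf_le_left
  let bN : (N : Scheme.{u}) ⟶ U := p2.resLE U N inf_le_right
  have hbN : bN ≫ U.ι = N.ι ≫ p2 := Scheme.Hom.resLE_comp_ι _ _
  have ha : (aN ≫ g) ≫ pG = N.ι ≫ q := by rw [Category.assoc, hg, ← Category.assoc, Scheme.homOfLE_ι]
  have hb : (bN ≫ f) ≫ pG = N.ι ≫ q := by
    rw [Category.assoc, hf, ← Category.assoc, hbN, Category.assoc]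
    show N.ι ≫ p2 ≫ pX = N.ι ≫ p1 ≫ pX
    rw [pullback.condition]
  let l' := j ≫ gMul pG (N.ι ≫ q) (aN ≫ g) (bN ≫ f) ha hb
  have e₁ : β' ≫ j ≫ aN = m ≫ P.homOfLE (inf_le_left : W ⊓ W2 ≤ W) := by
    rw [← cancel_mono W.ι, Category.assoc, Category.assoc, Scheme.homOfLE_ι, hj, Category.assoc, Scheme.homOfLE_ι, hm]
  have e₂ : β' ≫ j ≫ bN = m2 ≫ pairSnd pX U := by
    rw [← cancel_mono U.ι, Category.assoc, Category.assoc, hbN, Category.assoc, pairSnd_ι, ← Category.assoc m2, hm2,
      ← Category.assoc j, hj, Category.assoc]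
  have e₃ : m2 ≫ pairFst pX U = Spec.map κ ≫ k := by
    rw [← cancel_mono U.ι, Category.assoc, pairFst_ι, ← Category.assoc m2, hm2, Category.assoc, Category.assoc, hgen]
  have hl' : β' ≫ l' = Spec.map κ ≫ k ≫ f := by
    rw [← Category.assoc, comp_gMul, ← Category.assoc (Spec.map κ), ← e₃]
    refine (gMul_congr pG (t' := m2 ≫ W2.ι ≫ q) (a' := m2 ≫ diffMap pX pG f hf) (b' := m2 ≫ pairSnd pX U ≫ f)
      (ha' := by rw [Category.assoc]; exact congrArg (m2 ≫ ·) (gDiv_over _ _ _ _ _ _))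
      (hb' := by rw [Category.assoc]; exact congrArg (m2 ≫ ·) (pairSnd_over pX pG hf)) ?_ ?_).trans ?_
    · rw [Category.assoc, ← Category.assoc j, ← Category.assoc β', e₁, Category.assoc, hagree]
      exact (Category.assoc _ _ _).symm
    · rw [Category.assoc, ← Category.assoc j, ← Category.assoc β', e₂, Category.assoc]
    · rw [← comp_gMul pG m2 (W2.ι ≫ q) (diffMap pX pG f hf) (pairSnd pX U ≫ f) (gDiv_over _ _ _ _ _ _) (pairSnd_over pX pG hf),
        Category.assoc]
      exact congrArg (m2 ≫ ·) (gMul_gDiv_cancel _ _ _ _ (pairFst_over pX pG hf) (pairSnd_over pX pG hf))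
  exact exists_lift_of_flat_lift pG O O' (p1.stalkMap v) hflat κ hκ (X.fromSpecStalk _ ≫ pX) (k ≫ f)
    (by rw [Category.assoc, hf, ← Category.assoc, hk, Category.assoc]) l' hl'

end Groth.Agent.NeronHD28
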