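import Groth.Agent.NeronHD28.Transfer
import Groth.Agent.NeronHD28.WeilPoint
import Groth.Prelude.Def_Neron
import Mathlib.RingTheory.Localization.Integral
import Mathlib.Algebra.Category.Ring.Constructions

/-! Base change of mapping properties along smooth morphisms of bases. -/

set_option autoImplicit false
universe u

open CategoryTheory CategoryTheory.Limits AlgebraicGeometry

namespace Groth.Agent.NeronHD28

theorem smoothExt_pullback {S S' T T' : Scheme.{u}} (g : S' ⟶ S) [Smooth g] (b : T ⟶ S) (b' : T' ⟶ S')
    (a : T' ⟶ T) (h : IsPullback a b' b g) (N : Over S) (hN : SmoothExt b N) :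
    SmoothExt b' ((Over.pullback g).obj N) := by
  intro Z' hZ'
  let z : Over S := Over.mk (Z'.hom ≫ g)
  have : Smooth Z'.hom := hZ'
  have hz : Smooth z.hom := inferInstanceAs (Smooth (Z'.hom ≫ g))
  let NT := (Over.pullback g).obj N
  let e : pullback Z'.hom b' ⟶ pullback z.hom b :=
    pullback.lift (pullback.fst Z'.hom b') (pullback.snd Z'.hom b' ≫ a) (by
      show _ ≫ Z'.hom ≫ g = _
      rw [← Category.assoc, pullback.condition, Category.assoc, Category.assoc, h.w])
  let e' : pullback z.hom b ⟶ pullback Z'.hom b' :=
    pullback.lift (pullback.fst z.hom b) (h.lift (pullback.snd z.hom b) (pullback.fst z.hom b ≫ Z'.hom)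
      (by rw [← pullback.condition, Category.assoc]; rfl)) (h.lift_snd _ _ _).symm
  have hef : e ≫ pullback.fst z.hom b = pullback.fst Z'.hom b' := pullback.lift_fst _ _ _
  have he'f : e' ≫ pullback.fst Z'.hom b' = pullback.fst z.hom b := pullback.lift_fst _ _ _
  have hee : e ≫ e' = 𝟙 _ := by
    refine pullback.hom_ext ?_ (h.hom_ext ?_ ?_)
    · rw [Category.assoc, he'f, hef, Category.id_comp]
    · rw [Category.assoc, Category.assoc, pullback.lift_snd_assoc, h.lift_fst, pullback.lift_snd, Category.id_comp]
    · rw [Category.assoc, Category.assoc, pullback.lift_snd_assoc, h.lift_snd, ← Category.assoc, hef,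
        Category.id_comp, pullback.condition]
  refine ⟨fun u v huv => ?_, fun w => ?_⟩
  · have h0 : pullback.fst Z'.hom b' ≫ u.left = pullback.fst Z'.hom b' ≫ v.left := by
      have := congrArg Over.Hom.left huv
      simpa only [Over.comp_left, counit_left] using this
    let u' : z ⟶ N := Over.homMk (u.left ≫ pullback.fst N.hom g) (by
      rw [Category.assoc, pullback.condition]
      exact (Category.assoc _ _ _).symm.trans (congrArg (· ≫ g) (Over.w u)))
    let v' : z ⟶ N := Over.homMk (v.left ≫ pullback.fst N.hom g) (by
      rw [Category.assoc, pullback.condition]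
      exact (Category.assoc _ _ _).symm.trans (congrArg (· ≫ g) (Over.w v)))
    have h1 : u' = v' := (hN z hz).1 (by
      ext : 1
      show (restrMap b z).left ≫ u.left ≫ pullback.fst N.hom g = (restrMap b z).left ≫ v.left ≫ pullback.fst N.hom g
      rw [counit_left, ← he'f, Category.assoc, ← Category.assoc _ u.left, h0, Category.assoc, Category.assoc])
    ext : 1
    exact pullback.hom_ext (congrArg Over.Hom.left h1) ((Over.w u).trans (Over.w v).symm)
  · have hw : (e' ≫ w.left ≫ pullback.fst N.hom g) ≫ N.hom = pullback.snd z.hom b ≫ b := by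
      have hwS : w.left ≫ NT.hom = pullback.snd Z'.hom b' ≫ b' := Over.w w
      rw [Category.assoc, Category.assoc, pullback.condition]
      change e' ≫ w.left ≫ NT.hom ≫ g = _
      rw [← Category.assoc w.left, hwS, ← pullback.condition, ← Category.assoc, ← Category.assoc, he'f, Category.assoc]
      exact pullback.condition
    let w' : (Over.map b).obj ((Over.pullback b).obj z) ⟶ N := Over.homMk (e' ≫ w.left ≫ pullback.fst N.hom g) hw
    obtain ⟨u, hu⟩ := (hN z hz).2 w'
    have hu' : pullback.fst z.hom b ≫ u.left = e' ≫ w.left ≫ pullback.fst N.hom g := by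
      have := congrArg Over.Hom.left hu
      rwa [Over.comp_left, counit_left] at this
    refine ⟨Over.homMk (pullback.lift u.left Z'.hom (Over.w u)) (pullback.lift_snd _ _ _), ?_⟩
    ext : 1
    show (restrMap b' Z').left ≫ pullback.lift u.left Z'.hom _ = w.left
    rw [counit_left]
    refine pullback.hom_ext ?_ ?_
    · rw [Category.assoc, pullback.lift_fst, ← hef, Category.assoc, hu', ← Category.assoc e, hee, Category.id_comp]
    · rw [Category.assoc, pullback.lift_snd, pullback.condition]
      exact (Over.w w).symm

theorem isPullback_genPt (R R' : Type u) [CommRing R] [IsDomain R] [CommRing R'] [IsDomain R'] [Algebra R R']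
    [Algebra.IsIntegral R R'] (hinj : Function.Injective (algebraMap R R')) :
    ∃ a : Spec (CommRingCat.of (FractionRing R')) ⟶ Spec (CommRingCat.of (FractionRing R)),
      IsPullback a (Neron.genPt R') (Neron.genPt R) (Spec.map (CommRingCat.ofHom (algebraMap R R'))) := by
  obtain ⟨κ, hκ⟩ := exists_fracLift (K := FractionRing R) (L := FractionRing R') (algebraMap R R') hinj
  have hle : (nonZeroDivisors R).map (algebraMap R R') ≤ nonZeroDivisors R' :=
    map_le_nonZeroDivisors_of_injective _ hinj le_rfl
  have : IsLocalization ((nonZeroDivisors R).map (algebraMap R R')) (FractionRing R') := by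
    refine (IsLocalization.iff_of_le_of_exists_dvd (M := (nonZeroDivisors R).map (algebraMap R R')) (nonZeroDivisors R') hle
      fun n hn => ?_).2 inferInstance
    have hint : IsAlgebraic R n := (Algebra.IsIntegral.isIntegral n).isAlgebraic
    obtain ⟨r, hr, hnr⟩ := hint.exists_nonzero_dvd hn
    exact ⟨algebraMap R R' r, ⟨r, mem_nonZeroDivisors_of_ne_zero hr, rfl⟩, hnr⟩
  exact ⟨Spec.map (CommRingCat.ofHom κ), (isPullback_SpecMap_of_isPushout _ _ _ _
    (CommRingCat.isPushout_of_isLocalization (algebraMap R R') κ hκ (nonZeroDivisors R)).flip)⟩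

end Groth.Agent.NeronHD28
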