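import Groth.Agent.NeronHD28.Ext

/-! Formal stability properties of the mapping property. -/

set_option autoImplicit false
universe u

open CategoryTheory CategoryTheory.Limits AlgebraicGeometry

namespace Groth.Agent.NeronHD28

variable {S : Scheme.{u}}

theorem comp_ι_restrict {N : Scheme.{u}} {Z : Scheme.{u}} {W W' : Z.Opens} (h : W ≤ W') (g : Z ⟶ N) :
    Z.homOfLE h ≫ W'.ι ≫ g = W.ι ≫ g := by
  rw [← Category.assoc, Scheme.homOfLE_ι]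

theorem extProp_prod (U : S.Opens) (N M : Over S) {Z : Scheme.{u}} (z : Z ⟶ S) (hN : ExtProp N U z)
    (hM : ExtProp M U z) : ExtProp (Over.mk (pullback.fst N.hom M.hom ≫ N.hom)) U z := by
  intro h hh
  change (z ⁻¹ᵁ U : Scheme.{u}) ⟶ pullback N.hom M.hom at h
  change h ≫ pullback.fst _ _ ≫ N.hom = _ at hh
  obtain ⟨a, ⟨ha, ha'⟩, hau⟩ := hN (h ≫ pullback.fst _ _) (by rw [Category.assoc, hh])
  obtain ⟨b, ⟨hb, hb'⟩, hbu⟩ := hM (h ≫ pullback.snd _ _) (by rw [Category.assoc, ← pullback.condition, hh])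
  refine ⟨pullback.lift a b (ha.trans hb.symm), ⟨?_, ?_⟩, fun g hg => ?_⟩
  · show pullback.lift a b _ ≫ pullback.fst _ _ ≫ N.hom = z
    rw [pullback.lift_fst_assoc, ha]
  · exact pullback.hom_ext (by rw [Category.assoc, pullback.lift_fst, ha'])
      (by rw [Category.assoc, pullback.lift_snd, hb'])
  · change Z ⟶ pullback N.hom M.hom at g
    obtain ⟨hg₁, hg₂⟩ := hg
    change g ≫ pullback.fst _ _ ≫ N.hom = z at hg₁
    refine pullback.hom_ext ?_ ?_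
    · rw [pullback.lift_fst]
      exact hau _ ⟨by rw [Category.assoc, hg₁], (Category.assoc _ _ _).symm.trans (congrArg (· ≫ _) hg₂)⟩
    · rw [pullback.lift_snd]
      exact hbu _ ⟨by rw [Category.assoc, ← pullback.condition, hg₁],
        (Category.assoc _ _ _).symm.trans (congrArg (· ≫ _) hg₂)⟩

theorem extProp_fibre (U : S.Opens) (G H : Over S) (f : G ⟶ H) (e : S ⟶ H.left) (he : e ≫ H.hom = 𝟙 S)
    {Z : Scheme.{u}} (z : Z ⟶ S) (hG : ExtProp G U z) (hH : UniqProp H U z) :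
    ExtProp (Over.mk (pullback.snd f.left e)) U z := by
  intro h hh
  change (z ⁻¹ᵁ U : Scheme.{u}) ⟶ pullback f.left e at h
  change h ≫ pullback.snd _ _ = _ at hh
  have hstr : pullback.fst f.left e ≫ G.hom = pullback.snd f.left e := by
    rw [← Over.w f, ← Category.assoc, pullback.condition, Category.assoc, he, Category.comp_id]
  obtain ⟨a, ⟨ha, ha'⟩, hau⟩ := hG (h ≫ pullback.fst _ _) (by rw [Category.assoc, hstr, hh])
  have hcond : a ≫ f.left = z ≫ e := hH _ _ (by rw [Category.assoc, Over.w f, ha])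
    (by rw [Category.assoc, he, Category.comp_id])
    (by rw [← Category.assoc, ha', Category.assoc, pullback.condition, ← Category.assoc, hh, Category.assoc])
  refine ⟨pullback.lift a z hcond, ⟨pullback.lift_snd _ _ _, pullback.hom_ext ?_ ?_⟩, fun g hg => ?_⟩
  · rw [Category.assoc, pullback.lift_fst, ha']
  · rw [Category.assoc, pullback.lift_snd, hh]
  · change Z ⟶ pullback f.left e at g
    obtain ⟨hg₁, hg₂⟩ := hg
    change g ≫ pullback.snd _ _ = z at hg₁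
    refine pullback.hom_ext ?_ (hg₁.trans (pullback.lift_snd _ _ _).symm)
    rw [pullback.lift_fst]
    exact hau _ ⟨by rw [Category.assoc, hstr, hg₁], (Category.assoc _ _ _).symm.trans (congrArg (· ≫ _) hg₂)⟩

theorem extProp_comp {S N T : Scheme.{u}} (U : T.Opens) (f : S ⟶ T) (g : N ⟶ S) {Z : Scheme.{u}} (z : Z ⟶ T)
    (hS : ExtProp (Over.mk f) U z)
    (hN : ∀ s : Z ⟶ S, s ≫ f = z → ExtProp (Over.mk g) (f ⁻¹ᵁ U) s) :
    ExtProp (Over.mk (g ≫ f)) U z := by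
  intro h hh
  change (z ⁻¹ᵁ U : Scheme.{u}) ⟶ N at h
  change h ≫ g ≫ f = _ at hh
  obtain ⟨s, ⟨hs, hs'⟩, hsu⟩ := hS (h ≫ g) (by show (h ≫ g) ≫ f = _; rw [Category.assoc, hh])
  change Z ⟶ S at s
  change s ≫ f = z at hs
  subst hs
  obtain ⟨a, ⟨ha, ha'⟩, hau⟩ := hN s rfl h hs'.symm
  change Z ⟶ N at a
  change a ≫ g = s at ha
  refine ⟨a, ⟨by show a ≫ g ≫ f = _; rw [← Category.assoc, ha], ha'⟩, fun b hb => ?_⟩
  change Z ⟶ N at b
  obtain ⟨hb₁, hb₂⟩ := hb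
  refine hau b ⟨?_, hb₂⟩
  exact hsu (b ≫ g) ⟨(Category.assoc _ _ _).trans hb₁, (Category.assoc _ _ _).symm.trans (congrArg (· ≫ g) hb₂)⟩

/-- the extension step from the smaller to the larger open -/
theorem extProp_trans {U U₁ : S.Opens} (h01 : U ≤ U₁) (N : Over S) {Z : Scheme.{u}} (z : Z ⟶ S)
    (h1 : ExtProp N U₁ z) (h10 : ExtProp N U ((z ⁻¹ᵁ U₁).ι ≫ z)) : ExtProp N U z := by
  intro h hh
  let V := z ⁻¹ᵁ U₁
  let W : (V : Scheme.{u}).Opens := (V.ι ≫ z) ⁻¹ᵁ U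
  let j : (W : Scheme.{u}) ⟶ (z ⁻¹ᵁ U : Z.Opens) := IsOpenImmersion.lift (z ⁻¹ᵁ U).ι (W.ι ≫ V.ι) (by
    rintro _ ⟨x, rfl⟩
    rw [Scheme.Opens.range_ι]
    exact x.2)
  have hj : j ≫ (z ⁻¹ᵁ U).ι = W.ι ≫ V.ι := IsOpenImmersion.lift_fac _ _ _
  let k : ((z ⁻¹ᵁ U : Z.Opens) : Scheme.{u}) ⟶ V := Z.homOfLE fun x hx => h01 hx
  have hk0 : k ≫ V.ι = (z ⁻¹ᵁ U).ι := Scheme.homOfLE_ι _ _
  let k' : ((z ⁻¹ᵁ U : Z.Opens) : Scheme.{u}) ⟶ W := IsOpenImmersion.lift W.ι k (by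
    rintro _ ⟨x, rfl⟩
    rw [Scheme.Opens.range_ι]
    show z (V.ι (k x)) ∈ U
    rw [← Scheme.Hom.comp_apply k V.ι, hk0]
    exact x.2)
  have hk : k' ≫ W.ι = k := IsOpenImmersion.lift_fac _ _ _
  have hkj : k' ≫ j = 𝟙 _ := by
    rw [← cancel_mono (z ⁻¹ᵁ U).ι, Category.assoc, hj, reassoc_of% hk, Category.id_comp, hk0]
  have hcomp : ∀ (g : Z ⟶ N.left), (z ⁻¹ᵁ U).ι ≫ g = h → W.ι ≫ V.ι ≫ g = j ≫ h := fun g hg => by
    rw [← hg, reassoc_of% hj]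
  obtain ⟨a, ⟨ha, ha'⟩, hau⟩ := h10 (j ≫ h) (by rw [Category.assoc, hh, reassoc_of% hj])
  obtain ⟨b, ⟨hb, hb'⟩, hbu⟩ := h1 a ha
  refine ⟨b, ⟨hb, ?_⟩, fun g hg => ?_⟩
  · rw [← hk0, Category.assoc, hb', ← hk, Category.assoc, ha', reassoc_of% hkj]
  · exact hbu g ⟨hg.1, hau _ ⟨by rw [Category.assoc, hg.1], hcomp g hg.2⟩⟩

/-- the extension step to the larger open -/
theorem extProp_of_larger {U U₁ : S.Opens} (h01 : U ≤ U₁) (N : Over S) {Z : Scheme.{u}} (z : Z ⟶ S)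
    (h0 : ExtProp N U z) (h10 : UniqProp N U ((z ⁻¹ᵁ U₁).ι ≫ z)) : ExtProp N U₁ z := by
  intro h hh
  let V := z ⁻¹ᵁ U₁
  have hle : z ⁻¹ᵁ U ≤ V := fun x hx => h01 hx
  obtain ⟨b, ⟨hb, hb'⟩, hbu⟩ := h0 (Z.homOfLE hle ≫ h) (by rw [Category.assoc, hh, Scheme.homOfLE_ι_assoc])
  refine ⟨b, ⟨hb, h10 (V.ι ≫ b) h (by rw [Category.assoc, hb]) hh ?_⟩, fun g hg => ?_⟩
  · let W : (V : Scheme.{u}).Opens := (V.ι ≫ z) ⁻¹ᵁ U
    let j : (W : Scheme.{u}) ⟶ (z ⁻¹ᵁ U : Z.Opens) := IsOpenImmersion.lift (z ⁻¹ᵁ U).ι (W.ι ≫ V.ι) (by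
      rintro _ ⟨x, rfl⟩
      rw [Scheme.Opens.range_ι]
      exact x.2)
    have hj : j ≫ (z ⁻¹ᵁ U).ι = W.ι ≫ V.ι := IsOpenImmersion.lift_fac _ _ _
    have hj' : j ≫ Z.homOfLE hle = W.ι := by
      rw [← cancel_mono V.ι, Category.assoc, Scheme.homOfLE_ι, hj]
    show W.ι ≫ V.ι ≫ b = W.ι ≫ h
    rw [← reassoc_of% hj, hb', reassoc_of% hj']
  · exact hbu g ⟨hg.1, by rw [← hg.2, Scheme.homOfLE_ι_assoc]⟩

end Groth.Agent.NeronHD28
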