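import Groth.Agent.S4433
import Mathlib.RingTheory.Adjoin.Polynomial.Basic
import Mathlib.RingTheory.UniqueFactorizationDomain.Basic
import Mathlib.RingTheory.FiniteType
import Mathlib.RingTheory.Valuation.LocalSubring

/-! A discrete valuation ring identifying two coprime non-units up to a unit congruent to one. -/

set_option autoImplicit false
universe u

open Polynomial IsLocalRing

namespace Groth.Agent.NeronHD28

/-- A polynomial relation for a fraction of coprime non-units has coefficients in the maximal ideal. -/
theorem coeff_mem_maximalIdeal_of_root {R K : Type u} [CommRing R] [IsDomain R] [IsLocalRing R] [UniqueFactorizationMonoid R]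
    [Field K] [Algebra R K] [IsFractionRing R K] {a b : R} (ha : ¬ IsUnit a) (hb : ¬ IsUnit b) (hab : IsRelPrime a b)
    (t : K) (ht : t * algebraMap R K b = algebraMap R K a) :
    ∀ (n : ℕ) (c : ℕ → R), ∑ i ∈ Finset.range (n + 1), algebraMap R K (c i) * t ^ i = 0 → ∀ i ≤ n, c i ∈ maximalIdeal R := by
  intro n
  induction n with
  | zero =>
    intro c h i hi
    rw [Finset.sum_range_one, pow_zero, mul_one, map_eq_zero_iff _ (IsFractionRing.injective R K)] at h
    rw [Nat.le_zero.1 hi, h]
    exact Submodule.zero_mem _
  | succ n ih =>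
    intro c h
    have hdvd : b ∣ c (n + 1) := by
      have h' : algebraMap R K (c (n + 1) * a ^ (n + 1) + ∑ i ∈ Finset.range (n + 1), c i * a ^ i * b ^ (n + 1 - i)) = 0 := by
        have : (∑ i ∈ Finset.range (n + 1 + 1), algebraMap R K (c i) * t ^ i) * algebraMap R K b ^ (n + 1) = 0 := by
          rw [h, zero_mul]
        rw [map_add, map_sum, map_mul, map_pow, ← this, Finset.sum_range_succ _ (n + 1), add_mul, Finset.sum_mul, add_comm]
        congr 1
        · refine Finset.sum_congr rfl fun i hi => ?_
          have hi' : i ≤ n + 1 := by have := Finset.mem_range.1 hi; omega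
          rw [map_mul, map_mul, map_pow, map_pow, ← ht, mul_pow]
          have hp : algebraMap R K b ^ i * algebraMap R K b ^ (n + 1 - i) = algebraMap R K b ^ (n + 1) := by
            rw [← pow_add, Nat.add_sub_of_le hi']
          linear_combination (algebraMap R K (c i) * t ^ i) * hp
        · rw [← ht, mul_pow]; ring
      rw [map_eq_zero_iff _ (IsFractionRing.injective R K)] at h'
      have h2 : b ∣ c (n + 1) * a ^ (n + 1) := by
        rw [eq_neg_of_add_eq_zero_left h', dvd_neg]
        refine Finset.dvd_sum fun i hi => ?_
        have hi' : i ≤ n := by have := Finset.mem_range.1 hi; omega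
        exact Dvd.dvd.mul_left (dvd_pow_self b (by omega)) _
      exact (hab.symm.pow_right (n := n + 1)).dvd_of_dvd_mul_right h2
    obtain ⟨d, hd⟩ := hdvd
    let c' : ℕ → R := fun i => if i = n then c n + d * a else c i
    have hn := ih c' (by
      rw [← h, Finset.sum_range_succ, Finset.sum_range_succ _ (n + 1), Finset.sum_range_succ _ n]
      have : ∀ i ∈ Finset.range n, algebraMap R K (c' i) * t ^ i = algebraMap R K (c i) * t ^ i := fun i hi => by
        simp only [c', if_neg (Finset.mem_range.1 hi).ne]
      rw [Finset.sum_congr rfl this]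
      simp only [c', if_pos rfl]
      rw [hd, map_add, map_mul, map_mul, ← ht]
      ring)
    intro i hi
    rcases Nat.lt_or_ge i (n + 1) with hi' | hi'
    · by_cases hin : i = n
      · have := hn n le_rfl
        simp only [c', if_pos rfl] at this
        rw [hin]
        exact (Submodule.add_mem_iff_left _ (Ideal.mul_mem_left _ d ((mem_maximalIdeal _).2 ha))).1 this
      · have := hn i (by omega)
        simpa only [c', if_neg hin] using this
    · rw [le_antisymm hi hi', hd]
      exact Ideal.mul_mem_right _ _ ((mem_maximalIdeal _).2 hb)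

/-- The discrete valuation ring. -/
theorem exists_dvr_identifying {R : Type u} [CommRing R] [IsDomain R] [IsNoetherianRing R] [IsLocalRing R]
    [UniqueFactorizationMonoid R] {a b : R} (ha : ¬ IsUnit a) (hb : ¬ IsUnit b) (hab : IsRelPrime a b) :
    ∃ (A : Type u) (_ : CommRing A) (_ : IsDomain A) (_ : IsDiscreteValuationRing A) (f : R →+* A),
      IsLocalHom f ∧ Function.Injective f ∧ ¬ IsUnit (f a) ∧
        ∃ u : Aˣ, (u : A) - 1 ∈ maximalIdeal A ∧ f a = (u : A) * f b := by
  let K := FractionRing R
  have hb0 : b ≠ 0 := fun h => ha ((isRelPrime_zero_right (x := a)).1 (h ▸ hab))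
  have hbK : algebraMap R K b ≠ 0 := (map_ne_zero_iff _ (IsFractionRing.injective R K)).2 hb0
  let t : K := algebraMap R K a / algebraMap R K b
  have ht : t * algebraMap R K b = algebraMap R K a := div_mul_cancel₀ _ hbK
  let B : Subalgebra R K := (Polynomial.aeval t).range
  let φ : R[X] →ₐ[R] B := (Polynomial.aeval t).rangeRestrict
  have hφ : Function.Surjective φ := AlgHom.rangeRestrict_surjective _
  let ev : R[X] →+* ResidueField R := (Polynomial.evalRingHom 1).comp (Polynomial.mapRingHom (residue R))
  let P : Ideal R[X] := RingHom.ker ev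
  have hker : RingHom.ker φ.toRingHom ≤ P := by
    intro p hp
    have h0 : Polynomial.aeval t p = 0 := congrArg Subtype.val (RingHom.mem_ker.1 hp)
    rw [Polynomial.aeval_eq_sum_range] at h0
    simp only [Algebra.smul_def] at h0
    have hc := coeff_mem_maximalIdeal_of_root (K := K) ha hb hab t ht p.natDegree p.coeff h0
    have h1 : p.map (residue R) = 0 := Polynomial.ext fun i => by
      rw [Polynomial.coeff_map, Polynomial.coeff_zero, residue_eq_zero_iff]
      rcases Nat.lt_or_ge p.natDegree i with hi | hi
      · rw [Polynomial.coeff_eq_zero_of_natDegree_lt hi]; exact Submodule.zero_mem _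
      · exact hc i hi
    show Polynomial.eval 1 (p.map (residue R)) = 0
    rw [h1, Polynomial.eval_zero]
  have : P.IsPrime := RingHom.ker_isPrime _
  let Q : Ideal B := P.map φ.toRingHom
  have : Q.IsPrime := Ideal.map_isPrime_of_surjective hφ hker
  have : IsNoetherianRing B := isNoetherianRing_of_surjective R[X] B φ.toRingHom hφ
  let T := Localization.AtPrime Q
  have hRB : Function.Injective (algebraMap R B) := fun x y h => IsFractionRing.injective R K (congrArg Subtype.val h)
  have hBT : Function.Injective (algebraMap B T) := IsLocalization.injective T Q.primeCompl_le_nonZeroDivisors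
  have hmem : ∀ r ∈ maximalIdeal R, algebraMap R B r ∈ Q := fun r hr => by
    rw [← φ.commutes r]
    exact Ideal.mem_map_of_mem _ (show algebraMap R R[X] r ∈ P by
      show Polynomial.eval 1 ((C r).map (residue R)) = 0
      rw [Polynomial.map_C, Polynomial.eval_C, residue_eq_zero_iff]
      exact hr)
  have hT : ¬ IsField T := by
    intro hf
    have h1 : maximalIdeal T = ⊥ := isField_iff_maximalIdeal_eq.1 hf
    have h2 : algebraMap B T (algebraMap R B b) ∈ maximalIdeal T :=
      (IsLocalization.AtPrime.to_map_mem_maximal_iff T Q _).2 (hmem b ((mem_maximalIdeal _).2 hb))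
    rw [h1, Ideal.mem_bot, map_eq_zero_iff _ hBT, map_eq_zero_iff _ hRB] at h2
    exact hb0 h2
  let L := FractionRing T
  obtain ⟨V, hV, hVmem, hVlt⟩ := Groth.Agent.S4433.result T hT L L
    (by
      have : (⊤ : IntermediateField L L) = ⊥ := Subsingleton.elim _ _
      rw [this]; exact IntermediateField.fg_bot)
  let g : T →+* V := (algebraMap T L).codRestrict V.toSubring hVmem
  let f : R →+* V := g.comp ((algebraMap B T).comp (algebraMap R B))
  have hlt : ∀ z ∈ maximalIdeal T, g z ∈ maximalIdeal V := fun z hz =>
    (ValuationSubring.valuation_lt_one_iff V (g z)).2 (hVlt z hz)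
  have hfm : ∀ r ∈ maximalIdeal R, f r ∈ maximalIdeal V := fun r hr =>
    hlt _ ((IsLocalization.AtPrime.to_map_mem_maximal_iff T Q _).2 (hmem r hr))
  have hginj : Function.Injective g := fun x y h => IsFractionRing.injective T L (congrArg Subtype.val h)
  refine ⟨V, inferInstance, inferInstance, hV, f, ⟨fun r hr => ?_⟩, hginj.comp (hBT.comp hRB),
    (mem_maximalIdeal _).1 (hfm a ((mem_maximalIdeal _).2 ha)), ?_⟩
  · by_contra hc
    exact (mem_maximalIdeal _).1 (hfm r ((mem_maximalIdeal _).2 hc)) hr
  · let tB : B := φ X
    have htB : (tB : K) = t := Polynomial.aeval_X t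
    have h1 : g (algebraMap B T tB) - 1 ∈ maximalIdeal V := by
      have hq : tB - 1 ∈ Q := by
        rw [show tB - 1 = φ.toRingHom (X - 1) by rw [map_sub, map_one]; rfl]
        refine Ideal.mem_map_of_mem _ (show Polynomial.eval 1 ((X - 1 : R[X]).map (residue R)) = 0 from ?_)
        simp
      have := hlt _ ((IsLocalization.AtPrime.to_map_mem_maximal_iff T Q _).2 hq)
      rwa [map_sub, map_one, map_sub, map_one] at this
    have hu : IsUnit (g (algebraMap B T tB)) := by
      by_contra hc
      exact (maximalIdeal.isMaximal V).ne_top ((Ideal.eq_top_iff_one _).2 (by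
        have := Ideal.sub_mem _ ((mem_maximalIdeal _).2 hc) h1
        rwa [sub_sub_cancel] at this))
    refine ⟨hu.unit, h1, ?_⟩
    have hB : algebraMap R B a = tB * algebraMap R B b := Subtype.ext (by
      show algebraMap R K a = (tB : K) * algebraMap R K b
      rw [htB, ht])
    show g (algebraMap B T (algebraMap R B a)) = g (algebraMap B T tB) * g (algebraMap B T (algebraMap R B b))
    rw [hB, map_mul, map_mul]

end Groth.Agent.NeronHD28
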