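import Mathlib.Algebra.MvPolynomial.Basic
import Mathlib.Algebra.Algebra.Pi
import Mathlib.Tactic.LinearCombination
import Mathlib.Logic.Equiv.Fintype
import Mathlib.RingTheory.LocalRing.RingHom.Basic
import Mathlib.RingTheory.Ideal.Operations
import Mathlib.Data.Finset.Powerset
import Mathlib.Data.Nat.Choose.Dvd
import Mathlib.RingTheory.LocalRing.MaximalIdeal.Basic
import Mathlib.Algebra.MvPolynomial.Eval

/-!
# The cube ring

The ring of functions on the cube of subsets of `Fin q` generated by `π` times the coordinate functions.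
It replaces the formal group in the proof that reduction is injective on torsion.
-/

set_option autoImplicit false
universe u

namespace Groth.Agent.NeronHD28.Cube

open MvPolynomial

variable {R : Type u} [CommRing R] (π : R) (q : ℕ)

/-- `π` times the `i`-th coordinate of the cube. -/
def coord (i : Fin q) : Finset (Fin q) → R := fun S => if i ∈ S then π else 0

/-- The cube ring. -/
noncomputable def cube : Subalgebra R (Finset (Fin q) → R) :=
  (aeval (R := R) (coord π q)).range

theorem coord_mem (i : Fin q) : coord π q i ∈ cube π q := ⟨X i, aeval_X _ _⟩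

/-- Every element of the cube ring is the sum function of a family `a` with `π ^ |T| ∣ a T`. -/
theorem exists_coeff {g : Finset (Fin q) → R} (hg : g ∈ cube π q) :
    ∃ a : Finset (Fin q) → R, (∀ T, π ^ T.card ∣ a T) ∧ ∀ S, g S = ∑ T ∈ S.powerset, a T := by
  obtain ⟨P, rfl⟩ := hg
  induction P using MvPolynomial.induction_on with
  | C r =>
    refine ⟨fun T => if T = ∅ then r else 0, fun T => ?_, fun S => ?_⟩
    · rcases eq_or_ne T ∅ with rfl | h
      · simp
      · simp [h]
    · simp
  | add P Q hP hQ =>
    obtain ⟨a, ha, ha'⟩ := hP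
    obtain ⟨b, hb, hb'⟩ := hQ
    refine ⟨a + b, fun T => dvd_add (ha T) (hb T), fun S => ?_⟩
    change aeval (coord π q) (P + Q) S = _
    rw [map_add, Pi.add_apply]
    simp only [Pi.add_apply, Finset.sum_add_distrib]
    exact congrArg₂ (· + ·) (ha' S) (hb' S)
  | mul_X P i hP =>
    obtain ⟨a, ha, ha'⟩ := hP
    refine ⟨fun T => if i ∈ T then π * (a T + a (T.erase i)) else 0, fun T => ?_, fun S => ?_⟩
    · by_cases h : i ∈ T
      · simp only [if_pos h]
        rw [mul_add]
        refine dvd_add (dvd_mul_of_dvd_right (ha T) _) ?_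
        rw [← Finset.card_erase_add_one h, pow_succ']
        exact mul_dvd_mul_left _ (ha _)
      · simp [h]
    · change aeval (coord π q) (P * X i) S = _
      rw [map_mul, aeval_X, Pi.mul_apply]
      refine Eq.trans (congrArg (· * coord π q i S) (ha' S)) ?_
      by_cases h : i ∈ S
      · have h1 : i ∉ S.erase i := Finset.notMem_erase i S
        have h2 : S.powerset = (S.erase i).powerset ∪ (S.erase i).powerset.image (insert i) := by
          conv_lhs => rw [← Finset.insert_erase h]
          exact Finset.powerset_insert _ _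
        have hd : Disjoint (S.erase i).powerset ((S.erase i).powerset.image (insert i)) := by
          rw [Finset.disjoint_left]
          intro T hT hT'
          obtain ⟨U, -, rfl⟩ := Finset.mem_image.1 hT'
          exact h1 (Finset.mem_powerset.1 hT (Finset.mem_insert_self i U))
        have hinj : Set.InjOn (insert i) ((S.erase i).powerset : Set (Finset (Fin q))) := by
          intro U hU V hV huv
          have hU' : i ∉ U := fun hi => h1 (Finset.mem_powerset.1 hU hi)
          have hV' : i ∉ V := fun hi => h1 (Finset.mem_powerset.1 hV hi)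
          rw [← Finset.erase_insert hU', ← Finset.erase_insert hV', huv]
        simp only [h2, Finset.sum_union hd, Finset.sum_image hinj, coord, if_pos h]
        rw [Finset.sum_eq_zero (s := (S.erase i).powerset)
          (f := fun T => if i ∈ T then π * (a T + a (T.erase i)) else 0)
          (fun T hT => if_neg fun hi => h1 (Finset.mem_powerset.1 hT hi)), zero_add,
          ← Finset.sum_add_distrib, Finset.sum_mul]
        refine Finset.sum_congr rfl fun U hU => ?_
        have hU' : i ∉ U := fun hi => h1 (Finset.mem_powerset.1 hU hi)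
        rw [if_pos (Finset.mem_insert_self i U), Finset.erase_insert hU']
        ring
      · simp only [coord, if_neg h, mul_zero]
        refine (Finset.sum_eq_zero fun T hT => if_neg fun hi => h (Finset.mem_powerset.1 hT hi)).symm

/-- The family of coefficients is determined by its sum function. -/
theorem coeff_unique {a b : Finset (Fin q) → R}
    (h : ∀ S : Finset (Fin q), ∑ T ∈ S.powerset, a T = ∑ T ∈ S.powerset, b T) (S : Finset (Fin q)) :
    a S = b S := by
  induction S using Finset.strongInduction with
  | _ S ih =>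
    have hS := h S
    rw [← Finset.sum_erase_add _ _ (Finset.mem_powerset_self S),
      ← Finset.sum_erase_add _ _ (Finset.mem_powerset_self S),
      Finset.sum_congr rfl (fun T hT => ih T ((Finset.mem_powerset.1 (Finset.mem_of_mem_erase hT)).ssubset_of_ne
        (Finset.ne_of_mem_erase hT)))] at hS
    exact add_left_cancel hS

/-- A function of the cardinality lying in the cube ring has binomial coefficients. -/
theorem exists_binom {g : Finset (Fin q) → R} (hg : g ∈ cube π q) {h : ℕ → R}
    (hh : ∀ S, g S = h S.card) :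
    ∃ b : ℕ → R, (∀ j, π ^ j ∣ b j) ∧ b 0 = h 0 ∧ (0 < q → b 1 = h 1 - h 0) ∧
      h q = ∑ j ∈ Finset.range (q + 1), q.choose j * b j := by
  classical
  obtain ⟨a, ha, ha'⟩ := exists_coeff π q hg
  have hsym : ∀ (σ : Fin q ≃ Fin q) T, a (T.map σ.toEmbedding) = a T := by
    intro σ
    refine coeff_unique q fun S => ?_
    rw [← ha' S, hh, ← Finset.card_map σ.toEmbedding, ← hh, ha']
    refine Finset.sum_nbij' (fun T => T.map σ.toEmbedding) (fun U => U.map σ.symm.toEmbedding)
      (fun T hT => ?_) (fun U hU => ?_) (fun T _ => ?_) (fun U _ => ?_) (fun T _ => rfl)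
    · exact Finset.mem_powerset.2 (Finset.map_subset_map.2 (Finset.mem_powerset.1 hT))
    · refine Finset.mem_powerset.2 ?_
      have := Finset.map_subset_map (f := σ.symm.toEmbedding).2 (Finset.mem_powerset.1 hU)
      rwa [Finset.map_map, show σ.toEmbedding.trans σ.symm.toEmbedding = Function.Embedding.refl _ from
        Function.Embedding.ext fun x => σ.symm_apply_apply x, Finset.map_refl] at this
    · simp [Finset.map_map, ← Equiv.trans_toEmbedding]
    · simp [Finset.map_map, ← Equiv.trans_toEmbedding]
  have hcard : ∀ T U : Finset (Fin q), T.card = U.card → a T = a U := by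
    intro T U e
    obtain ⟨σ, hσ⟩ : ∃ σ : Fin q ≃ Fin q, T.map σ.toEmbedding = U := by
      refine ⟨(Finset.equivOfCardEq e).extendSubtype, Finset.eq_of_subset_of_card_le (fun x hx => ?_)
        (by rw [Finset.card_map, e])⟩
      obtain ⟨y, hy, rfl⟩ := Finset.mem_map.1 hx
      exact Equiv.extendSubtype_mem _ y hy
    rw [← hσ, hsym]
  let b : ℕ → R := fun j => if hj : ∃ T : Finset (Fin q), T.card = j then a hj.choose else 0
  have hb : ∀ T, a T = b T.card := fun T => by
    have hj : ∃ U : Finset (Fin q), U.card = T.card := ⟨T, rfl⟩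
    simp only [b, dif_pos hj]
    exact hcard _ _ hj.choose_spec.symm
  refine ⟨b, fun j => ?_, ?_, fun hq => ?_, ?_⟩
  · by_cases hj : ∃ T : Finset (Fin q), T.card = j
    · simp only [b, dif_pos hj]
      conv_lhs => rw [← hj.choose_spec]
      exact ha _
    · simp [b, dif_neg hj]
  · have := ha' ∅
    rw [hh, Finset.powerset_empty, Finset.sum_singleton, hb, Finset.card_empty] at this
    exact this.symm
  · have h0 := ha' ∅
    have h1 := ha' {⟨0, hq⟩}
    rw [hh, Finset.powerset_empty, Finset.sum_singleton, Finset.card_empty] at h0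
    rw [hh, Finset.card_singleton, show ({⟨0, hq⟩} : Finset (Fin q)).powerset = {∅, {⟨0, hq⟩}} from rfl,
      Finset.sum_pair (Finset.singleton_ne_empty _).symm, hb {⟨0, hq⟩}, Finset.card_singleton, ← h0] at h1
    rw [h1, add_sub_cancel_left]
  · have := ha' Finset.univ
    rw [hh, Finset.card_univ, Fintype.card_fin, Finset.sum_congr rfl (fun T _ => hb T),
      Finset.sum_powerset_apply_card, Finset.card_univ, Fintype.card_fin] at this
    simpa [nsmul_eq_mul] using this

/-- The final estimate: a symmetric element of the cube ring whose value at `q` equals that at `0`. -/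
theorem mem_pow_of_eq [IsLocalRing R] [IsDomain R] {ϖ : R} (hϖ : ϖ ∈ IsLocalRing.maximalIdeal R)
    (hϖ0 : ϖ ≠ 0) {k : ℕ} (hk : 0 < k) {p : ℕ} (hp : p.Prime) {g : Finset (Fin p) → R}
    (hg : g ∈ cube (ϖ ^ k) p) {h : ℕ → R} (hh : ∀ S, g S = h S.card) (hp0 : h p = h 0) {u : R}
    (hu : IsUnit u) (h1 : h 1 - h 0 = ϖ ^ k * u) : (p : R) ∈ IsLocalRing.maximalIdeal R ^ (p - 1) := by
  obtain ⟨b, hb, hb0, hb1, hsum⟩ := exists_binom (ϖ ^ k) p hg hh
  obtain ⟨d, rfl⟩ : ∃ d, p = d + 2 := ⟨p - 2, by have := hp.two_le; omega⟩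
  rw [Finset.sum_range_succ, Finset.sum_range_succ', Finset.sum_range_succ', hp0, hb0,
    hb1 (Nat.succ_pos _), h1] at hsum
  simp only [Nat.choose_zero_right, Nat.cast_one, one_mul, zero_add, Nat.choose_one_right, Nat.choose_self] at hsum
  obtain ⟨c, hc⟩ : ((d + 2 : ℕ) : R) * (ϖ ^ k) ^ 2 ∣
      ∑ j ∈ Finset.range d, ((d + 2).choose (j + 1 + 1) : R) * b (j + 1 + 1) := by
    refine Finset.dvd_sum fun j hj => mul_dvd_mul ?_ ((pow_dvd_pow _ (by omega)).trans (hb _))
    exact Nat.cast_dvd_cast (hp.dvd_choose_self (by omega) (by have := Finset.mem_range.1 hj; omega))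
  obtain ⟨e, he⟩ := hb (d + 2)
  rw [hc, he] at hsum
  have hne : ϖ ^ k ≠ 0 := pow_ne_zero _ hϖ0
  have h2 : ((d + 2 : ℕ) : R) * (ϖ ^ k * c + u) = -((ϖ ^ k) ^ (d + 1) * e) := by
    refine mul_left_cancel₀ hne ?_
    linear_combination (-1 : R) * hsum
  have hmem : ϖ ^ k ∈ IsLocalRing.maximalIdeal R := Ideal.pow_mem_of_mem _ hϖ k hk
  have hu' : IsUnit (ϖ ^ k * c + u) := by
    by_contra hcon
    exact (IsLocalRing.mem_maximalIdeal u).1 (by
      simpa using sub_mem ((IsLocalRing.mem_maximalIdeal _).2 hcon) (Ideal.mul_mem_right c _ hmem)) hu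
  rw [show d + 2 - 1 = d + 1 by omega, ← Ideal.mul_unit_mem_iff_mem _ hu', h2]
  exact neg_mem (Ideal.mul_mem_right _ _ (Ideal.pow_mem_pow hmem _))

variable {π q}

/-- Evaluation of the cube ring at a vertex. -/
noncomputable def ev (S : Finset (Fin q)) : cube π q →ₐ[R] R :=
  (Pi.evalAlgHom R (fun _ => R) S).comp (cube π q).val

theorem ev_apply (S : Finset (Fin q)) (g : cube π q) : ev S g = (g : Finset (Fin q) → R) S := rfl

theorem dvd_sub_ev {g : Finset (Fin q) → R} (hg : g ∈ cube π q) (S : Finset (Fin q)) :
    π ∣ g S - g ∅ := by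
  obtain ⟨a, ha, ha'⟩ := exists_coeff π q hg
  rw [ha', ha', Finset.powerset_empty, Finset.sum_singleton,
    ← Finset.sum_erase_add _ _ (Finset.empty_mem_powerset S), add_sub_cancel_right]
  refine Finset.dvd_sum fun T hT => (dvd_pow_self π ?_).trans (ha T)
  exact (Finset.card_pos.2 (Finset.nonempty_of_ne_empty (Finset.ne_of_mem_erase hT))).ne'

theorem eq_comap_of_isMaximal [IsLocalRing R] (hπ : π ∈ IsLocalRing.maximalIdeal R)
    (P : Ideal (cube π q)) [P.IsMaximal] :
    P = (IsLocalRing.maximalIdeal R).comap (ev (π := π) (∅ : Finset (Fin q))) := by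
  classical
  refine (Ideal.IsMaximal.eq_of_le inferInstance (Ideal.comap_ne_top _ Ideal.IsPrime.ne_top') ?_)
  intro g hg
  rw [Ideal.mem_comap]
  by_contra hcon
  have hu : ∀ S, IsUnit ((g : Finset (Fin q) → R) S) := fun S => by
    by_contra hS
    obtain ⟨c, hc⟩ := dvd_sub_ev g.2 S
    apply hcon
    have := sub_mem ((IsLocalRing.mem_maximalIdeal _).2 hS) (Ideal.mul_mem_right c _ hπ)
    rw [← hc] at this
    simpa [ev_apply] using this
  -- Cayley-Hamilton: the product of `g - g S` vanishes
  have hzero : ∏ S : Finset (Fin q), (g - algebraMap R (cube π q) ((g : Finset (Fin q) → R) S)) = 0 := by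
    refine Subtype.ext (funext fun T => ?_)
    show (cube π q).val _ T = 0
    rw [map_prod, Finset.prod_apply]
    refine Finset.prod_eq_zero (Finset.mem_univ T) ?_
    simp
  obtain ⟨S, -, hS⟩ := Ideal.IsPrime.prod_mem_iff.1 (hzero ▸ P.zero_mem)
  refine Ideal.IsPrime.ne_top' (Ideal.eq_top_of_isUnit_mem P (?_ : algebraMap R _ _ ∈ P) ((hu S).map _))
  simpa using sub_mem hg hS

/-- A pair of points congruent modulo `π` gives a point in each coordinate of the cube. -/
theorem pair_mem (i : Fin q) {x y : R} (h : π ∣ y - x) :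
    (fun S : Finset (Fin q) => if i ∈ S then y else x) ∈ cube π q := by
  obtain ⟨c, hc⟩ := h
  have : (fun S : Finset (Fin q) => if i ∈ S then y else x) =
      algebraMap R _ x + c • coord π q i := funext fun S => by
    by_cases hS : i ∈ S <;> simp [coord, hS]
    linear_combination hc
  rw [this]
  exact add_mem (Subalgebra.algebraMap_mem _ x) (Subalgebra.smul_mem _ (coord_mem π q i) c)

end Groth.Agent.NeronHD28.Cube
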