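import Groth.Prelude
import Groth.Agent.An92.Rat.SchDenseOps
import Groth.Agent.SGA3a.SchemDense
import Groth.Agent.S0386

/-!
# A morphism which is an isomorphism over an open with schematically dense preimage

Flatness at a point, étaleness near it and existence of a local section through it are equivalent.
-/

set_option autoImplicit false
universe u

open CategoryTheory CategoryTheory.Limits AlgebraicGeometry

namespace Groth.Agent.NeronHD28

variable {X S : Scheme.{u}} (f : X ⟶ S) (U : S.Opens)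

theorem eq_of_comp_eq_of_isIso_restrict [IsIso (f ∣_ U)] {T : Scheme.{u}} (a b : T ⟶ X)
    (ha : ∀ t, f.base (a.base t) ∈ U) (hab : a ≫ f = b ≫ f) : a = b := by
  have hmono : Mono ((f ⁻¹ᵁ U).ι ≫ f) := by
    rw [← morphismRestrict_ι]
    infer_instance
  have hra : Set.range a.base ⊆ Set.range (f ⁻¹ᵁ U).ι.base := by
    rw [Scheme.Opens.range_ι]
    rintro _ ⟨t, rfl⟩
    exact ha t
  have hrb : Set.range b.base ⊆ Set.range (f ⁻¹ᵁ U).ι.base := by
    rw [Scheme.Opens.range_ι]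
    rintro _ ⟨t, rfl⟩
    show (b ≫ f).base t ∈ U
    rw [← hab]
    exact ha t
  have h : IsOpenImmersion.lift (f ⁻¹ᵁ U).ι a hra = IsOpenImmersion.lift (f ⁻¹ᵁ U).ι b hrb := by
    rw [← cancel_mono ((f ⁻¹ᵁ U).ι ≫ f)]
    rw [IsOpenImmersion.lift_fac_assoc, IsOpenImmersion.lift_fac_assoc, hab]
  rw [← IsOpenImmersion.lift_fac (f ⁻¹ᵁ U).ι a hra, h, IsOpenImmersion.lift_fac]

/-- A flat affine piece of `X` maps by an open immersion. -/
theorem isOpenImmersion_of_flat_affine [IsLocallyNoetherian X] [IsIso (f ∣_ U)]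
    [LocallyOfFinitePresentation f] (hdense : CInt.IsSchematicallyDense (f ⁻¹ᵁ U)) (W : X.Opens)
    (hW : IsAffineOpen W) [Flat (W.ι ≫ f)] : IsOpenImmersion (W.ι ≫ f) := by
  haveI : IsAffine (W : Scheme.{u}) := hW
  haveI : IsSeparated (W.ι ≫ f) := by
    haveI : IsSeparated ((W.ι ≫ f) ≫ terminal.from S) := by
      rw [show (W.ι ≫ f) ≫ terminal.from S = terminal.from (W : Scheme.{u}) from terminal.hom_ext _ _]
      infer_instance
    exact IsSeparated.of_comp (W.ι ≫ f) (terminal.from S)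
  let g := W.ι ≫ f
  haveI : Flat g := ‹_›
  haveI : IsLocallyNoetherian (W : Scheme.{u}) := inferInstance
  have h1 : CInt.IsSchematicallyDense ((W.ι ⁻¹ᵁ (f ⁻¹ᵁ U)) : (W : Scheme.{u}).Opens) :=
    An92.Rat.schDense_preimage_of_flat W.ι hdense
  haveI : Flat (pullback.fst g g) := inferInstance
  have h2 := An92.Rat.schDense_preimage_of_flat (pullback.fst g g) h1
  let D := (pullback.fst g g) ⁻¹ᵁ (W.ι ⁻¹ᵁ (f ⁻¹ᵁ U))
  let k : (D : Scheme.{u}) ⟶ (W : Scheme.{u}) := D.ι ≫ pullback.fst g g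
  have hk : k ≫ pullback.diagonal g = D.ι := by
    refine pullback.hom_ext ?_ ?_
    · simp [k]
    · simp only [k, Category.assoc, pullback.diagonal_snd, Category.comp_id]
      rw [← cancel_mono W.ι]
      refine eq_of_comp_eq_of_isIso_restrict f U _ _ (fun t => ?_) ?_
      · exact (Scheme.Opens.range_ι D).le ⟨t, rfl⟩
      · simp only [Category.assoc]
        rw [pullback.condition]
  haveI : IsClosedImmersion (pullback.diagonal g) := IsSeparated.diagonal_isClosedImmersion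
  haveI := SGA3a.isIso_of_schemDense (pullback.diagonal g) D h2 k hk
  haveI : Mono g := (pullback.isIso_diagonal_iff g).1 inferInstance
  exact IsOpenImmersion.of_flat_of_mono g

/-- An open subscheme carrying a section is mapped by an open immersion near the section. -/
theorem exists_isOpenImmersion_of_section [IsLocallyNoetherian X] [IsIso (f ∣_ U)]
    (hdense : CInt.IsSchematicallyDense (f ⁻¹ᵁ U)) {V : S.Opens} (σ : (V : Scheme.{u}) ⟶ X)
    (hσ : σ ≫ f = V.ι) (v : (V : Scheme.{u})) :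
    ∃ O : X.Opens, σ.base v ∈ O ∧ IsOpenImmersion (O.ι ≫ f) := by
  haveI : IsImmersion (σ ≫ f) := by rw [hσ]; infer_instance
  haveI : IsImmersion σ := IsImmersion.of_comp σ f
  let O := σ.coborderRange ⊓ f ⁻¹ᵁ V
  have hr : Set.range σ.base ⊆ Set.range O.ι.base := by
    rw [Scheme.Opens.range_ι]
    rintro _ ⟨t, rfl⟩
    refine ⟨?_, ?_⟩
    · have := congrArg (fun (g : _ ⟶ X) => g.base t) σ.liftCoborder_ι
      rw [← this]
      exact (Scheme.Opens.range_ι σ.coborderRange).le ⟨_, rfl⟩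
    · show (σ ≫ f).base t ∈ V
      rw [hσ]
      exact t.2
  let τ := IsOpenImmersion.lift O.ι σ hr
  have hτ : τ ≫ O.ι = σ := IsOpenImmersion.lift_fac _ _ _
  haveI : IsClosedImmersion τ := by
    have e : τ ≫ X.homOfLE (inf_le_left : O ≤ σ.coborderRange) = σ.liftCoborder := by
      rw [← cancel_mono σ.coborderRange.ι, Category.assoc, X.homOfLE_ι, hτ, σ.liftCoborder_ι]
    haveI : IsClosedImmersion (τ ≫ X.homOfLE (inf_le_left : O ≤ σ.coborderRange)) := e ▸ inferInstance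
    exact IsClosedImmersion.of_comp τ (X.homOfLE (inf_le_left : O ≤ σ.coborderRange))
  have h2 : CInt.IsSchematicallyDense (O.ι ⁻¹ᵁ (f ⁻¹ᵁ U)) := An92.Rat.schDense_preimage_of_flat O.ι hdense
  let D := O.ι ⁻¹ᵁ (f ⁻¹ᵁ U)
  have hfr : Set.range (O.ι ≫ f).base ⊆ Set.range V.ι.base := by
    rw [Scheme.Opens.range_ι]
    rintro _ ⟨t, rfl⟩
    exact t.2.2
  let π := IsOpenImmersion.lift V.ι (O.ι ≫ f) hfr
  have hπ : π ≫ V.ι = O.ι ≫ f := IsOpenImmersion.lift_fac _ _ _
  have hk : (D.ι ≫ π) ≫ τ = D.ι := by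
    rw [← cancel_mono O.ι]
    refine (eq_of_comp_eq_of_isIso_restrict f U (D.ι ≫ O.ι) _ (fun t => ?_) ?_).symm
    · exact (Scheme.Opens.range_ι D).le ⟨t, rfl⟩
    · simp only [Category.assoc]
      rw [reassoc_of% hτ, hσ, hπ]
  haveI : IsIso τ := SGA3a.isIso_of_schemDense τ D h2 _ hk
  refine ⟨O, (Scheme.Opens.range_ι O).le (hr ⟨v, rfl⟩), ?_⟩
  have : O.ι ≫ f = inv τ ≫ V.ι := by
    rw [IsIso.eq_inv_comp, reassoc_of% hτ, hσ]
  rw [this]
  infer_instance

theorem flat_stalkMap_of_etale {W : X.Opens} [Etale (W.ι ≫ f)] {x : X} (hx : x ∈ W) :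
    (f.stalkMap x).hom.Flat := by
  let w : (W : Scheme.{u}) := ⟨x, hx⟩
  have h : ((W.ι ≫ f).stalkMap w).hom.Flat := Flat.stalkMap _ _
  erw [Scheme.Hom.stalkMap_comp W.ι f w] at h
  exact (RingHom.Flat.respectsIso.cancel_right_isIso (f.stalkMap (W.ι w)) (W.ι.stalkMap w)).1 h

/-- The equivalence for a Noetherian base. -/
theorem tfae_etale_flat_section [IsNoetherian S] [LocallyOfFiniteType f]
    (hiso : IsIso (morphismRestrict f U)) (hdense : CInt.IsSchematicallyDense (f ⁻¹ᵁ U)) (x : X) :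
    List.TFAE [
      ∃ W : X.Opens, x ∈ W ∧ Etale (W.ι ≫ f),
      (f.stalkMap x).hom.Flat,
      ∃ (V : S.Opens) (hV : f.base x ∈ V) (σ : (V : Scheme.{u}) ⟶ X),
        σ ≫ f = V.ι ∧ σ.base ⟨f.base x, hV⟩ = x] := by
  haveI := hiso
  haveI : IsLocallyNoetherian X := LocallyOfFiniteType.isLocallyNoetherian f
  haveI : LocallyOfFinitePresentation f :=
    LocallyOfFinitePresentation.iff_locallyOfFiniteType.2 inferInstance
  tfae_have 1 → 2 := by
    rintro ⟨W, hx, hW⟩
    exact flat_stalkMap_of_etale f hx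
  tfae_have 2 → 3 := by
    intro hflat
    obtain ⟨W, hW, hxW, hWs⟩ : ∃ W : X.Opens, IsAffineOpen W ∧ x ∈ W ∧
        ∀ y ∈ W, (f.stalkMap y).hom.Flat := by
      obtain ⟨_, ⟨W, hW, rfl⟩, hxW, hWs⟩ := X.isBasis_affineOpens.exists_subset_of_mem_open
        (show x ∈ {y : X | (f.stalkMap y).hom.Flat} from hflat) (Groth.Agent.S0386.result f)
      exact ⟨W, hW, hxW, hWs⟩
    haveI : Flat (W.ι ≫ f) := Flat.of_stalkMap _ fun w => by
      erw [Scheme.Hom.stalkMap_comp W.ι f w]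
      exact (RingHom.Flat.respectsIso.cancel_right_isIso (f.stalkMap (W.ι w))
        (W.ι.stalkMap w)).2 (hWs _ ((Scheme.Opens.range_ι W).le ⟨w, rfl⟩))
    haveI := isOpenImmersion_of_flat_affine f U hdense W hW
    let V := (W.ι ≫ f).opensRange
    have hV : f.base x ∈ V := ⟨⟨x, hxW⟩, rfl⟩
    let e := (W.ι ≫ f).isoOpensRange
    refine ⟨V, hV, e.inv ≫ W.ι, ?_, ?_⟩
    · rw [Category.assoc]
      exact Scheme.Hom.isoOpensRange_inv_comp _
    · have h1 : e.hom.base ⟨x, hxW⟩ = ⟨f.base x, hV⟩ := by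
        refine V.ι.isOpenEmbedding.injective ?_
        show (e.hom ≫ V.ι).base ⟨x, hxW⟩ = f.base x
        rw [Scheme.Hom.isoOpensRange_hom_ι]
        rfl
      rw [← h1]
      show (e.hom ≫ e.inv ≫ W.ι).base ⟨x, hxW⟩ = x
      rw [e.hom_inv_id_assoc]
      rfl
  tfae_have 3 → 1 := by
    rintro ⟨V, hV, σ, hσ, hx⟩
    obtain ⟨O, hO, himm⟩ := exists_isOpenImmersion_of_section f U hdense σ hσ ⟨f.base x, hV⟩
    exact ⟨O, hx ▸ hO, inferInstance⟩
  tfae_finish

end Groth.Agent.NeronHD28
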