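import Groth.Agent.PnConst7.Const
import Groth.Agent.Curves2.ProjLineField
import Mathlib.CategoryTheory.Monoidal.Cartesian.Over
import Mathlib.AlgebraicGeometry.SpreadingOut

/-! Proper group schemes contain no rational curves in their fibres. -/

set_option autoImplicit false
universe u

open CategoryTheory CategoryTheory.Limits AlgebraicGeometry MonoidalCategory CartesianMonoidalCategory

namespace Groth.Agent.NeronHD28

/-- Every point with values in a purely transcendental extension of degree one is constant. -/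
def NoRat {S A : Scheme.{u}} (pA : A ⟶ S) : Prop :=
  ∀ (F : Type u) [Field F] (s : Spec (CommRingCat.of F) ⟶ S) (P : Spec (CommRingCat.of (RatFunc F)) ⟶ A),
    P ≫ pA = Spec.map (CommRingCat.ofHom (algebraMap F (RatFunc F))) ≫ s →
    ∃ z : Spec (CommRingCat.of F) ⟶ A, z ≫ pA = s ∧ P = Spec.map (CommRingCat.ofHom (algebraMap F (RatFunc F))) ≫ z

theorem noRat_of_grpObj {S : Scheme.{u}} (A : Over S) [GrpObj A] [IsProper A.hom] : NoRat A.hom := by
  intro F _ s P hP
  let AF := (Over.pullback s).obj A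
  have : IsProper AF.hom := inferInstanceAs (IsProper (pullback.snd A.hom s))
  have : GrpObj AF := Functor.grpObjObj
  let P1 := CohB1.ProjSpace 1 F
  have : IsProper (CohB1.ProjSpace.toSpec 1 F) := Curves2.ProjLine.isProper_toSpec F 1
  have := Curves2.ProjLine.isLocallyNoetherian F 1
  have : IsIntegral P1 := Curves2.ProjLine.isIntegral F 1
  obtain ⟨ρ, hρ⟩ := Curves2.ProjLine.exists_ratFunc_equiv F
  let q := CohB1.ProjSpace.toSpec 1 F
  let ξ := genericPoint P1
  let g : Spec (P1.presheaf.stalk ξ) ⟶ Spec (CommRingCat.of (RatFunc F)) :=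
    Spec.map (CommRingCat.ofHom ρ.toRingHom)
  have hq : P1.fromSpecStalk ξ ≫ q = g ≫ Spec.map (CommRingCat.ofHom (algebraMap F (RatFunc F))) := by
    refine (VarGal.SpecMap_curvStalkMap (k := F) (X := P1) ξ).symm.trans ?_
    rw [← Spec.map_comp]
    congr 1
    exact CommRingCat.hom_ext (RingHom.ext fun r => (hρ r).symm)
  let l : Spec (P1.presheaf.stalk ξ) ⟶ AF.left := pullback.lift (g ≫ P) (P1.fromSpecStalk ξ ≫ q)
    (by rw [Category.assoc, hP, hq, Category.assoc])
  have hl : l ≫ AF.hom = P1.fromSpecStalk ξ ≫ q := pullback.lift_snd _ _ _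
  obtain ⟨W, hW, g₁, hg₁, hg₁q⟩ := spread_out_of_isGermInjective' q AF.hom l hl
  have : Nonempty W := ⟨⟨ξ, hW⟩⟩
  obtain ⟨g', hg', hg'W⟩ :=
    Curves2.exists_extension_of_valuationRing AF.hom q (Curves2.ProjLine.valuationRing_stalk F) W g₁ hg₁q
  obtain ⟨z, hz⟩ := PnConst7.eq_toUnit_comp 1 F AF (Over.homMk g' hg' : Over.mk q ⟶ AF)
  let z' : Spec (CommRingCat.of F) ⟶ AF.left := z.left ≫ g'
  have hz' : z' ≫ AF.hom = 𝟙 _ := by
    rw [Category.assoc, hg']
    exact Over.w z
  have hzg : g' = q ≫ z' := congrArg CommaMorphism.left hz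
  refine ⟨z' ≫ pullback.fst A.hom s, ?_, ?_⟩
  · rw [Category.assoc, pullback.condition, ← Category.assoc]
    exact (congrArg (· ≫ s) hz').trans (Category.id_comp s)
  · have : IsIso g := inferInstanceAs (IsIso (Spec.map ρ.toCommRingCatIso.hom))
    rw [← cancel_epi g, ← Category.assoc g, ← hq]
    calc g ≫ P = l ≫ pullback.fst A.hom s := (pullback.lift_fst _ _ _).symm
      _ = P1.fromSpecStalk ξ ≫ g' ≫ pullback.fst A.hom s := by
        rw [hg₁, ← hg'W]
        simp only [← Category.assoc]
        rw [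
          Scheme.Opens.fromSpecStalkOfMem_ι]
      _ = _ := by rw [hzg]; simp only [Category.assoc]

end Groth.Agent.NeronHD28
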