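import Groth.Agent.EGA73.ExtendCodimOne
import Mathlib.AlgebraicGeometry.Morphisms.Separated
import Mathlib.AlgebraicGeometry.Morphisms.Affine

/-! Lifting morphisms from a fraction field to a local ring. -/

set_option autoImplicit false
universe u

open CategoryTheory CategoryTheory.Limits AlgebraicGeometry

namespace Groth.Agent.NeronHD28

/-- The morphism of the fraction field of a local ring. -/
noncomputable abbrev fracPt (O : CommRingCat.{u}) : Spec (CommRingCat.of (FractionRing O)) ⟶ Spec O :=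
  Spec.map (CommRingCat.ofHom (algebraMap O (FractionRing O)))

theorem isDominant_fracPt (O : CommRingCat.{u}) [IsDomain O] : IsDominant (fracPt O) :=
  ⟨(PrimeSpectrum.denseRange_comap_iff_ker_le_nilRadical _).2 (by
    show RingHom.ker (algebraMap O (FractionRing O)) ≤ _
    rw [(RingHom.injective_iff_ker_eq_bot _).1 (IsFractionRing.injective O (FractionRing O))]
    exact bot_le)⟩

theorem isReduced_spec_of_isDomain (O : CommRingCat.{u}) [IsDomain O] : IsReduced (Spec O) := inferInstance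

theorem ext_fracPt (O : CommRingCat.{u}) [IsDomain O] {Z : Scheme.{u}} [Z.IsSeparated] (a b : Spec O ⟶ Z)
    (h : fracPt O ≫ a = fracPt O ≫ b) : a = b := by
  have := isDominant_fracPt O
  exact ext_of_isDominant_of_isSeparated (terminal.from Z) (terminal.hom_ext _ _) (fracPt O) h

/-- A `K`-point extends if the functions of an affine chart are integral. -/
theorem exists_lift_of_forall_mem_range {S G : Scheme.{u}} [S.IsSeparated] (p : G ⟶ S) (O : CommRingCat.{u})
    [IsDomain O] (s : Spec O ⟶ S) (xK : Spec (CommRingCat.of (FractionRing O)) ⟶ G) (hx : xK ≫ p = fracPt O ≫ s)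
    {H : G.Opens} (hH : IsAffineOpen H) (hxH : xK.base (IsLocalRing.closedPoint _) ∈ H)
    (hmem : ∀ ρ : Γ(G, H) ⟶ CommRingCat.of (FractionRing O), Spec.map ρ ≫ hH.fromSpec = xK →
      ∀ h, ρ h ∈ (algebraMap O (FractionRing O)).range) :
    ∃ l : Spec O ⟶ G, l ≫ p = s ∧ fracPt O ≫ l = xK := by
  have := hH.isOpenImmersion_fromSpec
  have hr : Set.range xK ⊆ Set.range hH.fromSpec := by
    rintro _ ⟨c, rfl⟩
    rw [hH.range_fromSpec]
    exact (Subsingleton.elim (IsLocalRing.closedPoint (FractionRing O)) c : _) ▸ hxH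
  obtain ⟨ρ, hρ⟩ := Spec.map_surjective (IsOpenImmersion.lift hH.fromSpec xK hr)
  have hρx : Spec.map ρ ≫ hH.fromSpec = xK := by rw [hρ, IsOpenImmersion.lift_fac]
  have hinj := IsFractionRing.injective O (FractionRing O)
  let e := RingEquiv.ofBijective (algebraMap O (FractionRing O)).rangeRestrict
    ⟨fun a b h => hinj (congrArg Subtype.val h), RingHom.rangeRestrict_surjective _⟩
  let ρ' : Γ(G, H) ⟶ O := CommRingCat.ofHom (e.symm.toRingHom.comp (ρ.hom.codRestrict _ (hmem ρ hρx)))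
  have hρ' : ρ' ≫ CommRingCat.ofHom (algebraMap O (FractionRing O)) = ρ := by
    ext h
    show algebraMap O (FractionRing O) (e.symm ⟨ρ h, _⟩) = ρ h
    exact congrArg Subtype.val (e.apply_symm_apply ⟨ρ h, hmem ρ hρx h⟩)
  have hl : fracPt O ≫ Spec.map ρ' ≫ hH.fromSpec = xK := by
    rw [← Category.assoc, ← Spec.map_comp, hρ', hρx]
  refine ⟨Spec.map ρ' ≫ hH.fromSpec, ext_fracPt O _ _ ?_, hl⟩
  rw [← Category.assoc, hl, hx]

/-- A partial extension gives elements of the chart in a subring. -/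
theorem chart_eq_of_lift {G : Scheme.{u}} {O' K : CommRingCat.{u}} (ι : O' ⟶ K) (l : Spec O' ⟶ G)
    {H : G.Opens} (hH : IsAffineOpen H) (hl : Set.range l ⊆ (H : Set G)) (xK : Spec K ⟶ G)
    (h : Spec.map ι ≫ l = xK) (ρ : Γ(G, H) ⟶ K) (hρ : Spec.map ρ ≫ hH.fromSpec = xK) :
    ∃ ρ' : Γ(G, H) ⟶ O', ρ = ρ' ≫ ι := by
  have := hH.isOpenImmersion_fromSpec
  obtain ⟨ρ', hρ'⟩ := Spec.map_surjective (IsOpenImmersion.lift hH.fromSpec l (by rwa [hH.range_fromSpec]))
  refine ⟨ρ', Spec.map_injective ?_⟩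
  rw [← cancel_mono hH.fromSpec, hρ, Spec.map_comp, Category.assoc, hρ', IsOpenImmersion.lift_fac, h]

/-- A morphism from a local scheme lands in an open containing the image of the closed point. -/
theorem range_subset_of_closedPoint_mem {O : CommRingCat.{u}} [IsLocalRing O] {G : Scheme.{u}} (l : Spec O ⟶ G)
    (H : G.Opens) (h : l.base (IsLocalRing.closedPoint O) ∈ H) : Set.range l ⊆ (H : Set G) := by
  rintro _ ⟨c, rfl⟩
  exact ((IsLocalRing.specializes_closedPoint c).map l.continuous).mem_open H.2 h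

/-- The local extension at one point, for the given generic point. -/
theorem exists_local_extension' {S X Y : Scheme.{u}} [IsLocallyNoetherian Y] [IsReduced Y]
    (p : X ⟶ S) [IsSeparated p] [LocallyOfFiniteType p] (q : Y ⟶ S)
    (V : Y.Opens) (hV : Dense (V : Set Y)) (g : (V : Scheme.{u}) ⟶ X) (hg : g ≫ p = V.ι ≫ q)
    (y : Y) [IsDomain (Y.presheaf.stalk y)]
    (hlift : ∀ k : Spec (CommRingCat.of (FractionRing (Y.presheaf.stalk y))) ⟶ (V : Scheme.{u}),
      k ≫ V.ι = fracPt (Y.presheaf.stalk y) ≫ Y.fromSpecStalk y →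
      ∃ l : Spec (Y.presheaf.stalk y) ⟶ X, l ≫ p = Y.fromSpecStalk y ≫ q ∧ fracPt (Y.presheaf.stalk y) ≫ l = k ≫ g) :
    ∃ (W : Y.Opens) (gW : (W : Scheme.{u}) ⟶ X), y ∈ W ∧ gW ≫ p = W.ι ≫ q ∧
      Y.homOfLE (inf_le_left : W ⊓ V ≤ W) ≫ gW = Y.homOfLE (inf_le_right : W ⊓ V ≤ V) ≫ g := by
  let O := Y.presheaf.stalk y
  let K := FractionRing O
  let β : Spec (CommRingCat.of K) ⟶ Spec O := Spec.map (CommRingCat.ofHom (algebraMap O K))
  obtain ⟨W₀, hyW₀, hgen⟩ := EGA73.exists_irreducible_nbhd y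
  let η := Y.fromSpecStalk y (genericPoint (Spec O))
  have hβ : ∀ c, β c = genericPoint (Spec O) := fun c => by
    refine IsGenericPoint.eq ?_ (genericPoint_spec (Spec O))
    change PrimeSpectrum K at c
    show closure {(PrimeSpectrum.comap (algebraMap O K) c : PrimeSpectrum O)} = Set.univ
    have hb : (PrimeSpectrum.comap (algebraMap O K) c).asIdeal = ⊥ := by
      show c.asIdeal.comap (algebraMap O K) = ⊥
      rw [c.asIdeal.eq_bot_of_prime, ← RingHom.ker_eq_comap_bot,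
        (RingHom.injective_iff_ker_eq_bot _).1 (IsFractionRing.injective O K)]
    rw [PrimeSpectrum.closure_singleton, hb]
    exact PrimeSpectrum.zeroLocus_bot
  have hηV : η ∈ V := by
    obtain ⟨x, hxW, hxV⟩ := hV.inter_open_nonempty _ W₀.2 ⟨y, hyW₀⟩
    exact (hgen x hxW).mem_open V.2 hxV
  have hrange : Set.range (β ≫ Y.fromSpecStalk y) ⊆ Set.range V.ι := by
    rintro _ ⟨c, rfl⟩
    rw [Scheme.Opens.range_ι, Scheme.Hom.comp_apply, hβ]
    exact hηV
  let k := IsOpenImmersion.lift V.ι (β ≫ Y.fromSpecStalk y) hrange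
  have hk : k ≫ V.ι = β ≫ Y.fromSpecStalk y := IsOpenImmersion.lift_fac _ _ _
  obtain ⟨l, hl, hlk⟩ := hlift k hk
  obtain ⟨W₁, hyW₁, g₁, hg₁, hg₁q⟩ := spread_out_of_isGermInjective' q p l hl
  let W := W₀ ⊓ W₁
  refine ⟨W, Y.homOfLE (inf_le_right : W ≤ W₁) ≫ g₁, ⟨hyW₀, hyW₁⟩, ?_, ?_⟩
  · rw [Category.assoc, hg₁q, ← Category.assoc, Scheme.homOfLE_ι]
  have hηW : η ∈ W := ⟨(((genericPoint_spec _).specializes trivial).map (Y.fromSpecStalk y).continuous).mem_open W₀.2
      (by rw [Scheme.fromSpecStalk_closedPoint]; exact hyW₀),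
    (((genericPoint_spec _).specializes trivial).map (Y.fromSpecStalk y).continuous).mem_open W₁.2
      (by rw [Scheme.fromSpecStalk_closedPoint]; exact hyW₁)⟩
  have hr : Set.range (β ≫ Y.fromSpecStalk y) ⊆ Set.range (W ⊓ V).ι := by
    rintro _ ⟨c, rfl⟩
    rw [Scheme.Opens.range_ι, Scheme.Hom.comp_apply, hβ]
    exact ⟨hηW, hηV⟩
  let m := IsOpenImmersion.lift (W ⊓ V).ι (β ≫ Y.fromSpecStalk y) hr
  have hm : m ≫ (W ⊓ V).ι = β ≫ Y.fromSpecStalk y := IsOpenImmersion.lift_fac _ _ _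
  have : IsDominant m := by
    refine ⟨fun z => ?_⟩
    obtain ⟨c⟩ : Nonempty (Spec (CommRingCat.of K)) := ⟨IsLocalRing.closedPoint K⟩
    have hsp : m c ⤳ z := by
      rw [← (W ⊓ V).ι.isOpenEmbedding.toIsInducing.specializes_iff, ← Scheme.Hom.comp_apply, hm,
        Scheme.Hom.comp_apply, hβ]
      exact hgen _ (show (W ⊓ V).ι z ∈ W₀ from z.2.1.1)
    exact closure_mono (Set.singleton_subset_iff.mpr (Set.mem_range_self c)) hsp.mem_closure
  refine ext_of_isDominant_of_isSeparated p ?_ m ?_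
  · simp only [Category.assoc, hg₁q, hg, Scheme.homOfLE_ι_assoc]
  · have h1 : m ≫ Y.homOfLE (inf_le_left : W ⊓ V ≤ W) ≫ Y.homOfLE (inf_le_right : W ≤ W₁) =
        β ≫ W₁.fromSpecStalkOfMem y hyW₁ := by
      rw [← cancel_mono W₁.ι]
      simp only [Category.assoc, Scheme.homOfLE_ι, Scheme.Opens.fromSpecStalkOfMem_ι, hm]
    have h2 : m ≫ Y.homOfLE (inf_le_right : W ⊓ V ≤ V) = k := by
      rw [← cancel_mono V.ι, Category.assoc, Scheme.homOfLE_ι, hm, hk]
    rw [reassoc_of% h1, ← hg₁, reassoc_of% h2]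
    exact hlk

end Groth.Agent.NeronHD28
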