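import Groth.Agent.NeronHD28.ValChain
import Groth.Agent.NeronHD28.RatPoint
import Groth.Agent.NeronHD28.WeilLift
import Groth.Agent.E4O.DvrDom
import Mathlib.AlgebraicGeometry.ZariskisMainTheorem
import Mathlib.AlgebraicGeometry.IdealSheaf.Subscheme
import Mathlib.FieldTheory.RatFunc.AsPolynomial
import Mathlib.RingTheory.Jacobson.Ring

/-! Points of proper schemes without rational curves extend over two-dimensional normal local rings. -/

set_option autoImplicit false
universe u

open CategoryTheory CategoryTheory.Limits AlgebraicGeometry IsLocalRing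

namespace Groth.Agent.NeronHD28

/-- A point of a scheme of finite type with values in an algebraic extension of the field is closed. -/
theorem isClosed_point_of_algebraic {k F : Type u} [Field k] [Field F] {X : Scheme.{u}}
    (g : X ⟶ Spec (CommRingCat.of k)) [LocallyOfFiniteType g] (α : k →+* F) (halg : α.IsIntegral)
    (f : Spec (CommRingCat.of F) ⟶ X) (hf : f ≫ g = Spec.map (CommRingCat.ofHom α)) (c : Spec (CommRingCat.of F)) :
    IsClosed ({f.base c} : Set X) := by
  have : JacobsonSpace X := LocallyOfFiniteType.jacobsonSpace g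
  obtain ⟨U, hU, hcU, -⟩ := exists_isAffineOpen_mem_and_subset (U := (⊤ : X.Opens)) (x := f.base c) trivial
  have hr : Set.range f ⊆ Set.range hU.fromSpec := by
    rintro _ ⟨d, rfl⟩
    rw [hU.range_fromSpec]
    exact (Subsingleton.elim c d : _) ▸ hcU
  obtain ⟨θ, hθ⟩ := Spec.map_surjective (IsOpenImmersion.lift hU.fromSpec f hr)
  obtain ⟨β, hβ⟩ := Spec.map_surjective (hU.fromSpec ≫ g)
  have hθβ : β ≫ θ = CommRingCat.ofHom α := Spec.map_injective (by
    rw [Spec.map_comp, hθ, hβ, ← Category.assoc, IsOpenImmersion.lift_fac, hf])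
  have hint : θ.hom.IsIntegral :=
    RingHom.IsIntegral.tower_top β.hom θ.hom (by rw [← CommRingCat.hom_comp, hθβ]; exact halg)
  have hmax : ((Spec.map θ).base c).asIdeal.IsMaximal := by
    algebraize [θ.hom]
    have : Algebra.IsIntegral Γ(X, U) F := ⟨hint⟩
    have hc : (c : PrimeSpectrum F).asIdeal.IsMaximal := Ideal.IsPrime.isMaximal' (hI := c.isPrime)
    exact Ideal.isMaximal_comap_of_isIntegral_of_isMaximal (c : PrimeSpectrum F).asIdeal
  have h1 : (Spec.map θ).base c ∈ closedPoints (Spec Γ(X, U)) :=
    (PrimeSpectrum.isClosed_singleton_iff_isMaximal _).2 hmax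
  rw [← hU.fromSpec.isOpenEmbedding.preimage_closedPoints] at h1
  have h2 : hU.fromSpec.base ((Spec.map θ).base c) = f.base c := by
    rw [← Scheme.Hom.comp_apply, hθ, IsOpenImmersion.lift_fac]
  exact h2 ▸ h1

variable {S A : Scheme.{u}} (pA : A ⟶ S) [IsProper pA]

section

variable (R : CommRingCat.{u}) [IsDomain R] [IsLocalRing R] [IsNoetherianRing R] (s : Spec R ⟶ S)
  (xK : Spec (CommRingCat.of (FractionRing R)) ⟶ A) (hx : xK ≫ pA = fracPt R ≫ s)

/-- The point over the generic point. -/
noncomputable def genSec : Spec (CommRingCat.of (FractionRing R)) ⟶ pullback pA s :=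
  pullback.lift xK (fracPt R) hx

theorem genSec_snd : genSec pA R s xK hx ≫ pullback.snd pA s = fracPt R := pullback.lift_snd _ _ _

theorem genSec_fst : genSec pA R s xK hx ≫ pullback.fst pA s = xK := pullback.lift_fst _ _ _

/-- A specialization of the generic point in the special fibre is closed. -/
theorem isClosed_of_specializes (hA : NoRat pA) (hm : ∃ u v, maximalIdeal R = Ideal.span {u, v})
    (hnf : ¬ IsField R) (z : ↥(pullback pA s))
    (hz : (pullback.snd pA s).base z = closedPoint R)
    (hsp : (genSec pA R s xK hx).base (closedPoint (FractionRing R)) ⤳ z) :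
    IsClosed ({z} : Set ↥(pullback pA s)) := by
  let K := FractionRing R
  let X := pullback pA s
  let π := pullback.snd pA s
  have : IsLocallyNoetherian X := LocallyOfFiniteType.isLocallyNoetherian π
  -- the map from the local ring at `z`
  let xR := genSec pA R s xK hx
  let ρ : X.presheaf.stalk z ⟶ CommRingCat.of K :=
    X.presheaf.stalkSpecializes hsp ≫ Scheme.stalkClosedPointTo xR
  have hρ : Spec.map ρ ≫ X.fromSpecStalk z = xR := by
    rw [Spec.map_comp, Category.assoc, Scheme.SpecMap_stalkSpecializes_fromSpecStalk]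
    exact Scheme.Spec_stalkClosedPointTo_fromSpecStalk xR
  obtain ⟨α, hα⟩ := Spec.map_surjective (X.fromSpecStalk z ≫ π)
  have hρα : α ≫ ρ = CommRingCat.ofHom (algebraMap R K) := Spec.map_injective (by
    rw [Spec.map_comp, hα, ← Category.assoc, hρ]
    exact genSec_snd pA R s xK hx)
  have hρα' : ∀ r, ρ (α r) = algebraMap R K r := fun r => congrArg (fun f => f.hom r) hρα
  have hαloc : IsLocalHom α.hom := by
    refine ((IsLocalRing.local_hom_TFAE α.hom).out 0 4).mpr ?_
    refine congrArg PrimeSpectrum.asIdeal (show (Spec.map α).base (closedPoint _) = closedPoint R from ?_)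
    rw [hα, Scheme.Hom.comp_apply, Scheme.fromSpecStalk_closedPoint]
    exact hz
  -- the image of the local ring
  let T : Subring K := ρ.hom.range
  have : IsNoetherianRing T := isNoetherianRing_of_surjective _ T ρ.hom.rangeRestrict ρ.hom.rangeRestrict_surjective
  have hTloc : IsLocalRing T := IsLocalRing.of_surjective' ρ.hom.rangeRestrict ρ.hom.rangeRestrict_surjective
  have : IsFractionRing T K := by
    refine IsFractionRing.of_field T K fun x => ?_
    obtain ⟨a, b, hb, hab⟩ := IsFractionRing.div_surjective (A := R) x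
    refine ⟨⟨_, α a, hρα' a⟩, ⟨_, α b, hρα' b⟩, ?_⟩
    show x = algebraMap R K a / algebraMap R K b
    exact hab.symm
  have hTnf : ¬ IsField T := by
    intro hF
    obtain ⟨r, hr, hr0⟩ := Submodule.exists_mem_ne_zero_of_ne_bot
      (fun h => hnf (IsLocalRing.isField_iff_maximalIdeal_eq.2 h))
    have hne : (ρ.hom.rangeRestrict (α r) : T) ≠ 0 := fun h => hr0 <| IsFractionRing.injective R K <| by
      rw [map_zero, ← hρα' r]
      exact congrArg Subtype.val h
    obtain ⟨y, hy⟩ := hF.mul_inv_cancel hne
    obtain ⟨w, hw⟩ := ρ.hom.rangeRestrict_surjective y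
    have hnu := map_nonunit α.hom r hr
    have h1 : ρ.hom.rangeRestrict (1 - α r * w) = 0 := by rw [map_sub, map_one, map_mul, hw, hy, sub_self]
    have h2 : IsUnit (1 - α r * w) :=
      IsLocalRing.isUnit_one_sub_self_of_mem_nonunits _ (fun h => hnu (isUnit_of_mul_isUnit_left h))
    exact not_isUnit_zero (h1 ▸ h2.map ρ.hom.rangeRestrict)
  obtain ⟨V, hV, hmemV, hdom⟩ := E4O.exists_dvr_dominating hTnf K K
    (IntermediateField.fg_top K K)
  let ρV : X.presheaf.stalk z →+* V := ρ.hom.codRestrict V.toSubring fun a => hmemV ⟨_, a, rfl⟩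
  have hρVloc : IsLocalHom ρV := ⟨fun a ha => by
    by_contra hna
    have hmem : ρ.hom.rangeRestrict a ∈ maximalIdeal T := fun hu => by
      obtain ⟨y, hy⟩ := hu.exists_right_inv
      obtain ⟨w, hw⟩ := ρ.hom.rangeRestrict_surjective y
      have h1 : ρ.hom.rangeRestrict (1 - a * w) = 0 := by rw [map_sub, map_one, map_mul, hw, hy, sub_self]
      exact not_isUnit_zero (h1 ▸ (IsLocalRing.isUnit_one_sub_self_of_mem_nonunits _
        (fun h => hna (isUnit_of_mul_isUnit_left h))).map ρ.hom.rangeRestrict)
    have h2 := hdom _ hmem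
    have h3 : ρV a ∈ maximalIdeal V := (ValuationSubring.valuation_lt_one_iff _ _).2 h2
    exact h3 ha⟩
  let φ : R →+* V := ρV.comp α.hom
  have hφ : ∀ r, (φ r : K) = algebraMap R K r := hρα'
  have hφloc : IsLocalHom φ := RingHom.isLocalHom_comp ρV α.hom
  have hφinj : Function.Injective φ := fun a b h =>
    IsFractionRing.injective R K (by rw [← hφ, ← hφ, h])
  have hfrac : ValChain.HasFrac φ := fun x => by
    obtain ⟨a, b, hb, hab⟩ := IsFractionRing.div_surjective (A := R) (x : K)
    have hb' : algebraMap R K b ≠ 0 := IsFractionRing.to_map_ne_zero_of_mem_nonZeroDivisors hb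
    refine ⟨a, b, fun h => hb' (by rw [← hφ, h]; rfl), Subtype.ext ?_⟩
    show (x : K) * (φ b : K) = (φ a : K)
    rw [hφ, hφ, ← hab, div_mul_cancel₀ _ hb']
  -- the residue fields
  let L := ResidueField V
  let ψ : ResidueField R →+* L := ResidueField.map φ
  let P₀ : Spec (CommRingCat.of L) ⟶ X :=
    Spec.map (CommRingCat.ofHom ((residue V).comp ρV)) ≫ X.fromSpecStalk z
  have hP₀ : ∀ c, P₀.base c = z := fun c => by
    rw [Scheme.Hom.comp_apply]
    have : (Spec.map (CommRingCat.ofHom ((residue V).comp ρV))).base c = closedPoint _ := by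
      refine PrimeSpectrum.ext ?_
      show (c : PrimeSpectrum L).asIdeal.comap ((residue V).comp ρV) = maximalIdeal _
      rw [(c : PrimeSpectrum L).asIdeal.eq_bot_of_prime, ← RingHom.ker_eq_comap_bot, ← RingHom.comap_ker,
        ker_residue]
      exact ((IsLocalRing.local_hom_TFAE ρV).out 0 4).mp hρVloc
    rw [this, Scheme.fromSpecStalk_closedPoint]
  let toR := Spec.map (CommRingCat.ofHom (residue R))
  have hP₀π : P₀ ≫ π = Spec.map (CommRingCat.ofHom ψ) ≫ toR := by
    rw [Category.assoc, ← hα, ← Spec.map_comp, ← Spec.map_comp]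
    congr 1
  let Z := pullback π toR
  let gZ : Z ⟶ Spec (CommRingCat.of (ResidueField R)) := pullback.snd π toR
  have : IsClosedImmersion toR := IsClosedImmersion.spec_of_surjective _ residue_surjective
  have : IsClosedImmersion (pullback.fst π toR) := inferInstance
  have hclose : ∀ (F : Type u) [Field F] (β : ResidueField R →+* F), β.IsIntegral →
      ∀ (w : Spec (CommRingCat.of F) ⟶ X), w ≫ π = Spec.map (CommRingCat.ofHom β) ≫ toR →
      ∀ c, IsClosed ({w.base c} : Set X) := by
    intro F _ β hβ w hw c
    have h1 := isClosed_point_of_algebraic gZ β hβ (pullback.lift w _ hw) (pullback.lift_snd _ _ _) c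
    have h2 := (pullback.fst π toR).isClosedEmbedding.isClosedMap _ h1
    rw [Set.image_singleton, ← Scheme.Hom.comp_apply, pullback.lift_fst] at h2
    exact h2
  let k₀ : Subfield L := ψ.fieldRange
  have hψk₀ : ∀ {x : L}, IsAlgebraic k₀ x → x ∈ algebraicClosure k₀ L := fun h => mem_algebraicClosure_iff.2 h
  by_cases hall : ∀ x : L, IsAlgebraic k₀ x
  · have hint : ψ.IsIntegral := fun x => by
      obtain ⟨p, hp, hp0⟩ := (hall x).isIntegral
      obtain ⟨p', hp'map, -, hp'⟩ := Polynomial.lifts_and_degree_eq_and_monic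
        ((Polynomial.lifts_iff_coeff_lifts p).2 fun i => ψ.rangeRestrictField_bijective.2 (p.coeff i)) hp
      refine ⟨p', hp', ?_⟩
      rw [← hp'map, Polynomial.eval₂_map] at hp0
      exact hp0
    have c : Spec (CommRingCat.of L) := closedPoint L
    exact hP₀ c ▸ hclose L ψ hint P₀ hP₀π c
  · push_neg at hall
    obtain ⟨gbar, hg⟩ := hall
    obtain ⟨g, rfl⟩ := residue_surjective gbar
    have hres : ValChain.ResAlg φ k₀ := fun r => by
      have : residue V (φ r) ∈ k₀ := ⟨residue R r, ResidueField.map_residue φ r⟩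
      exact isAlgebraic_algebraMap (⟨_, this⟩ : k₀)
    obtain ⟨a, b, hb, hab⟩ := hfrac g
    obtain ⟨n, hn⟩ : ∃ n : ℕ, IsDiscreteValuationRing.addVal V (φ b) = n :=
      (ENat.ne_top_iff_exists.1 (by rw [Ne, IsDiscreteValuationRing.addVal_eq_top_iff]; exact hb)).imp
        fun _ h => h.symm
    obtain ⟨T, hT⟩ := ValChain.exists_adjoin_eq_top k₀ hg n R φ hφinj hfrac hres hm a b hb hab hn.le
    let F := algebraicClosure k₀ L
    have htr : Transcendental F T := fun halg => hg <| by
      have h1 : Algebra.IsAlgebraic F (IntermediateField.adjoin F {T}) :=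
        IntermediateField.isAlgebraic_adjoin_simple halg.isIntegral
      have h2 : residue V g ∈ IntermediateField.adjoin F {T} := hT ▸ trivial
      have h3 : IsAlgebraic F (residue V g) :=
        IntermediateField.isAlgebraic_iff.1 (h1.isAlgebraic (⟨_, h2⟩ : IntermediateField.adjoin F {T}))
      exact h3.restrictScalars k₀
    let e : RatFunc F ≃+* L :=
      ((RatFunc.algEquivOfTranscendental T htr).trans
        ((IntermediateField.equivOfEq hT).trans IntermediateField.topEquiv)).toRingEquiv
    let β : ResidueField R →+* F := ψ.codRestrict F fun x =>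
      hψk₀ (isAlgebraic_algebraMap (⟨ψ x, x, rfl⟩ : k₀))
    have hβ : ∀ x, (β x : L) = ψ x := fun _ => rfl
    have hβint : β.IsIntegral := fun x => by
      obtain ⟨p, hp, hp0⟩ := (mem_algebraicClosure_iff.1 x.2).isIntegral
      obtain ⟨p', hp'map, -, hp'⟩ := Polynomial.lifts_and_degree_eq_and_monic
        ((Polynomial.lifts_iff_coeff_lifts p).2 fun i => ψ.rangeRestrictField_bijective.2 (p.coeff i)) hp
      refine ⟨p', hp', Subtype.ext ?_⟩
      rw [← hp'map, Polynomial.eval₂_map] at hp0
      show F.subtype (p'.eval₂ β x) = 0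
      rw [Polynomial.hom_eval₂]
      exact hp0
    have hcomm : (e.toRingHom.comp (algebraMap F (RatFunc F))).comp β = ψ :=
      RingHom.ext fun x => by
        show e (algebraMap F (RatFunc F) (β x)) = ψ x
        rw [← hβ x]
        exact ((RatFunc.algEquivOfTranscendental T htr).trans
          ((IntermediateField.equivOfEq hT).trans IntermediateField.topEquiv)).commutes (β x)
    let eS : Spec (CommRingCat.of L) ⟶ Spec (CommRingCat.of (RatFunc F)) := Spec.map (CommRingCat.ofHom e.toRingHom)
    have : IsIso eS := inferInstanceAs (IsIso (Spec.map e.toCommRingCatIso.hom))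
    let sF : Spec (CommRingCat.of F) ⟶ Spec R := Spec.map (CommRingCat.ofHom β) ≫ toR
    let P : Spec (CommRingCat.of (RatFunc F)) ⟶ A := inv eS ≫ P₀ ≫ pullback.fst pA s
    let aF : Spec (CommRingCat.of (RatFunc F)) ⟶ Spec (CommRingCat.of F) :=
      Spec.map (CommRingCat.ofHom (algebraMap F (RatFunc F)))
    have haF : eS ≫ aF ≫ sF = P₀ ≫ π := by
      rw [hP₀π, ← Category.assoc, ← Category.assoc]
      congr 1
      rw [← Spec.map_comp, ← Spec.map_comp]
      congr 1
      exact CommRingCat.hom_ext hcomm
    obtain ⟨w, hw, hPw⟩ := hA F (sF ≫ s) P (by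
      show (inv eS ≫ P₀ ≫ pullback.fst pA s) ≫ pA = aF ≫ sF ≫ s
      simp only [Category.assoc, pullback.condition]
      rw [← Category.assoc P₀, ← haF]
      simp only [Category.assoc, IsIso.inv_hom_id_assoc])
    let w' : Spec (CommRingCat.of F) ⟶ X := pullback.lift w sF hw
    have hfac : eS ≫ aF ≫ w' = P₀ := by
      apply pullback.hom_ext
      · simp only [Category.assoc, w', pullback.lift_fst]
        rw [show aF ≫ w = P from hPw.symm, IsIso.hom_inv_id_assoc]
      · simp only [Category.assoc, w', pullback.lift_snd]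
        exact haF
    have c : Spec (CommRingCat.of L) := closedPoint L
    rw [← hP₀ c, ← hfac, Scheme.Hom.comp_apply, Scheme.Hom.comp_apply]
    exact hclose F β hβint w' (pullback.lift_snd _ _ _) _

include hx in
/-- A point defined at all non-closed points extends. -/
theorem exists_lift_dim_two [IsIntegrallyClosed R] (hA : NoRat pA)
    (hm : ∃ u v, maximalIdeal R = Ideal.span {u, v}) (hnf : ¬ IsField R)
    (hlift : ∀ p : PrimeSpectrum R, p ≠ closedPoint R → ∃ l : Spec (CommRingCat.of (Localization.AtPrime p.asIdeal)) ⟶ A,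
      l ≫ pA = Spec.map (CommRingCat.ofHom (algebraMap R _)) ≫ s ∧
      Spec.map (CommRingCat.ofHom (IsLocalization.lift (M := p.asIdeal.primeCompl) (g := algebraMap R (FractionRing R))
        fun t => isUnit_iff_ne_zero.2 (IsFractionRing.to_map_ne_zero_of_mem_nonZeroDivisors
          (p.asIdeal.primeCompl_le_nonZeroDivisors t.2)))) ≫ l = xK) :
    ∃ l : Spec R ⟶ A, l ≫ pA = s ∧ fracPt R ≫ l = xK := by
  let X := pullback pA s
  let π := pullback.snd pA s
  let K := FractionRing R
  let xR := genSec pA R s xK hx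
  let η := xR.base (closedPoint K)
  have : IsLocallyNoetherian X := LocallyOfFiniteType.isLocallyNoetherian π
  have : CompactSpace X := QuasiCompact.compactSpace_of_compactSpace π
  have : IsNoetherian X := {}
  have : QuasiCompact xR := inferInstance
  let Γ' := xR.image
  have hrange : ∀ y, y ∈ Set.range xR.imageι.base → η ⤳ y := by
    intro y hy
    rw [Scheme.IdealSheafData.range_subschemeι, Scheme.Hom.support_ker] at hy
    refine specializes_iff_mem_closure.2 ?_
    convert! hy
    ext w
    exact ⟨fun h => ⟨_, h.symm⟩, fun ⟨c, hc⟩ => hc.symm.trans (congrArg xR.base (Subsingleton.elim c _))⟩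
  -- finiteness of the fibres
  have hfib : ∀ t : Spec R, {y : X | η ⤳ y ∧ π.base y = t}.Finite := by
    intro t
    by_cases ht : t = closedPoint R
    · subst ht
      have hclosed : IsClosed {y : X | η ⤳ y ∧ π.base y = closedPoint R} := by
        have h1 : {y : X | η ⤳ y} = closure {η} := Set.ext fun _ => specializes_iff_mem_closure
        show IsClosed ({y : X | η ⤳ y} ∩ π.base ⁻¹' {closedPoint R})
        rw [h1]
        exact isClosed_closure.inter ((IsLocalRing.isClosed_singleton_closedPoint R).preimage π.continuous)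
      obtain ⟨C, hCfin, hC, hirr, hU⟩ :=
        TopologicalSpace.NoetherianSpace.exists_finite_set_isClosed_irreducible hclosed
      refine (hCfin.biUnion (t := fun c => c) fun c hc => ?_).subset (fun y hy => ?_)
      · obtain ⟨ξ, hξ⟩ := QuasiSober.sober (hirr c hc) (hC c hc)
        have hξc : ξ ∈ c := hξ.mem
        have hξS : η ⤳ ξ ∧ π.base ξ = closedPoint R := by
          have : ξ ∈ {y : X | η ⤳ y ∧ π.base y = closedPoint R} := hU ▸ Set.mem_sUnion.2 ⟨c, hc, hξc⟩
          exact this
        have := isClosed_of_specializes pA R s xK hx hA hm hnf ξ hξS.2 hξS.1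
        rw [← hξ.def, this.closure_eq]
        exact Set.finite_singleton ξ
      · obtain ⟨c, hc, hyc⟩ := Set.mem_sUnion.1 (hU ▸ hy : y ∈ ⋃₀ C)
        exact Set.mem_biUnion hc hyc
    · obtain ⟨l, hl, hlK⟩ := hlift t ht
      let Rp := CommRingCat.of (Localization.AtPrime (t : PrimeSpectrum R).asIdeal)
      let j : Spec Rp ⟶ Spec R := Spec.map (CommRingCat.ofHom (algebraMap R Rp))
      have : IsPreimmersion j := IsPreimmersion.of_isLocalization (t : PrimeSpectrum R).asIdeal.primeCompl
      let pj := pullback.fst π j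
      let sec : Spec Rp ⟶ pullback π j := pullback.lift (pullback.lift l j hl) (𝟙 _)
        (by rw [pullback.lift_snd, Category.id_comp])
      have : IsClosedImmersion sec := by
        have : IsClosedImmersion (sec ≫ pullback.snd π j) := by rw [pullback.lift_snd]; infer_instance
        exact IsClosedImmersion.of_comp sec (pullback.snd π j)
      refine (Set.finite_singleton ((sec ≫ pj).base (closedPoint Rp))).subset fun y hy => ?_
      have hyj : y ∈ Set.range pj.base := by
        rw [Scheme.Pullback.range_fst]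
        refine ⟨closedPoint Rp, ?_⟩
        rw [hy.2]
        exact PrimeSpectrum.ext (IsLocalization.AtPrime.comap_maximalIdeal Rp (t : PrimeSpectrum R).asIdeal)
      obtain ⟨y', rfl⟩ := hyj
      let cK : Spec (CommRingCat.of K) ⟶ Spec Rp := Spec.map (CommRingCat.ofHom (IsLocalization.lift
        (M := (t : PrimeSpectrum R).asIdeal.primeCompl) (g := algebraMap R (FractionRing R))
        fun r => isUnit_iff_ne_zero.2 (IsFractionRing.to_map_ne_zero_of_mem_nonZeroDivisors
          ((t : PrimeSpectrum R).asIdeal.primeCompl_le_nonZeroDivisors r.2))))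
      have hc : cK ≫ sec ≫ pj = xR := by
        apply pullback.hom_ext
        · simp only [pj, sec, Category.assoc, pullback.lift_fst, pullback.lift_fst_assoc, xR, genSec]
          exact hlK
        · simp only [pj, sec, Category.assoc, pullback.lift_fst_assoc, pullback.lift_snd, xR, genSec]
          rw [← Spec.map_comp]
          congr 1
          exact CommRingCat.hom_ext (IsLocalization.lift_comp _)
      have hsp : sec.base (cK.base (closedPoint K)) ⤳ y' := by
        rw [← pj.isEmbedding.isInducing.specializes_iff, ← Scheme.Hom.comp_apply, ← Scheme.Hom.comp_apply, hc]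
        exact hy.1
      obtain ⟨q, hq⟩ := hsp.mem_closed sec.isClosedEmbedding.isClosed_range ⟨_, rfl⟩
      have hqt : q = closedPoint Rp := by
        apply j.isEmbedding.injective
        have h1 : j.base q = t := by
          rw [← hy.2, ← hq, ← Scheme.Hom.comp_apply, ← Scheme.Hom.comp_apply]
          simp only [pj, sec, pullback.condition, pullback.lift_snd_assoc, Category.id_comp]
        rw [h1]
        exact (PrimeSpectrum.ext (IsLocalization.AtPrime.comap_maximalIdeal Rp (t : PrimeSpectrum R).asIdeal)).symm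
      rw [Set.mem_singleton_iff, Scheme.Hom.comp_apply, ← hqt, hq]
  -- the closure of the point is finite over the base
  let f := xR.imageι ≫ π
  have : LocallyQuasiFinite f := by
    refine LocallyQuasiFinite.of_finite_preimage_singleton f fun t => ?_
    refine ((hfib t).preimage xR.imageι.isEmbedding.injective.injOn).subset fun y hy => ?_
    exact ⟨hrange _ ⟨y, rfl⟩, by rw [← Scheme.Hom.comp_apply]; exact hy⟩
  have : IsFinite f := (IsFinite.iff_isProper_and_locallyQuasiFinite f).2 ⟨inferInstance, inferInstance⟩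
  have : IsAffine Γ' := isAffine_of_isAffineHom f
  have hf : RingHom.Finite f.appTop.hom := IsFinite.finite_app f ⊤ (isAffineOpen_top _)
  let θ : Γ(Γ', ⊤) ⟶ CommRingCat.of K := xR.toImage.appTop ≫ (Scheme.ΓSpecIso _).hom
  have hθ : ∀ r : R, θ (f.appTop ((Scheme.ΓSpecIso R).inv r)) = algebraMap R K r := fun r => by
    have h1 : f.appTop ≫ xR.toImage.appTop = (fracPt R).appTop := by
      rw [← Scheme.Hom.comp_appTop, ← Category.assoc, Scheme.Hom.toImage_imageι, genSec_snd]
    have h2 := congrArg (fun m => (Scheme.ΓSpecIso R).inv ≫ m ≫ (Scheme.ΓSpecIso (CommRingCat.of K)).hom) h1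
    simp only [Scheme.ΓSpecIso_naturality, Iso.inv_hom_id_assoc, Category.assoc] at h2
    exact congrArg (fun m => m.hom r) h2
  have hmem : ∀ b, θ b ∈ (algebraMap R K).range := fun b => by
    obtain ⟨p, hp, hp0⟩ := hf.to_isIntegral b
    have hint : IsIntegral R (θ b) := by
      refine ⟨p.map (Scheme.ΓSpecIso R).hom.hom, hp.map _, ?_⟩
      rw [Polynomial.eval₂_map]
      have h3 : (algebraMap R K).comp (Scheme.ΓSpecIso R).hom.hom = θ.hom.comp f.appTop.hom :=
        RingHom.ext fun r => by
          show algebraMap R K ((Scheme.ΓSpecIso R).hom r) = θ (f.appTop r)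
          rw [← hθ, ← CommRingCat.comp_apply (Scheme.ΓSpecIso R).hom, Iso.hom_inv_id]
          rfl
      rw [h3, ← Polynomial.hom_eval₂, hp0, map_zero]
    exact IsIntegrallyClosed.algebraMap_eq_of_integral hint
  let e := RingEquiv.ofBijective (algebraMap R K).rangeRestrict
    ⟨fun a b h => IsFractionRing.injective R K (congrArg Subtype.val h), RingHom.rangeRestrict_surjective _⟩
  let θ' : Γ(Γ', ⊤) ⟶ R := CommRingCat.ofHom (e.symm.toRingHom.comp (θ.hom.codRestrict _ hmem))
  have hθ' : θ' ≫ CommRingCat.ofHom (algebraMap R K) = θ := by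
    ext b
    exact congrArg Subtype.val (e.apply_symm_apply ⟨θ b, hmem b⟩)
  let l := Spec.map θ' ≫ Γ'.isoSpec.inv ≫ xR.imageι ≫ pullback.fst pA s
  have hl : fracPt R ≫ l = xK := by
    have h1 : Spec.map θ ≫ Γ'.isoSpec.inv = xR.toImage := by
      rw [Iso.comp_inv_eq, Spec.map_comp, Scheme.isoSpec_hom, Scheme.toSpecΓ_naturality,
        ← SpecMap_ΓSpecIso_hom]
    calc fracPt R ≫ l = (Spec.map (θ' ≫ CommRingCat.ofHom (algebraMap R K)) ≫ Γ'.isoSpec.inv) ≫
        xR.imageι ≫ pullback.fst pA s := by
          simp only [l, Spec.map_comp, Category.assoc]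
      _ = xK := by rw [hθ', h1, Scheme.Hom.toImage_imageι_assoc, genSec_fst]
  refine ⟨l, ?_, hl⟩
  have h2 : Spec.map θ' ≫ Γ'.isoSpec.inv ≫ f = 𝟙 (Spec R) := by
    refine ext_fracPt R _ _ ?_
    have h1 : Spec.map θ ≫ Γ'.isoSpec.inv = xR.toImage := by
      rw [Iso.comp_inv_eq, Spec.map_comp, Scheme.isoSpec_hom, Scheme.toSpecΓ_naturality,
        ← SpecMap_ΓSpecIso_hom]
    rw [← Category.assoc, ← Spec.map_comp, hθ', ← Category.assoc, h1, ← Category.assoc,
      Scheme.Hom.toImage_imageι, genSec_snd, Category.comp_id]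
  have h3 := congrArg (· ≫ s) h2
  simp only [Category.assoc, f, Category.id_comp] at h3
  show (Spec.map θ' ≫ Γ'.isoSpec.inv ≫ xR.imageι ≫ pullback.fst pA s) ≫ pA = s
  simp only [Category.assoc, pullback.condition]
  exact h3

end

end Groth.Agent.NeronHD28
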