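import Groth.Prelude
import Groth.Agent.EGA4H10.DedekindExc
import Groth.Agent.Henz21.GRingJ2
import Groth.Agent.CAlg1.GRingBasic

/-!
# Excellence of a discrete valuation ring and its generic formal fibre
-/

set_option autoImplicit false
set_option linter.style.haveILetI false
universe u
open IsLocalRing TensorProduct

namespace Groth.Agent.NeronHD28

theorem isGeometricallyReduced_of_forall_finite (k F : Type u) [Field k] [CommRing F] [Algebra k F]
    (h : ∀ (k' : Type u) [Field k'] [Algebra k k'], Module.Finite k k' → IsReduced (k' ⊗[k] F)) :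
    Algebra.IsGeometricallyReduced k F := by
  rw [Algebra.isGeometricallyReduced_field_iff]
  haveI : IsReduced (F ⊗[k] AlgebraicClosure k) := by
    refine IsReduced.tensorProduct_of_flat_of_forall_fg fun B hB => ?_
    haveI : Algebra.FiniteType k B := B.fg_iff_finiteType.1 hB
    haveI : Algebra.IsIntegral k B :=
      Algebra.IsIntegral.of_injective B.val Subtype.val_injective
    haveI : Module.Finite k B := Algebra.IsIntegral.finite
    letI : Field B := (Algebra.IsIntegral.isField_iff_isField
      (algebraMap k B).injective |>.1 (Field.toIsField k)).toField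
    haveI := h B inferInstance
    exact isReduced_of_injective (Algebra.TensorProduct.comm k F B).toRingEquiv
      (Algebra.TensorProduct.comm k F B).injective
  exact isReduced_of_injective (Algebra.TensorProduct.comm k (AlgebraicClosure k) F).toRingEquiv
    (Algebra.TensorProduct.comm k (AlgebraicClosure k) F).injective

theorem isRegularHom_cpl_of_geomReduced (R : Type u) [CommRing R] [IsDomain R] [IsLocalRing R] [IsPrincipalIdealRing R]
    (hgr : Algebra.IsGeometricallyReduced (⊥ : Ideal R).ResidueField (EGA4.formalFibre R (⊥ : Ideal R))) : CAlg.IsRegularHom R (EGA4.Cpl R) := by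
  classical
  let Rh := EGA4.Cpl R
  refine ⟨inferInstanceAs (Module.Flat R (AdicCompletion (maximalIdeal R) R)), fun q _ => ?_⟩
  by_cases hq : q = maximalIdeal R
  · subst hq
    let k := (maximalIdeal R).ResidueField
    let F := (maximalIdeal R).Fiber Rh
    have hker : ∀ a : R, a ∈ maximalIdeal R → algebraMap R (ResidueField Rh) a = 0 := fun a ha => by
      rw [IsScalarTower.algebraMap_apply R Rh (ResidueField Rh), ResidueField.algebraMap_eq, residue_eq_zero_iff]
      exact (AdicCompletion.maximalIdeal_eq_map (R := R)).ge (Ideal.mem_map_of_mem _ ha)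
    let g : (R ⧸ maximalIdeal R) →ₐ[R] ResidueField Rh :=
      Ideal.Quotient.liftₐ _ (Algebra.ofId R (ResidueField Rh)) hker
    let e : (R ⧸ maximalIdeal R) ≃ₐ[R] k := AlgEquiv.ofBijective
      (IsScalarTower.toAlgHom R (R ⧸ maximalIdeal R) k) (Ideal.bijective_algebraMap_quotient_residueField _)
    let f : F →ₐ[R] ResidueField Rh := Algebra.TensorProduct.lift (g.comp e.symm.toAlgHom)
      (IsScalarTower.toAlgHom R Rh (ResidueField Rh)) fun _ _ => Commute.all _ _
    have : Nontrivial F := f.toRingHom.domain_nontrivial
    have hbij : Function.Bijective (algebraMap k F) := by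
      refine ⟨(algebraMap k F).injective, fun z => ?_⟩
      induction z using TensorProduct.induction_on with
      | zero => exact ⟨0, map_zero _⟩
      | add a b ha hb =>
        obtain ⟨c, rfl⟩ := ha; obtain ⟨d, rfl⟩ := hb
        exact ⟨c + d, map_add _ _ _⟩
      | tmul x t =>
        obtain ⟨r, hr⟩ := (AdicCompletion.residueField_map_bijective R).2 (residue Rh t)
        obtain ⟨r, rfl⟩ := residue_surjective r
        rw [ResidueField.map_residue] at hr
        have hd : t - algebraMap R Rh r ∈ (maximalIdeal R).map (algebraMap R Rh) := by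
          rw [← AdicCompletion.maximalIdeal_eq_map (R := R)]
          exact (Ideal.Quotient.mk_eq_mk_iff_sub_mem _ _).mp hr.symm
        have hz : ∀ d ∈ (maximalIdeal R).map (algebraMap R Rh), (x ⊗ₜ d : F) = 0 := by
          intro d hd
          rw [← Submodule.restrictScalars_mem R, ← Ideal.smul_top_eq_map] at hd
          refine Submodule.smul_induction_on hd (fun a ha b _ => ?_) (fun u v hu hv => ?_)
          · have : a • x = 0 := by
              rw [Algebra.smul_def, Ideal.algebraMap_residueField_eq_zero.mpr ha, zero_mul]
            rw [TensorProduct.tmul_smul, TensorProduct.smul_tmul', this, TensorProduct.zero_tmul]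
          · rw [TensorProduct.tmul_add, hu, hv, add_zero]
        refine ⟨r • x, ?_⟩
        have := hz _ hd
        rw [TensorProduct.tmul_sub, sub_eq_zero] at this
        rw [this, Algebra.algebraMap_eq_smul_one (A := Rh), TensorProduct.tmul_smul, TensorProduct.smul_tmul']
        rfl
    have : IsNoetherianRing F :=
      isNoetherianRing_of_ringEquiv k (RingEquiv.ofBijective (algebraMap k F) hbij)
    exact ⟨‹IsNoetherianRing F›, EGA4H10.isGeometricallyRegular_of_bijective k F hbij⟩
  · have hnf : ¬ IsField R := fun hf => hq (by
      rw [IsLocalRing.isField_iff_maximalIdeal_eq] at hf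
      exact le_antisymm (le_maximalIdeal (Ideal.IsPrime.ne_top ‹_›)) (hf ▸ bot_le))
    have : IsDiscreteValuationRing R := { not_a_field' := fun h => hnf (IsLocalRing.isField_iff_maximalIdeal_eq.mpr h) }
    have hq0 : q = ⊥ := by
      by_contra h
      exact hq (eq_maximalIdeal (Ideal.IsPrime.isMaximal ‹_› h))
    subst hq0
    obtain ⟨_, _⟩ := (S0549.result R).mp ⟨inferInstance, inferInstance⟩
    have : IsNoetherianRing Rh := inferInstance
    let K := (⊥ : Ideal R).ResidueField
    let F := (⊥ : Ideal R).Fiber Rh
    have : IsFractionRing R K := inferInstance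
    have hinj : Function.Injective (algebraMap R Rh) := AdicCompletion.of_injective_iff.mpr inferInstance
    let M := Algebra.algebraMapSubmonoid Rh (nonZeroDivisors R)
    letI : Algebra Rh F := Algebra.TensorProduct.rightAlgebra
    have : IsLocalization M F := IsLocalization.tensorRight (S := Rh) (A := K) (nonZeroDivisors R)
    have hM : M ≤ nonZeroDivisors Rh := by
      rintro _ ⟨r, hr, rfl⟩
      exact mem_nonZeroDivisors_of_ne_zero ((map_ne_zero_iff _ hinj).mpr (nonZeroDivisors.ne_zero hr))
    have : IsDomain F := IsLocalization.isDomain_of_le_nonZeroDivisors (S := F) hM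
    have : IsNoetherianRing F := IsLocalization.isNoetherianRing M F inferInstance
    have hF : IsField F := by
      by_contra hF
      obtain ⟨P, hP0, hP⟩ := Ring.not_isField_iff_exists_prime.mp hF
      have hdis : Disjoint (M : Set Rh) (P.comap (algebraMap Rh F) : Set Rh) :=
        ((IsLocalization.isPrime_iff_isPrime_disjoint M F P).mp hP).2
      have h0 : P.comap (algebraMap Rh F) = ⊥ := by
        by_contra h
        have hmax := eq_maximalIdeal (Ideal.IsPrime.isMaximal (hP.comap _) h)
        obtain ⟨π, hπ, hπ0⟩ := Submodule.exists_mem_ne_zero_of_ne_bot (IsDiscreteValuationRing.not_a_field R)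
        refine Set.disjoint_left.mp hdis ⟨π, mem_nonZeroDivisors_of_ne_zero hπ0, rfl⟩ ?_
        rw [hmax, AdicCompletion.maximalIdeal_eq_map (R := R)]
        exact Ideal.mem_map_of_mem _ hπ
      exact hP0 (by rw [← IsLocalization.map_under M F P, Ideal.under_def, h0, Ideal.map_bot])
    letI := hF.toField
    refine ⟨‹IsNoetherianRing F›, fun k' _ _ _ => ?_⟩
    have : IsReduced (k' ⊗[K] F) := inferInstance
    have : Module.Finite F (F ⊗[K] k') := inferInstance
    have : IsArtinianRing F := inferInstance
    have : IsArtinianRing (F ⊗[K] k') :=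
      isArtinian_of_tower F (inferInstance : IsArtinian F (F ⊗[K] k'))
    have : IsArtinianRing (k' ⊗[K] F) :=
      (Algebra.TensorProduct.comm K F k').toRingEquiv.isArtinianRing
    exact EGA4H10.isRegularRing_of_isReduced_artinian _

theorem isExcellent_iff_geomReduced (R : Type u) [CommRing R] [IsDomain R] [IsDiscreteValuationRing R] :
    EGA4.IsExcellent R ↔
      Algebra.IsGeometricallyReduced (⊥ : Ideal R).ResidueField (EGA4.formalFibre R (⊥ : Ideal R)) := by
  constructor
  · rintro ⟨-, -, hG, -⟩
    obtain ⟨-, hgeo⟩ := (CAlg1.GR.regular_of_isGRing_local hG).2 (⊥ : Ideal R)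
    refine isGeometricallyReduced_of_forall_finite _ _ fun k' _ _ hk => ?_
    haveI : IsRegularRing (k' ⊗[(⊥ : Ideal R).ResidueField] (EGA4.formalFibre R (⊥ : Ideal R))) := hgeo k' hk
    refine isReduced_ofLocalizationMaximal _ fun P hP => ?_
    have := CAlg1.isDomain_regular (Localization.AtPrime P)
    infer_instance
  · intro hgr
    have hG : CAlg.IsGRing R := CAlg1.GR.isGRing_of_local (isRegularHom_cpl_of_geomReduced R hgr)
    have : LocCoh.IsCohenMacaulayRing R := ⟨fun p _ => by
      refine Ega11.DimEq.isCohenMacaulayLocalRing_of_dim_le_one ?_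
      rw [IsLocalization.AtPrime.ringKrullDim_eq_height p (Localization.AtPrime p)]
      exact (Ideal.height_le_ringKrullDim_of_ne_top (Ideal.IsPrime.ne_top ‹_›)).trans
        (Ring.krullDimLE_iff.mp (inferInstance : Ring.KrullDimLE 1 R))⟩
    exact ⟨inferInstance, CAlg1.isUniversallyCatenary_of_cm R, hG, Henz21.isJ2_of_isGRing R hG⟩

end Groth.Agent.NeronHD28
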