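import Groth.Prelude
import Groth.Agent.AGF80.DvrSepClosedExt
import Groth.Agent.EtAlg23.HenselBasic

/-! Complete extensions of ramification index one with separably closed residue field. -/

set_option autoImplicit false
set_option linter.style.haveILetI false
universe u

open IsLocalRing

namespace Groth.Agent.NeronHD28

/-- An extension of discrete valuation rings of ramification index one is dominated by a complete one whose
residue field is separably closed. -/
theorem exists_henselian_sepClosed_extension (R O : Type u) [CommRing R] [IsDomain R] [IsDiscreteValuationRing R]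
    [CommRing O] [IsDomain O] [IsDiscreteValuationRing O] [Algebra R O] [IsLocalHom (algebraMap R O)]
    (hm : (maximalIdeal R).map (algebraMap R O) = maximalIdeal O)
    [Algebra.IsGeometricallyReduced (ResidueField R) (ResidueField O)] :
    ∃ (C : Type u) (_ : CommRing C) (_ : IsDomain C) (_ : IsDiscreteValuationRing C) (_ : HenselianLocalRing C)
      (_ : IsSepClosed (ResidueField C)) (_ : Algebra R C) (_ : IsLocalHom (algebraMap R C))
      (ι : O →+* C) (_ : IsLocalHom ι), Function.Injective ι ∧ ι.comp (algebraMap R O) = algebraMap R C ∧
      ι.Flat ∧ (maximalIdeal R).map (algebraMap R C) = maximalIdeal C ∧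
      Algebra.IsGeometricallyReduced (ResidueField R) (ResidueField C) := by
  obtain ⟨S, _, _, _, _, _⟩ := S0537.result O
  have : IsDomain S := Strict24.isDomain_strictHenselization O S
  have : IsDiscreteValuationRing S := Strict24.isDiscreteValuationRing O S
  obtain ⟨C, _, _, _, j, _, hcompl, hmap, hbij⟩ := AGF80.exists_completion_dvr S
  haveI : HenselianRing C (maximalIdeal C) := IsAdicComplete.henselianRing C _
  haveI hCh : HenselianLocalRing C := EtAlg23.henselianLocalRing_of_henselianRing (R := C)
  let ι : O →+* C := j.comp (algebraMap O S)
  have : IsLocalHom ι := RingHom.isLocalHom_comp _ _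
  letI : Algebra R S := ((algebraMap O S).comp (algebraMap R O)).toAlgebra
  letI : Algebra R C := (ι.comp (algebraMap R O)).toAlgebra
  haveI : IsScalarTower R O S := IsScalarTower.of_algebraMap_eq fun _ => rfl
  haveI hRS : IsLocalHom (algebraMap R S) := RingHom.isLocalHom_comp (algebraMap O S) (algebraMap R O)
  haveI hRC : IsLocalHom (algebraMap R C) := RingHom.isLocalHom_comp ι (algebraMap R O)
  have hmOC : (maximalIdeal O).map ι = maximalIdeal C := by
    rw [← Ideal.map_map, S0538.result O S, hmap]
  have hinj : Function.Injective ι := by
    obtain ⟨ϖ, hϖ⟩ := IsDiscreteValuationRing.exists_irreducible O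
    rw [injective_iff_map_eq_zero]
    intro r hr
    by_contra hr0
    obtain ⟨n, u, rfl⟩ := IsDiscreteValuationRing.eq_unit_mul_pow_irreducible hr0 hϖ
    rw [map_mul, map_pow] at hr
    refine pow_ne_zero n ?_ ((IsUnit.mul_right_eq_zero (u.isUnit.map ι)).mp hr)
    intro h0
    refine IsDiscreteValuationRing.not_a_field C ?_
    rw [← hmOC, hϖ.maximalIdeal_eq, Ideal.map_span, Set.image_singleton, Ideal.span_singleton_eq_bot]
    exact h0
  have hflat : ι.Flat := by
    letI : Algebra O C := ι.toAlgebra
    haveI : FaithfulSMul O C := (faithfulSMul_iff_algebraMap_injective O C).2 hinj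
    show Module.Flat O C
    infer_instance
  have hsep : IsSepClosed (ResidueField S) :=
    (Hensel.IsStrictHenselization.isSepClosure (R := O) (S := S)).sep_closed
  let e : ResidueField S ≃+* ResidueField C := RingEquiv.ofBijective _ hbij
  have hsepC : IsSepClosed (ResidueField C) :=
    ⟨fun p hp => by
      have := IsSepClosed.splits_of_separable
        (p.map (e.symm : ResidueField C →+* ResidueField S)) hp.map
      have h2 := this.map (e : ResidueField S →+* ResidueField C)
      rwa [Polynomial.map_map, RingEquiv.comp_symm, Polynomial.map_id] at h2⟩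
  let k := ResidueField R
  let κ := ResidueField O
  let L := ResidueField S
  haveI : Algebra.IsSeparable κ L :=
    (Hensel.IsStrictHenselization.isSepClosure (R := O) (S := S)).separable
  haveI : Algebra.FormallyEtale κ L := Algebra.FormallyEtale.of_isSeparable κ L
  haveI : Algebra.IsGeometricallyReduced κ L :=
    Sep12.formallySmooth_iff_isGeometricallyReduced.mp inferInstance
  haveI : IsScalarTower k κ L := IsScalarTower.of_algebraMap_eq fun x => by
    obtain ⟨x, rfl⟩ := residue_surjective x
    rfl
  haveI hL : Algebra.IsGeometricallyReduced k L := Alg80.isGeometricallyReduced_trans k κ L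
  let e' : ResidueField C →ₐ[k] L := { e.symm.toRingHom with
    commutes' := fun c => by
      show e.symm (algebraMap k (ResidueField C) c) = algebraMap k L c
      rw [RingEquiv.symm_apply_eq]
      obtain ⟨c, rfl⟩ := residue_surjective c
      rfl }
  refine ⟨C, inferInstance, inferInstance, inferInstance, hCh, hsepC, inferInstance, hRC, ι, inferInstance,
    hinj, rfl, hflat, ?_, Algebra.IsGeometricallyReduced.of_injective e' e.symm.injective⟩
  show (maximalIdeal R).map (ι.comp (algebraMap R O)) = _
  rw [← Ideal.map_map, hm, hmOC]

end Groth.Agent.NeronHD28
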