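import Mathlib.RingTheory.DedekindDomain.IntegralClosure
import Mathlib.RingTheory.Etale.Field
import Mathlib.RingTheory.Localization.Integral
import Mathlib.RingTheory.TensorProduct.Finite
import Groth.Agent.NormY57.Algebra

/-! Integral closures of normal domains in finite étale algebras over the fraction field. -/

set_option autoImplicit false
set_option linter.style.haveILetI false
universe u

open scoped nonZeroDivisors

namespace Groth.Agent.NeronHD28

/-- The integral closure in an algebra embedded in finitely many finite separable extensions. -/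
theorem finite_integralClosure_of_pi_separable (A K : Type u) [CommRing A] [IsDomain A] [IsNoetherianRing A]
    [IsIntegrallyClosed A] [Field K] [Algebra A K] [IsFractionRing A K]
    {B : Type u} [CommRing B] [Algebra A B] {ι : Type u} [Finite ι]
    (L : ι → Type u) [∀ i, Field (L i)] [∀ i, Algebra K (L i)] [∀ i, Module.Finite K (L i)]
    [∀ i, Algebra.IsSeparable K (L i)] (φ : ∀ i, B →+* L i)
    (hφ : ∀ i a, φ i (algebraMap A B a) = algebraMap K (L i) (algebraMap A K a))
    (hinj : ∀ b : B, (∀ i, φ i b = 0) → b = 0) : Module.Finite A (integralClosure A B) := by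
  let _ : ∀ i, Algebra A (L i) := fun i => ((algebraMap K (L i)).comp (algebraMap A K)).toAlgebra
  haveI : ∀ i, IsScalarTower A K (L i) := fun i => IsScalarTower.of_algebraMap_eq' rfl
  haveI : ∀ i, Module.Finite A (integralClosure A (L i)) := fun i =>
    IsIntegralClosure.finite A K (L i) (integralClosure A (L i))
  let ψ : ∀ i, B →ₐ[A] L i := fun i => { φ i with commutes' := fun a => hφ i a }
  let G : integralClosure A B →ₗ[A] ∀ i, integralClosure A (L i) :=
    LinearMap.pi fun i => ((ψ i).comp (integralClosure A B).val).toLinearMap.codRestrict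
      (Subalgebra.toSubmodule (integralClosure A (L i))) fun x => x.2.map (ψ i)
  haveI : IsNoetherian A (∀ i, integralClosure A (L i)) := isNoetherian_of_isNoetherianRing_of_finite A _
  refine Module.Finite.of_injective G fun x y h => Subtype.ext (sub_eq_zero.1 (hinj _ fun i => ?_))
  have := congrArg Subtype.val (congrFun h i)
  rw [map_sub, sub_eq_zero]
  exact this

/-- An algebraic algebra over the fraction field is a localization of the integral closure. -/
theorem isLocalization_integralClosure (A K L : Type u) [CommRing A] [IsDomain A] [Field K] [CommRing L]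
    [Algebra A K] [IsFractionRing A K] [Algebra K L] [Algebra A L] [IsScalarTower A K L]
    [Algebra.IsIntegral K L] :
    IsLocalization (Algebra.algebraMapSubmonoid (integralClosure A L) A⁰) L where
  map_units := by
    rintro ⟨_, a, ha, rfl⟩
    rw [← IsScalarTower.algebraMap_apply A (integralClosure A L) L, IsScalarTower.algebraMap_apply A K L]
    exact (IsLocalization.map_units K ⟨a, ha⟩).map (algebraMap K L)
  surj x := by
    obtain ⟨⟨a, ha⟩, h⟩ :=
      IsIntegral.exists_multiple_integral_of_isLocalization A⁰ (Rₘ := K) x (Algebra.IsIntegral.isIntegral x)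
    refine ⟨⟨⟨a • x, h⟩, ⟨algebraMap A (integralClosure A L) a, a, ha, rfl⟩⟩, ?_⟩
    show x * algebraMap A L a = a • x
    rw [Algebra.smul_def, mul_comm]
  exists_of_eq h := ⟨1, by rw [Subtype.ext h]⟩

theorem finite_integralClosure_etale (A K L : Type u) [CommRing A] [IsDomain A] [IsNoetherianRing A]
    [IsIntegrallyClosed A] [Field K] [CommRing L] [Algebra A K] [IsFractionRing A K] [Algebra K L]
    [Algebra A L] [IsScalarTower A K L] [Module.Finite K L] [Algebra.FormallyEtale K L] :
    Module.Finite A (integralClosure A L) := by
  obtain ⟨I, _, Li, _, _, e, _⟩ := (Algebra.FormallyEtale.iff_exists_algEquiv_prod (K := K) (A := L)).1 inferInstance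
  haveI : ∀ i, Module.Finite K (Li i) := fun i =>
    Module.Finite.of_surjective ((LinearMap.proj i).comp e.toLinearMap) fun y => by
      classical
      obtain ⟨x, hx⟩ := e.surjective (Pi.single i y)
      exact ⟨x, by simp [hx]⟩
  refine finite_integralClosure_of_pi_separable A K Li (fun i => (Pi.evalRingHom _ i).comp e.toRingHom)
    (fun i a => ?_) fun b hb => e.injective ?_
  · show e (algebraMap A L a) i = _
    rw [IsScalarTower.algebraMap_apply A K L, e.commutes]
    rfl
  · rw [map_zero]
    exact funext hb

/-- The integral closure in a finite étale algebra is locally a normal domain. -/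
theorem normal_localization_integralClosure (A K L : Type u) [CommRing A] [IsDomain A]
    [Field K] [CommRing L] [Algebra A K] [IsFractionRing A K] [Algebra K L]
    [Algebra A L] [IsScalarTower A K L] [Module.Finite K L] [Algebra.FormallyEtale K L]
    (p : Ideal (integralClosure A L)) [p.IsPrime] :
    IsDomain (Localization.AtPrime p) ∧ IsIntegrallyClosed (Localization.AtPrime p) := by
  classical
  obtain ⟨I, _, Li, _, _, e, _⟩ := (Algebra.FormallyEtale.iff_exists_algEquiv_prod (K := K) (A := L)).1 inferInstance
  haveI := Fintype.ofFinite I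
  letI : ∀ i, Algebra A (Li i) := fun i => ((algebraMap K (Li i)).comp (algebraMap A K)).toAlgebra
  haveI : ∀ i, IsScalarTower A K (Li i) := fun i => IsScalarTower.of_algebraMap_eq' rfl
  let eA : L ≃ₐ[A] ∀ i, Li i := e.restrictScalars A
  have hint : ∀ i (d : Li i), IsIntegral A d → IsIntegral A (eA.symm (Pi.single i d)) := fun i d hd => by
    refine IsIntegral.map eA.symm.toAlgHom ?_
    obtain ⟨q, hq, hqd⟩ := hd
    refine ⟨Polynomial.X * q, Polynomial.monic_X.mul hq, ?_⟩
    funext j
    have h1 : Polynomial.aeval (Pi.single i d) (Polynomial.X * q) j =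
        Polynomial.aeval ((Pi.single i d : ∀ i, Li i) j) (Polynomial.X * q) :=
      (Polynomial.aeval_algHom_apply (Pi.evalAlgHom A Li j) (Pi.single i d) _).symm
    refine h1.trans ?_
    rw [map_mul, Polynomial.aeval_X]
    by_cases hj : j = i
    · subst hj
      rw [Pi.single_eq_same, show Polynomial.aeval d q = 0 from hqd, mul_zero]
      rfl
    · rw [Pi.single_eq_of_ne hj, zero_mul]
      rfl
  let t : I → integralClosure A L := fun i => ⟨eA.symm (Pi.single i 1), hint i 1 isIntegral_one⟩
  obtain ⟨i, hi⟩ : ∃ i, t i ∉ p := by
    by_contra h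
    push Not at h
    refine ‹p.IsPrime›.ne_top ((Ideal.eq_top_iff_one p).2 ?_)
    have h1 : ∑ i, t i = 1 := Subtype.ext (eA.injective (by
      rw [AddSubmonoidClass.coe_finsetSum, map_sum]
      simp only [t, AlgEquiv.apply_symm_apply, OneMemClass.coe_one, map_one]
      exact Finset.univ_sum_single 1))
    exact h1 ▸ Ideal.sum_mem p fun i _ => h i
  haveI : Module.Finite K (Li i) :=
    Module.Finite.of_surjective ((LinearMap.proj i).comp e.toLinearMap) fun y => by
      obtain ⟨x, hx⟩ := e.surjective (Pi.single i y)
      exact ⟨x, by simp [hx]⟩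
  haveI : IsIntegrallyClosed (integralClosure A (Li i)) :=
    integralClosure.isIntegrallyClosedOfFiniteExtension K
  let ψ : integralClosure A L →+* integralClosure A (Li i) :=
    (((Pi.evalAlgHom A Li i).comp eA.toAlgHom).comp (integralClosure A L).val).toRingHom.codRestrict
      (integralClosure A (Li i)) fun x => x.2.map ((Pi.evalAlgHom A Li i).comp eA.toAlgHom)
  have hsurj : Function.Surjective ψ := fun d => ⟨⟨eA.symm (Pi.single i d.1), hint i d.1 d.2⟩, Subtype.ext (by
    show eA (eA.symm (Pi.single i d.1)) i = d.1
    rw [eA.apply_symm_apply, Pi.single_eq_same])⟩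
  refine NormY57.normal_localization ψ (fun d _ => hsurj d) p (Localization.AtPrime p) fun r hr => ?_
  refine ⟨t i, hi, Subtype.ext (eA.injective ?_)⟩
  have hr0 : eA r.1 i = 0 := congrArg Subtype.val hr
  show eA (eA.symm (Pi.single i 1) * r.1) = eA 0
  rw [map_mul, eA.apply_symm_apply, map_zero]
  funext j
  by_cases hj : j = i
  · subst hj; rw [Pi.mul_apply, hr0, mul_zero]; rfl
  · rw [Pi.mul_apply, Pi.single_eq_of_ne hj, zero_mul]; rfl

end Groth.Agent.NeronHD28
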