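import Groth.Prelude
import Groth.Agent.Loc57.StdLocal
import Groth.Agent.An92.Rat.SchDenseOps
import Mathlib.RingTheory.Smooth.StandardSmoothOfFree

/-! A smooth morphism which is étale on a dense open is étale. -/

set_option autoImplicit false
set_option linter.style.haveILetI false
universe u

open CategoryTheory CategoryTheory.Limits AlgebraicGeometry

namespace Groth.Agent.NeronHD28

theorem etale_of_standardSmooth_of_unramified_away {A B C : Type u} [CommRing A] [CommRing B]
    [CommRing C] [Algebra A B] [Algebra B C] [Algebra A C] [IsScalarTower A B C]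
    [Algebra.IsStandardSmooth A B] (s : B) [IsLocalization.Away s C] [Nontrivial C]
    [Algebra.FormallyUnramified A C] : Algebra.Etale A B := by
  obtain ⟨ι, σ, _, _, ⟨P⟩⟩ := Algebra.IsStandardSmooth.out (R := A) (S := B)
  haveI hn : Algebra.IsStandardSmoothOfRelativeDimension P.dimension A B := ⟨_, _, _, inferInstance, P, rfl⟩
  haveI : Algebra.IsStandardSmoothOfRelativeDimension 0 B C :=
    Algebra.IsStandardSmoothOfRelativeDimension.localization_away s
  haveI : Algebra.IsStandardSmoothOfRelativeDimension (0 + P.dimension) A C :=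
    Algebra.IsStandardSmoothOfRelativeDimension.trans (n := P.dimension) (m := 0) A B C
  have h := Algebra.IsStandardSmoothOfRelativeDimension.rank_kaehlerDifferential
    (R := A) (S := C) (0 + P.dimension)
  rw [rank_subsingleton' C (Ω[C⁄A]), zero_add] at h
  have h0 : P.dimension = 0 := by exact_mod_cast h.symm
  rw [Algebra.Etale.iff_isStandardSmoothOfRelativeDimension_zero]
  exact h0 ▸ hn

variable {X S : Scheme.{u}} (f : X ⟶ S)

theorem etale_of_smooth_of_dense [Smooth f] (O : X.Opens) (hO : Dense (O : Set X))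
    [hOe : Etale (O.ι ≫ f)] : Etale f := by
  have key : ∀ x : X, ∃ W : X.Opens, x ∈ W ∧ Etale (W.ι ≫ f) := by
    intro x
    obtain ⟨U, hU, V, hV, hx, e, hstd⟩ := Smooth.exists_isStandardSmooth f x
    refine ⟨V, hx, (Loc57.iff_ringHom f (P := @Etale) Loc57.etale_src V hV U hU e).2 ?_⟩
    obtain ⟨y, hyV, hyO⟩ := hO.inter_open_nonempty V V.2 ⟨x, hx⟩
    obtain ⟨s, hsle, hys⟩ := hV.exists_basicOpen_le (V := O) ⟨y, hyO⟩ hyV
    have hVs : IsAffineOpen (X.basicOpen s) := hV.basicOpen s
    have e' : X.basicOpen s ≤ f ⁻¹ᵁ U := (X.basicOpen_le s).trans e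
    haveI : Etale ((X.basicOpen s).ι ≫ f) := by
      rw [← X.homOfLE_ι hsle, Category.assoc]
      infer_instance
    have het : (f.appLE U (X.basicOpen s) e').hom.Etale :=
      (Loc57.iff_ringHom f (P := @Etale) Loc57.etale_src _ hVs U hU e').1 inferInstance
    letI := (f.appLE U V e).hom.toAlgebra
    letI := (f.appLE U (X.basicOpen s) e').hom.toAlgebra
    haveI : IsScalarTower Γ(S, U) Γ(X, V) Γ(X, X.basicOpen s) :=
      .of_algebraMap_eq' (by
        show (f.appLE U (X.basicOpen s) e').hom = _
        rw [← f.appLE_map e (homOfLE (X.basicOpen_le s)).op]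
        rfl)
    haveI := hV.isLocalization_basicOpen s
    haveI : Algebra.IsStandardSmooth Γ(S, U) Γ(X, V) := hstd
    haveI : Algebra.Etale Γ(S, U) Γ(X, X.basicOpen s) := het
    haveI : Nonempty (X.basicOpen s) := ⟨⟨y, hys⟩⟩
    haveI : Nontrivial Γ(X, X.basicOpen s) := inferInstance
    exact etale_of_standardSmooth_of_unramified_away (A := Γ(S, U)) (B := Γ(X, V))
      (C := Γ(X, X.basicOpen s)) s
  choose W hW hWe using key
  rw [IsZariskiLocalAtSource.iff_of_openCover (P := @Etale)
    (X.openCoverOfIsOpenCover W (by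
      rw [TopologicalSpace.IsOpenCover, eq_top_iff]
      exact fun x _ => TopologicalSpace.Opens.mem_iSup.2 ⟨x, hW x⟩))]
  exact hWe

/-- A flat morphism pulls a schematically dense open of the target back to a dense one. -/
theorem dense_preimage_of_flat [IsLocallyNoetherian S] [LocallyOfFiniteType f] [Flat f] {U : S.Opens}
    (hU : CInt.IsSchematicallyDense U) : Dense ((f ⁻¹ᵁ U : X.Opens) : Set X) :=
  haveI := LocallyOfFiniteType.isLocallyNoetherian f
  An92.Rat.dense_of_schDense (An92.Rat.schDense_preimage_of_flat f hU)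

theorem etale_of_smooth_of_etale_restrict [IsLocallyNoetherian S] [Smooth f] {U : S.Opens}
    (hU : CInt.IsSchematicallyDense U) [Etale (f ∣_ U)] : Etale f := by
  haveI : Etale ((f ⁻¹ᵁ U).ι ≫ f) := by
    rw [← morphismRestrict_ι]
    infer_instance
  exact etale_of_smooth_of_dense f _ (dense_preimage_of_flat f hU)

end Groth.Agent.NeronHD28
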