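import Groth.Prelude
import Groth.Agent.NeronHD28.GenericEtale
import Groth.Agent.SGA3a.SchemDense

/-! Separated étale morphisms which are monomorphisms over a schematically dense open. -/

set_option autoImplicit false
set_option linter.style.haveILetI false
universe u

open CategoryTheory CategoryTheory.Limits AlgebraicGeometry

namespace Groth.Agent.NeronHD28

theorem isOpenImmersion_of_etale_separated_dense {X Y : Scheme.{u}} (f : X ⟶ Y) [IsLocallyNoetherian X]
    [Etale f] [IsSeparated f] (U : X.Opens) (hU : CInt.IsSchematicallyDense U)
    (hmono : ∀ {T : Scheme.{u}} (a b : T ⟶ X), (∀ t, a.base t ∈ U) → a ≫ f = b ≫ f → a = b) :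
    IsOpenImmersion f := by
  haveI : Flat (pullback.fst f f) := inferInstance
  have h2 := An92.Rat.schDense_preimage_of_flat (pullback.fst f f) hU
  let D := (pullback.fst f f) ⁻¹ᵁ U
  let k : (D : Scheme.{u}) ⟶ X := D.ι ≫ pullback.fst f f
  have hk : k ≫ pullback.diagonal f = D.ι := by
    refine pullback.hom_ext ?_ ?_
    · simp [k]
    · simp only [k, Category.assoc, pullback.diagonal_snd, Category.comp_id]
      refine hmono _ _ (fun t => (Scheme.Opens.range_ι D).le ⟨t, rfl⟩) ?_
      simp only [Category.assoc]
      rw [pullback.condition]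
  haveI : IsClosedImmersion (pullback.diagonal f) := IsSeparated.diagonal_isClosedImmersion
  haveI := SGA3a.isIso_of_schemDense (pullback.diagonal f) D h2 k hk
  haveI : Mono f := (pullback.isIso_diagonal_iff f).1 inferInstance
  exact IsOpenImmersion.of_flat_of_mono f

end Groth.Agent.NeronHD28
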