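import Groth.Prelude
import Groth.Agent.NeronHD28.EtaleClosure
import Groth.Agent.LimTop61.FiniteBirational
import Groth.Agent.An92.Rat.SectionExt
import Mathlib.AlgebraicGeometry.Normalization
import Mathlib.AlgebraicGeometry.Morphisms.Etale
import Mathlib.RingTheory.Flat.Basic

/-! The normalization of a normal scheme in an étale scheme over it is finite. -/

set_option autoImplicit false
set_option linter.style.haveILetI false
universe u

open CategoryTheory CategoryTheory.Limits AlgebraicGeometry TensorProduct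

namespace Groth.Agent.NeronHD28

theorem finite_of_etale_field (K L : Type u) [Field K] [CommRing L] [Algebra K L] [Algebra.Etale K L] :
    Module.Finite K L :=
  Module.Finite.of_quasiFinite

/-- Integral closure in an algebra embedded in finitely many étale algebras. -/
theorem finite_integralClosure_of_etale_cover (A : Type u) [CommRing A] [IsDomain A] [IsNoetherianRing A]
    [IsIntegrallyClosed A] {B : Type u} [CommRing B] [Algebra A B] {ι : Type u} [Finite ι]
    (C : ι → Type u) [∀ i, CommRing (C i)] [∀ i, Algebra A (C i)] [∀ i, Algebra.Etale A (C i)]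
    (φ : ∀ i, B →ₐ[A] C i) (hinj : ∀ b : B, (∀ i, φ i b = 0) → b = 0) :
    Module.Finite A (integralClosure A B) := by
  let K := FractionRing A
  haveI : ∀ i, Module.Finite K (K ⊗[A] C i) := fun i => finite_of_etale_field K _
  haveI : ∀ i, Algebra.Etale K (K ⊗[A] C i) := fun i => inferInstance
  haveI : ∀ i, Module.Finite A (integralClosure A (K ⊗[A] C i)) := fun i =>
    finite_integralClosure_etale A K _
  let ψ : ∀ i, B →ₐ[A] K ⊗[A] C i := fun i => Algebra.TensorProduct.includeRight.comp (φ i)
  let G : integralClosure A B →ₗ[A] ∀ i, integralClosure A (K ⊗[A] C i) :=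
    LinearMap.pi fun i => ((ψ i).comp (integralClosure A B).val).toLinearMap.codRestrict
      (Subalgebra.toSubmodule (integralClosure A (K ⊗[A] C i))) fun x => x.2.map (ψ i)
  haveI : IsNoetherian A (∀ i, integralClosure A (K ⊗[A] C i)) := isNoetherian_of_isNoetherianRing_of_finite A _
  refine Module.Finite.of_injective G fun x y h => Subtype.ext (sub_eq_zero.1 (hinj _ fun i => ?_))
  have h1 : ψ i x.1 = ψ i y.1 := congrArg Subtype.val (congrFun h i)
  rw [map_sub, sub_eq_zero]
  exact Algebra.TensorProduct.includeRight_injective (IsFractionRing.injective A K) h1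

variable {X S : Scheme.{u}} (f : X ⟶ S)

theorem finite_app_fromNormalization_of_etale [Etale f] [QuasiCompact f] [QuasiSeparated f]
    [IsLocallyNoetherian S] (hS : Pi1.IsNormalScheme S) (U : S.Opens) (hU : IsAffineOpen U)
    [IsIntegral (U : Scheme.{u})] : (f.fromNormalization.app U).hom.Finite := by
  let := (f.app U).hom.toAlgebra
  suffices Module.Finite Γ(S, U) (integralClosure Γ(S, U) Γ(X, f ⁻¹ᵁ U)) by
    rw [f.fromNormalization_app hU]
    exact RingHom.Finite.comp (RingHom.Finite.of_surjective _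
      (ConcreteCategory.bijective_of_isIso (f.normalizationObjIso hU).inv).2) (RingHom.finite_algebraMap.2 this)
  haveI : IsNoetherianRing Γ(S, U) := IsLocallyNoetherian.component_noetherian ⟨U, hU⟩
  haveI : IsAffine (U : Scheme.{u}) := hU
  haveI : IsDomain Γ((U : Scheme.{u}), ⊤) := inferInstance
  haveI : IsDomain Γ(S, U) := U.topIso.commRingCatIsoToRingEquiv.symm.toMulEquiv.isDomain _
  haveI : IsIntegrallyClosed Γ((U : Scheme.{u}), ⊤) := by
    haveI : Nonempty (⊤ : (U : Scheme.{u}).Opens) :=
      (inferInstance : Nonempty (U : Scheme.{u})).map fun x => ⟨x, trivial⟩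
    refine LimTop61.isIntegrallyClosed_affineOpen (fun w => ?_) (isAffineOpen_top _)
    haveI := (hS (U.ι w)).2
    exact IsIntegrallyClosed.of_equiv (asIso (U.ι.stalkMap w)).commRingCatIsoToRingEquiv
  haveI : IsIntegrallyClosed Γ(S, U) := IsIntegrallyClosed.of_equiv U.topIso.commRingCatIsoToRingEquiv
  obtain ⟨s, hs, e⟩ := (isCompact_and_isOpen_iff_finite_and_eq_biUnion_affineOpens (U := ((f ⁻¹ᵁ U : X.Opens) : Set X))).1
    ⟨f.isCompact_preimage hU.isCompact, (f ⁻¹ᵁ U).2⟩
  haveI : Finite s := hs.to_subtype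
  have hle : ∀ V : s, (V.1.1 : X.Opens) ≤ f ⁻¹ᵁ U := fun V x hx => by
    show x ∈ ((f ⁻¹ᵁ U : X.Opens) : Set X)
    rw [e]
    exact Set.mem_iUnion₂.2 ⟨V.1, V.2, hx⟩
  let _ : ∀ V : s, Algebra Γ(S, U) Γ(X, V.1.1) := fun V => (f.appLE U V.1.1 (hle V)).hom.toAlgebra
  haveI : ∀ V : s, Algebra.Etale Γ(S, U) Γ(X, V.1.1) := fun V => f.etale_appLE hU V.1.2 (hle V)
  refine finite_integralClosure_of_etale_cover Γ(S, U) (B := Γ(X, f ⁻¹ᵁ U)) (fun V : s => Γ(X, V.1.1))
    (fun V => { (X.presheaf.map (homOfLE (hle V)).op).hom with commutes' := fun a => rfl }) fun b hb => ?_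
  refine X.sheaf.eq_of_locally_eq' (fun V : s => V.1.1) (f ⁻¹ᵁ U) (fun V => homOfLE (hle V)) ?_ b 0 fun V => ?_
  · intro x hx
    have hx' : x ∈ ((f ⁻¹ᵁ U : X.Opens) : Set X) := hx
    rw [e] at hx'
    obtain ⟨V, hV, hxV⟩ := Set.mem_iUnion₂.1 hx'
    exact TopologicalSpace.Opens.mem_iSup.2 ⟨⟨V, hV⟩, hxV⟩
  · rw [map_zero]
    exact hb V

set_option backward.isDefEq.respectTransparency false in
set_option backward.defeqAttrib.useBackward true in
theorem isFinite_fromNormalization_of_etale [Etale f] [QuasiCompact f] [QuasiSeparated f]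
    [IsLocallyNoetherian S] (hS : Pi1.IsNormalScheme S) : IsFinite f.fromNormalization := by
  have hW : ∀ y : S, ∃ W : S.Opens, IsAffineOpen W ∧ y ∈ W ∧ IsIntegral (W : Scheme.{u}) := fun y => by
    haveI := (hS y).1
    exact An92.Rat.exists_integral_nhd y
  choose W hWa hyW hWi using hW
  refine (IsZariskiLocalAtTarget.iff_of_iSup_eq_top (P := @IsFinite) W (by
    rw [eq_top_iff]
    exact fun y _ => TopologicalSpace.Opens.mem_iSup.2 ⟨y, hyW y⟩)).2 fun y => ?_
  haveI : IsAffine (W y : Scheme.{u}) := hWa y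
  haveI := hWi y
  refine (HasAffineProperty.iff_of_isAffine (P := @IsFinite)).2 ⟨(hWa y).preimage _, ?_⟩
  have h' : ∀ V : S.Opens, V = W y → (f.fromNormalization.app V).hom.Finite := fun V hV => by
    subst hV
    exact finite_app_fromNormalization_of_etale f hS _ (hWa y)
  have h := h' _ (W y).ι_image_top
  simp only [Scheme.Hom.appTop, morphismRestrict_app]
  exact RingHom.Finite.comp (RingHom.Finite.of_surjective _ (ConcreteCategory.bijective_of_isIso _).2) h

end Groth.Agent.NeronHD28
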