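import Groth.Agent.NeronHD28.Transfer
import Groth.Agent.AlgGrp79.KernelPts
import Groth.Agent.AlgGrp79.Pullback
import Groth.Agent.Unr55.DescProps
import Groth.Agent.SchBasics.FPCancel
import Mathlib.AlgebraicGeometry.Morphisms.LocalFlatDescent
import Mathlib.AlgebraicGeometry.Morphisms.FlatDescent

/-! Mapping properties of group extensions. -/

set_option autoImplicit false
universe u

open CategoryTheory CategoryTheory.Limits AlgebraicGeometry MonoidalCategory CartesianMonoidalCategory MonObj

namespace Groth.Agent.NeronHD28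

variable {S T : Scheme.{u}}

theorem restrMap_naturality (b : T ⟶ S) {Z' Z : Over S} (q : Z' ⟶ Z) :
    (Over.map b).map ((Over.pullback b).map q) ≫ restrMap b Z = restrMap b Z' ≫ q :=
  (Over.mapPullbackAdj b).counit.naturality q

/-- Existence of extensions descends along smooth surjections. -/
theorem exists_of_smooth_cover (b : T ⟶ S) {B Z Z' : Over S} (π : Z' ⟶ Z) [Smooth π.left] [Surjective π.left]
    (hZ : Smooth Z.hom)
    (huniq : ∀ W : Over S, Smooth W.hom → Function.Injective (fun g : W ⟶ B => restrMap b W ≫ g))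
    (w : (Over.map b).obj ((Over.pullback b).obj Z) ⟶ B) (h' : Z' ⟶ B)
    (hh' : restrMap b Z' ≫ h' = (Over.map b).map ((Over.pullback b).map π) ≫ w) :
    ∃ g : Z ⟶ B, restrMap b Z ≫ g = w := by
  let L := Over.pullback b ⋙ Over.map b
  have hnat : ∀ {X' X : Over S} (q : X' ⟶ X), L.map q ≫ restrMap b X = restrMap b X' ≫ q :=
    fun q => restrMap_naturality b q
  have hepi : EffectiveEpi π.left := inferInstance
  let Z'' : Over S := Over.mk (pullback.fst π.left π.left ≫ Z'.hom)
  let π₁ : Z'' ⟶ Z' := Over.homMk (pullback.fst _ _)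
  let π₂ : Z'' ⟶ Z' := Over.homMk (pullback.snd _ _) (by
    show pullback.snd π.left π.left ≫ Z'.hom = pullback.fst π.left π.left ≫ Z'.hom
    rw [← Over.w π, ← Category.assoc, ← Category.assoc, pullback.condition])
  have : Smooth Z''.hom := by
    have : Smooth Z'.hom := by rw [← Over.w π]; infer_instance
    exact inferInstanceAs (Smooth (pullback.fst π.left π.left ≫ Z'.hom))
  have hπ : π₁ ≫ π = π₂ ≫ π := by ext : 1; exact pullback.condition
  have heq : π₁ ≫ h' = π₂ ≫ h' := huniq Z'' ‹_› (by
    show restrMap b Z'' ≫ π₁ ≫ h' = restrMap b Z'' ≫ π₂ ≫ h'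
    rw [← Category.assoc, ← Category.assoc (restrMap b Z''), ← hnat π₁, ← hnat π₂, Category.assoc, Category.assoc,
      hh', ← Category.assoc, ← Category.assoc]
    show (L.map π₁ ≫ L.map π) ≫ w = (L.map π₂ ≫ L.map π) ≫ w
    rw [← L.map_comp, ← L.map_comp, hπ])
  have hd : ∀ {W : Scheme.{u}} (g₁ g₂ : W ⟶ Z'.left), g₁ ≫ π.left = g₂ ≫ π.left → g₁ ≫ h'.left = g₂ ≫ h'.left := by
    intro W g₁ g₂ hgg
    have h1 : (π₁ ≫ h').left = (π₂ ≫ h').left := congrArg Over.Hom.left heq
    rw [← pullback.lift_fst g₁ g₂ hgg, Category.assoc]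
    conv_rhs => rw [← pullback.lift_snd g₁ g₂ hgg, Category.assoc]
    exact congrArg (pullback.lift g₁ g₂ hgg ≫ ·) h1
  let k : Z.left ⟶ B.left := EffectiveEpi.desc π.left h'.left hd
  have hk : π.left ≫ k = h'.left := EffectiveEpi.fac _ _ _
  have hkw : k ≫ B.hom = Z.hom := (cancel_epi π.left).1 (by rw [← Category.assoc, hk, Over.w h', Over.w π])
  refine ⟨Over.homMk k hkw, ?_⟩
  have hqk : π ≫ Over.homMk k hkw = h' := by ext : 1; exact hk
  have : Flat (L.map π).left := MorphismProperty.of_isPullback (P := @Flat) (restrSquare b π)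
    (inferInstanceAs (Flat π.left))
  have : Surjective (L.map π).left := MorphismProperty.of_isPullback (P := @Surjective) (restrSquare b π)
    (inferInstanceAs (Surjective π.left))
  have : LocallyOfFinitePresentation (L.map π).left := MorphismProperty.of_isPullback
    (P := @LocallyOfFinitePresentation) (restrSquare b π) (inferInstanceAs (LocallyOfFinitePresentation π.left))
  ext : 1
  refine (cancel_epi (L.map π).left).1 (congrArg Over.Hom.left (show L.map π ≫ restrMap b Z ≫ _ = L.map π ≫ w from ?_))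
  rw [← Category.assoc, hnat, Category.assoc, hqk]
  exact hh'

/-- A flat surjective homomorphism with smooth kernel is smooth. -/
theorem smooth_left_of_isKernel {N G Q : Over S} [GrpObj G] [GrpObj Q] [LocallyOfFinitePresentation G.hom]
    [LocallyOfFiniteType Q.hom]
    (i : N ⟶ G) (q : G ⟶ Q) [IsMonHom q] [Flat q.left] [Surjective q.left]
    (hker : AlgGrp.IsKernel i q) [Smooth N.hom] : Smooth q.left := by
  have hlfp : LocallyOfFinitePresentation q.left :=
    have : LocallyOfFinitePresentation (q.left ≫ Q.hom) := by rw [Over.w]; infer_instance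
    SchBasics.locallyOfFinitePresentation_of_comp q.left Q.hom
  exact MorphismProperty.of_isPullback_of_descendsAlong (P := @Smooth)
    (Q := @Surjective ⊓ @Flat ⊓ @LocallyOfFinitePresentation)
    (AlgGrp79.isPullback_left (AlgGrp79.isPullback_kernel_torsor i q hker)).flip
    ⟨⟨‹_›, ‹_›⟩, hlfp⟩ (MorphismProperty.pullback_snd (P := @Smooth) _ _ ‹_›)

theorem smoothExt_of_extension (b : T ⟶ S) {A B C : Over S} [GrpObj A] [GrpObj B] [GrpObj C]
    (i : A ⟶ B) (q : B ⟶ C) [IsMonHom q] (hker : AlgGrp.IsKernel i q)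
    [Smooth q.left] [Surjective q.left] (hA : SmoothExt b A) (hC : SmoothExt b C) : SmoothExt b B := by
  have hi := AlgGrp79.mono_of_isKernel hker
  let L := Over.pullback b ⋙ Over.map b
  have hnat : ∀ {X' X : Over S} (f : X' ⟶ X), L.map f ≫ restrMap b X = restrMap b X' ≫ f :=
    fun f => restrMap_naturality b f
  have hinj : ∀ W : Over S, Smooth W.hom → Function.Injective (fun g : W ⟶ B => restrMap b W ≫ g) := by
    intro W hW u v huv
    replace huv : restrMap b W ≫ u = restrMap b W ≫ v := huv
    have hq : u ≫ q = v ≫ q := (hC W hW).1 (show restrMap b W ≫ u ≫ q = restrMap b W ≫ v ≫ q by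
      rw [← Category.assoc, huv, Category.assoc])
    obtain ⟨d, hd⟩ := AlgGrp79.exists_ker_of_comp_one hker (u * v⁻¹)
      (by rw [MonObj.mul_comp, GrpObj.inv_comp, hq, mul_inv_cancel])
    obtain ⟨d₁, hd₁⟩ := AlgGrp79.exists_ker_of_comp_one hker (1 : W ⟶ B) (by rw [MonObj.one_comp])
    have hdd : d = d₁ := (hA W hW).1 ((cancel_mono i).1 (by
      show (restrMap b W ≫ d) ≫ i = (restrMap b W ≫ d₁) ≫ i
      rw [Category.assoc, Category.assoc, hd, hd₁, MonObj.comp_mul, GrpObj.comp_inv, huv, mul_inv_cancel,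
        MonObj.comp_one]))
    rw [hdd, hd₁] at hd
    exact mul_inv_eq_one.1 hd.symm
  intro Z hZ
  refine ⟨hinj Z hZ, fun w => ?_⟩
  obtain ⟨c, hc⟩ := (hC Z hZ).2 (w ≫ q)
  change restrMap b Z ≫ c = w ≫ q at hc
  let Z' : Over S := Over.mk (pullback.fst c.left q.left ≫ Z.hom)
  let π : Z' ⟶ Z := Over.homMk (pullback.fst _ _)
  let n : Z' ⟶ B := Over.homMk (pullback.snd _ _) (by
    show pullback.snd c.left q.left ≫ B.hom = pullback.fst c.left q.left ≫ Z.hom
    rw [← Over.w q, ← Category.assoc, ← pullback.condition, Category.assoc, Over.w c])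
  have hn : n ≫ q = π ≫ c := by ext : 1; exact pullback.condition.symm
  have : Smooth π.left := inferInstanceAs (Smooth (pullback.fst c.left q.left))
  have : Surjective π.left := inferInstanceAs (Surjective (pullback.fst c.left q.left))
  have : Smooth Z.hom := hZ
  have hZ' : Smooth Z'.hom := inferInstanceAs (Smooth (pullback.fst c.left q.left ≫ Z.hom))
  obtain ⟨d₀, hd₀⟩ := AlgGrp79.exists_ker_of_comp_one hker (((Over.map b).map ((Over.pullback b).map π) ≫ w) * (restrMap b Z' ≫ n)⁻¹) (by
    rw [MonObj.mul_comp, GrpObj.inv_comp, Category.assoc, Category.assoc, ← hc, hn, ← Category.assoc, restrMap_naturality,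
      Category.assoc, mul_inv_cancel])
  obtain ⟨d, hd⟩ := (hA Z' hZ').2 d₀
  change restrMap b Z' ≫ d = d₀ at hd
  refine exists_of_smooth_cover b π hZ hinj w ((d ≫ i) * n) ?_
  rw [MonObj.comp_mul, ← Category.assoc, hd, hd₀, inv_mul_cancel_right]

end Groth.Agent.NeronHD28
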