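import Groth.Prelude
import Groth.Agent.CAlg1.Miracle
import Groth.Agent.Dim62.LocalFormula
import Groth.Agent.EGA4H10.CompleteUC
import Groth.Agent.S0603
import Mathlib.RingTheory.QuasiFinite.Basic
import Mathlib.RingTheory.Flat.Localization

/-! Flatness and quasi-finiteness agree for generically finite maps of regular domains. -/

set_option autoImplicit false
set_option linter.style.haveILetI false
universe u

open IsLocalRing

namespace Groth.Agent.NeronHD28

variable (B A : Type u) [CommRing B] [IsDomain B] [CommRing A] [IsDomain A]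
  [Algebra B A] [FaithfulSMul B A] [Algebra.FiniteType B A]

/-- A finitely generated domain with finite generic fibre is algebraic over the base. -/
theorem trdeg_eq_zero_of_finite_primesOver_bot (h : ((⊥ : Ideal B).primesOver A).Finite) :
    Algebra.trdeg B A = 0 := by
  let M := Algebra.algebraMapSubmonoid A (nonZeroDivisors B)
  let K := FractionRing B
  let AK := Localization M
  letI : Algebra K AK := localizationAlgebra (nonZeroDivisors B) A
  haveI : IsScalarTower B K AK := IsScalarTower.of_algebraMap_eq fun b => by
    rw [IsScalarTower.algebraMap_apply B A AK]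
    exact (IsLocalization.map_eq (S := K) _ b).symm
  haveI : Algebra.FiniteType K AK := by
    refine RingHom.finiteType_algebraMap.1 ?_
    haveI : IsLocalization (Submonoid.map (algebraMap B A) (nonZeroDivisors B)) AK := inferInstanceAs (IsLocalization M AK)
    exact RingHom.finiteType_localizationPreserves (algebraMap B A) (nonZeroDivisors B) K AK
      (RingHom.finiteType_algebraMap.2 inferInstance)
  haveI : Algebra.QuasiFinite K AK := by
    rw [Algebra.QuasiFinite.iff_finite_primesOver]
    intro I hI
    refine Set.Finite.of_finite_image (f := fun P : Ideal AK => P.comap (algebraMap A AK))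
      (h.subset ?_) ?_
    · rintro _ ⟨P, ⟨hP, -⟩, rfl⟩
      refine ⟨Ideal.IsPrime.comap _, ⟨?_⟩⟩
      rw [eq_comm, eq_bot_iff]
      intro b hb
      by_contra hb0
      exact ((IsLocalization.isPrime_iff_isPrime_disjoint M AK P).1 hP).2.le_bot
        ⟨Algebra.mem_algebraMapSubmonoid_of_mem ⟨b, mem_nonZeroDivisors_of_ne_zero hb0⟩, hb⟩
    · exact fun P _ Q _ hPQ => by
        rw [← IsLocalization.map_under M AK P, ← IsLocalization.map_under M AK Q]
        exact congrArg _ hPQ
  haveI : Module.Finite K AK := Module.Finite.of_quasiFinite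
  haveI : Algebra.IsAlgebraic K AK := inferInstance
  haveI : Algebra.IsAlgebraic B AK := IsFractionRing.comap_isAlgebraic_iff.2 ‹Algebra.IsAlgebraic K AK›
  haveI : Algebra.IsAlgebraic B A := by
    have hM : M ≤ nonZeroDivisors A := by
      rintro _ ⟨s, hs, rfl⟩
      exact mem_nonZeroDivisors_of_ne_zero fun h0 =>
        nonZeroDivisors.ne_zero hs (FaithfulSMul.algebraMap_injective B A (h0.trans (map_zero _).symm))
    exact ⟨fun x => (isAlgebraic_algHom_iff (IsScalarTower.toAlgHom B A AK)
      (IsLocalization.injective AK hM)).1 (Algebra.IsAlgebraic.isAlgebraic _)⟩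
  exact trdeg_eq_zero (R := B) (A := A)

variable [IsRegularRing B] (hA0 : Algebra.trdeg B A = 0)

include hA0 in
theorem height_add_trdeg (q : Ideal A) [q.IsPrime] :
    (q.height : Cardinal.{u}) + Algebra.trdeg (B ⧸ q.under B) (A ⧸ q) = ((q.under B).height : Cardinal.{u}) := by
  have huc : CAlg.IsUniversallyCatenary (Localization.AtPrime (q.under B)) := by
    haveI := EGA4H10.isCohenMacaulayRing_of_regular (Localization.AtPrime (q.under B))
    exact S0603.result _
  have h := Dim62.height_add_trdeg_eq_of_localization (A₀ := B) q (Localization.AtPrime (q.under B)) huc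
  rwa [hA0, add_zero] at h

include hA0 in
theorem quasiFinite_of_flat [Module.Flat B A] : Algebra.QuasiFinite B A := by
  haveI : IsNoetherianRing A := Algebra.FiniteType.isNoetherianRing B A
  rw [Algebra.QuasiFinite.iff_finite_primesOver]
  intro p hp
  have hle : ∀ q : Ideal A, q.IsPrime → q.LiesOver p → q.height ≤ p.height := by
    intro q hq ho
    have h := height_add_trdeg B A hA0 q
    exact (Cardinal.ofENat_le_ofENat.1 (le_self_add.trans h.le)).trans (le_of_eq (by rw [← ho.over]))
  refine (Ideal.finite_minimalPrimes_of_isNoetherianRing A (p.map (algebraMap B A))).subset ?_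
  rintro q ⟨hq, ho⟩
  refine ⟨⟨hq, Ideal.map_le_iff_le_comap.2 ho.over.le⟩, fun r ⟨hr, hpr⟩ hrq => ?_⟩
  by_contra hne
  have hrp : r.LiesOver p := ⟨le_antisymm (Ideal.map_le_iff_le_comap.1 hpr) (ho.over.symm ▸ Ideal.comap_mono hrq)⟩
  haveI := hr
  haveI := hq
  haveI := hrp
  have hge : p.height ≤ r.height := by
    haveI : Algebra.HasGoingDown B A := inferInstance
    rw [Ideal.height_eq_height_add_of_liesOver_of_hasGoingDown p r]
    exact le_self_add
  have hlt : r.height < q.height := Ideal.height_strict_mono_of_isPrime_of_isPrime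
    (lt_of_le_of_ne hrq fun h => hne (le_of_eq h.symm))
  exact absurd (hle q hq ho) (not_le.2 (lt_of_le_of_lt hge hlt))

include hA0 in
theorem flat_of_quasiFinite [IsRegularRing A] [Algebra.QuasiFinite B A] : Module.Flat B A := by
  refine Module.flat_of_isLocalized_maximal A A (fun P => Localization.AtPrime P)
    (fun P _ => (Algebra.linearMap A _ : A →ₗ[A] _)) fun q _ => ?_
  let p := q.under B
  haveI : q.LiesOver p := ⟨rfl⟩
  let : Algebra (Localization.AtPrime p) (Localization.AtPrime q) := Localization.AtPrime.algebraOfLiesOver p q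
  let Bp := Localization.AtPrime p
  let Aq := Localization.AtPrime q
  haveI := EGA4H10.isCohenMacaulayLocalRing_of_regular Aq
  have hdim0 : ringKrullDim (Aq ⧸ (maximalIdeal Bp).map (algebraMap Bp Aq)) = 0 := by
    have hle : (maximalIdeal Bp).map (algebraMap Bp Aq) ≤ maximalIdeal Aq := map_maximalIdeal_le _
    haveI : Nontrivial (Aq ⧸ (maximalIdeal Bp).map (algebraMap Bp Aq)) :=
      Ideal.Quotient.nontrivial_iff.mpr fun h => (maximalIdeal.isMaximal Aq).ne_top (top_le_iff.mp (h ▸ hle))
    haveI : Ring.KrullDimLE 0 (Aq ⧸ (maximalIdeal Bp).map (algebraMap Bp Aq)) := by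
      refine Ring.krullDimLE_zero_iff.2 fun P hP => ?_
      let π := Ideal.Quotient.mk ((maximalIdeal Bp).map (algebraMap Bp Aq))
      have h1 : P.comap π ≤ maximalIdeal Aq := le_maximalIdeal (Ideal.IsPrime.comap π (hK := hP)).ne_top
      have h2 : (P.comap π).under A = q := by
        refine Algebra.QuasiFinite.eq_of_le_of_under_eq (R := B) _ _ ?_ ?_
        · exact (Ideal.comap_mono h1).trans (IsLocalization.AtPrime.under_maximalIdeal Aq q).le
        · refine le_antisymm ?_ ?_
          · exact Ideal.comap_mono ((Ideal.comap_mono h1).trans (IsLocalization.AtPrime.under_maximalIdeal Aq q).le)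
          · intro x hx
            show π (algebraMap A Aq (algebraMap B A x)) ∈ P
            rw [← IsScalarTower.algebraMap_apply B A Aq, IsScalarTower.algebraMap_apply B Bp Aq,
              Ideal.Quotient.eq_zero_iff_mem.2 (Ideal.mem_map_of_mem _
                ((IsLocalization.AtPrime.to_map_mem_maximal_iff Bp p x).2 hx))]
            exact zero_mem _
      have h3 : P.comap π = maximalIdeal Aq := by
        refine le_antisymm h1 ?_
        rw [← IsLocalization.map_under q.primeCompl Aq (maximalIdeal Aq), Ideal.map_le_iff_le_comap]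
        show (maximalIdeal Aq).comap (algebraMap A Aq) ≤ _
        exact (IsLocalization.AtPrime.under_maximalIdeal Aq q).le.trans h2.ge
      refine ⟨⟨hP.ne_top, fun J hJ => ?_⟩⟩
      by_contra hJt
      refine hJ.ne (le_antisymm hJ.le ?_)
      have h4 : J.comap π ≤ P.comap π := h3 ▸ le_maximalIdeal fun h =>
        hJt ((Ideal.comap_eq_top_iff).1 h)
      rw [← Ideal.map_comap_of_surjective π Ideal.Quotient.mk_surjective J, Ideal.map_le_iff_le_comap]
      exact h4
    exact ringKrullDimZero_iff_ringKrullDim_eq_zero.mp this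
  have ht : q.height = p.height := by
    have h := height_add_trdeg B A hA0 q
    haveI : Algebra.FiniteType (B ⧸ p) (A ⧸ q) := Algebra.FiniteType.of_restrictScalars_finiteType B _ _
    haveI : Algebra.QuasiFinite (B ⧸ p) (A ⧸ q) := Algebra.QuasiFinite.of_restrictScalars B _ _
    haveI : IsNoetherianRing (B ⧸ p) := inferInstance
    haveI : FaithfulSMul (B ⧸ p) (A ⧸ q) := (faithfulSMul_iff_algebraMap_injective _ _).2
      (Ideal.quotientMap_injective' (le_refl _))
    rw [trdeg_eq_zero_of_finite_primesOver_bot (B ⧸ p) (A ⧸ q) (Algebra.QuasiFinite.finite_primesOver _),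
      add_zero] at h
    exact Cardinal.ofENat_inj.1 h
  haveI : Module.Flat Bp Aq := CAlg1.miracle_flatness _ Bp Aq rfl (by
    rw [hdim0, add_zero, IsLocalization.AtPrime.ringKrullDim_eq_height q Aq,
      IsLocalization.AtPrime.ringKrullDim_eq_height p Bp, ht])
  exact (Module.flat_iff_of_isLocalization Bp p.primeCompl Aq).1 ‹_›

end Groth.Agent.NeronHD28
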