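import Groth.Agent.VarDim1.KrullAkizuki
import Mathlib.AlgebraicGeometry.Morphisms.QuasiFinite
import Mathlib.AlgebraicGeometry.Morphisms.Flat

/-! A flat finite type algebra over a Dedekind domain with quasi-finite generic fibre is quasi-finite. -/

set_option autoImplicit false
universe u

open CategoryTheory CategoryTheory.Limits AlgebraicGeometry TensorProduct

namespace Groth.Agent.NeronHD28

theorem finite_primes_over_of_closed {R A : Type u} [CommRing R] [IsDomain R] [IsNoetherianRing R]
    [Ring.KrullDimLE 1 R] [CommRing A] [Algebra R A] (hK : Module.Finite (FractionRing R) (FractionRing R ⊗[R] A))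
    (Q : Ideal A) [Q.IsPrime] (hQ : ∀ r : R, algebraMap R A r ∈ Q → r = 0) (a : R) (ha : a ≠ 0) :
    {P : Ideal A | P.IsPrime ∧ Q ≤ P ∧ algebraMap R A a ∈ P}.Finite := by
  let K := FractionRing R
  let L := Q.ResidueField
  let π : A →+* L := algebraMap A L
  have hπ : ∀ x, π x = 0 ↔ x ∈ Q := fun x => Ideal.algebraMap_residueField_eq_zero
  have hinj : Function.Injective (algebraMap R L) := (injective_iff_map_eq_zero _).2 fun r hr =>
    hQ r ((hπ _).1 (by rw [← hr]; exact (IsScalarTower.algebraMap_apply R A L r).symm))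
  have : FaithfulSMul R L := (faithfulSMul_iff_algebraMap_injective R L).2 hinj
  let : Algebra K L := FractionRing.liftAlgebra R L
  have : IsScalarTower R K L := FractionRing.isScalarTower_liftAlgebra R L
  let φ : K ⊗[R] A →ₐ[K] L := Algebra.TensorProduct.lift (Algebra.ofId K L) (IsScalarTower.toAlgHom R A L)
    (fun _ _ => Commute.all _ _)
  have hφ : ∀ x : A, φ (1 ⊗ₜ x) = π x := fun x => by
    show Algebra.TensorProduct.lift (Algebra.ofId K L) (IsScalarTower.toAlgHom R A L) _ (1 ⊗ₜ x) = _
    rw [Algebra.TensorProduct.lift_tmul, map_one, one_mul]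
    rfl
  have hfr : Module.Finite K φ.range := Module.Finite.range φ.toLinearMap
  have halg : ∀ y ∈ φ.range, y⁻¹ ∈ φ.range := fun y hy => by
    have : IsAlgebraic K (⟨y, hy⟩ : φ.range) := (Algebra.IsIntegral.isIntegral _).isAlgebraic
    exact φ.range.inv_mem_of_algebraic (x := ⟨y, hy⟩) (this.algHom φ.range.val)
  have hL : Module.Finite K L := by
    refine Module.Finite.of_surjective φ.toLinearMap fun z => ?_
    obtain ⟨x, y, -, hxy⟩ := IsFractionRing.div_surjective (A := A ⧸ Q) z
    obtain ⟨x, rfl⟩ := Ideal.Quotient.mk_surjective x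
    obtain ⟨y, rfl⟩ := Ideal.Quotient.mk_surjective y
    rw [← hxy]
    exact mul_mem (show π x ∈ φ.range from ⟨_, hφ x⟩) (halg _ ⟨_, hφ y⟩)
  let B : Subalgebra R L := (IsScalarTower.toAlgHom R A L).range
  let f : A →ₐ[R] B := (IsScalarTower.toAlgHom R A L).rangeRestrict
  have hf : Function.Surjective f := AlgHom.rangeRestrict_surjective _
  let I : Ideal B := Ideal.span {algebraMap R B a}
  have hI : I ≠ ⊥ := by
    rw [Ne, Ideal.span_singleton_eq_bot]
    intro h
    exact ha (hinj (by rw [map_zero]; exact congrArg Subtype.val h))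
  have : IsArtinianRing (B ⧸ I) := VarDim1.isArtinianRing_quotient K B hI
  refine ((Set.finite_univ (α := PrimeSpectrum (B ⧸ I))).image
    fun p => (p.asIdeal.comap (Ideal.Quotient.mk I)).comap f.toRingHom).subset ?_
  rintro P ⟨hP, hQP, haP⟩
  have hker : RingHom.ker f.toRingHom ≤ P := fun x hx => hQP ((hπ x).1 (congrArg Subtype.val (RingHom.mem_ker.1 hx)))
  have hPB : (P.map f.toRingHom).IsPrime := Ideal.map_isPrime_of_surjective hf hker
  have hPBc : (P.map f.toRingHom).comap f.toRingHom = P := by
    rw [Ideal.comap_map_of_surjective f.toRingHom hf, sup_eq_left]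
    exact hker
  have hIP : I ≤ P.map f.toRingHom := by
    rw [Ideal.span_singleton_le_iff_mem, show algebraMap R B a = f.toRingHom (algebraMap R A a) from (f.commutes a).symm]
    exact Ideal.mem_map_of_mem _ haP
  have hPI : ((P.map f.toRingHom).map (Ideal.Quotient.mk I)).IsPrime :=
    Ideal.map_isPrime_of_surjective Ideal.Quotient.mk_surjective (by rwa [Ideal.mk_ker])
  refine ⟨⟨_, hPI⟩, trivial, ?_⟩
  show Ideal.comap f.toRingHom (Ideal.comap (Ideal.Quotient.mk I) (Ideal.map (Ideal.Quotient.mk I) (P.map f.toRingHom))) = P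
  rw [Ideal.comap_map_of_surjective _ Ideal.Quotient.mk_surjective, sup_eq_left.2 ?_, hPBc]
  rwa [← RingHom.ker_eq_comap_bot, Ideal.mk_ker]

theorem quasiFinite_of_flat_of_generic {R A : Type u} [CommRing R] [IsDedekindDomain R] [CommRing A] [Algebra R A]
    [Module.Flat R A] [Algebra.FiniteType R A] (hK : Module.Finite (FractionRing R) (FractionRing R ⊗[R] A)) :
    Algebra.QuasiFinite R A := by
  have hA : IsNoetherianRing A := Algebra.FiniteType.isNoetherianRing R A
  rw [Algebra.QuasiFinite.iff_finite_primesOver]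
  intro I hI
  by_cases hI0 : I = ⊥
  · subst hI0
    have : IsArtinianRing (FractionRing R ⊗[R] A) := isArtinian_of_tower (FractionRing R) inferInstance
    let inc : A →+* FractionRing R ⊗[R] A := (Algebra.TensorProduct.includeRight : A →ₐ[R] _).toRingHom
    refine ((Set.finite_univ (α := PrimeSpectrum (FractionRing R ⊗[R] A))).image fun p => p.asIdeal.comap inc).subset ?_
    rintro P ⟨hP, hover⟩
    let L := P.ResidueField
    have hinj : Function.Injective (algebraMap R L) := (injective_iff_map_eq_zero _).2 fun r hr => by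
      have h1 : algebraMap R A r ∈ P := Ideal.algebraMap_residueField_eq_zero.1 (by rw [← hr]; exact (IsScalarTower.algebraMap_apply R A L r).symm)
      have h2 : r ∈ (⊥ : Ideal R) := hover.over ▸ h1
      exact h2
    have : FaithfulSMul R L := (faithfulSMul_iff_algebraMap_injective R L).2 hinj
    let : Algebra (FractionRing R) L := FractionRing.liftAlgebra R L
    have : IsScalarTower R (FractionRing R) L := FractionRing.isScalarTower_liftAlgebra R L
    let φ : FractionRing R ⊗[R] A →ₐ[R] L := Algebra.TensorProduct.lift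
      (IsScalarTower.toAlgHom R (FractionRing R) L) (IsScalarTower.toAlgHom R A L) (fun _ _ => Commute.all _ _)
    refine ⟨⟨RingHom.ker φ.toRingHom, RingHom.ker_isPrime _⟩, trivial, ?_⟩
    ext x
    rw [Ideal.mem_comap, RingHom.mem_ker]
    show φ (1 ⊗ₜ x) = 0 ↔ _
    rw [Algebra.TensorProduct.lift_tmul, map_one, one_mul]
    exact Ideal.algebraMap_residueField_eq_zero
  · obtain ⟨a, haI, ha⟩ := Submodule.exists_mem_ne_zero_of_ne_bot hI0
    refine ((minimalPrimes.finite_of_isNoetherianRing A).biUnion fun Q hQ =>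
      show {P : Ideal A | P.IsPrime ∧ Q ≤ P ∧ algebraMap R A a ∈ P}.Finite from ?_).subset ?_
    · have : Q.IsPrime := hQ.1.1
      refine finite_primes_over_of_closed hK Q (fun r hr => ?_) a ha
      by_contra h0
      have hreg : algebraMap R A r ∈ nonZeroDivisors A := by
        rw [mem_nonZeroDivisors_iff_right]
        intro x hx
        refine (IsSMulRegular.of_flat (S := A) (isRegular_iff_ne_zero.2 h0).left.isSMulRegular).right_eq_zero_of_smul ?_
        rw [Algebra.smul_def, mul_comm]; exact hx
      exact Set.disjoint_left.1 (Ideal.disjoint_nonZeroDivisors_of_mem_minimalPrimes hQ) hr hreg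
    · rintro P ⟨hP, hover⟩
      obtain ⟨Q, hQ, hQP⟩ := Ideal.exists_minimalPrimes_le (I := (⊥ : Ideal A)) (J := P) bot_le
      exact Set.mem_biUnion hQ ⟨hP, hQP, (hover.over ▸ haI : a ∈ P.under R)⟩

theorem locallyQuasiFinite_of_flat_of_generic (R : Type u) [CommRing R] [IsDedekindDomain R] {X : Scheme.{u}}
    (f : X ⟶ Spec (CommRingCat.of R)) [Flat f] [LocallyOfFiniteType f]
    (h : LocallyQuasiFinite (pullback.snd f (Spec.map (CommRingCat.ofHom (algebraMap R (FractionRing R)))))) :
    LocallyQuasiFinite f := by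
  suffices key : ∀ (A : CommRingCat.{u}) (j : Spec A ⟶ X), IsOpenImmersion j → LocallyQuasiFinite (j ≫ f) by
    rw [HasRingHomProperty.iff_of_source_openCover (P := @LocallyQuasiFinite) X.affineCover]
    intro i
    exact (HasRingHomProperty.iff_of_isAffine (P := @LocallyQuasiFinite)).1 (key _ (X.affineCover.f i) (X.affineCover.map_prop i))
  intro A j hj
  obtain ⟨φ, hφ⟩ := Spec.map_surjective (j ≫ f)
  rw [← hφ, HasRingHomProperty.Spec_iff (P := @LocallyQuasiFinite)]
  have hflat : φ.hom.Flat := (HasRingHomProperty.Spec_iff (P := @Flat)).1 (hφ ▸ inferInstance)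
  have hft : φ.hom.FiniteType := (HasRingHomProperty.Spec_iff (P := @LocallyOfFiniteType)).1 (hφ ▸ inferInstance)
  algebraize [φ.hom]
  let g := Spec.map (CommRingCat.ofHom (algebraMap R (FractionRing R)))
  let m := pullback.map (j ≫ f) g f g j (𝟙 _) (𝟙 _) (by simp) (by simp)
  have hm : IsOpenImmersion m := inferInstance
  have h1 : LocallyQuasiFinite (pullback.snd (j ≫ f) g) := by
    have : m ≫ pullback.snd f g = pullback.snd (j ≫ f) g := by
      rw [pullback.lift_snd, Category.comp_id]
    rw [← this]
    infer_instance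
  rw [← hφ] at h1
  have h2 : LocallyQuasiFinite (pullback.fst g (Spec.map φ)) := by
    rw [← pullbackSymmetry_hom_comp_snd]
    infer_instance
  have h3 : LocallyQuasiFinite ((pullbackSpecIso R (FractionRing R) _).inv ≫ pullback.fst g (Spec.map φ)) := by
    infer_instance
  erw [pullbackSpecIso_inv_fst', HasRingHomProperty.Spec_iff (P := @LocallyQuasiFinite)] at h3
  rw [CommRingCat.hom_ofHom, RingHom.quasiFinite_algebraMap] at h3
  exact quasiFinite_of_flat_of_generic Module.Finite.of_quasiFinite

end Groth.Agent.NeronHD28
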