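import Groth.Prelude.Def_Red2
import Groth.Prelude.Def_ActBC

/-! Base change of groups defined over the integers. -/

set_option autoImplicit false
universe u

open CategoryTheory CategoryTheory.Limits MonoidalCategory CartesianMonoidalCategory MonObj AlgebraicGeometry

namespace Groth.Agent.NeronHD28.GaBaseChange

theorem exists_bc_iso {P : Over (Spec (CommRingCat.of (ULift.{u} ℤ)))} [GrpObj P] {S S' : Scheme.{u}} (f : S' ⟶ S)
    {H : Over S'} [GrpObj H] (e : H ≅ Red.bc (IsTerminal.from specULiftZIsTerminal S') P) [IsMonHom e.hom] :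
    ∃ e₁ : H ≅ Red.bc f (Red.bc (IsTerminal.from specULiftZIsTerminal S) P), IsMonHom e₁.hom := by
  let j : Red.bc f (Red.bc (IsTerminal.from specULiftZIsTerminal S) P) ≅
      Red.bc (IsTerminal.from specULiftZIsTerminal S') P :=
    ActBC.bcCompIso f _ _ (IsTerminal.hom_ext specULiftZIsTerminal _ _)
  have hj : IsMonHom j.hom := ActBC.bcCompIso_isMonHom _ _ _
  exact ⟨e ≪≫ j.symm, inferInstanceAs (IsMonHom (e.hom ≫ j.inv))⟩

set_option maxHeartbeats 200000 in
theorem exists_ga_iso {S S' : Scheme.{u}} (f : S' ⟶ S) {H : Over S'} [GrpObj H] (e : H ≅ Red.Ga S') [IsMonHom e.hom] :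
    ∃ e₁ : H ≅ Red.bc f (Red.Ga S), IsMonHom e₁.hom :=
  exists_bc_iso (P := Red.GaZ) f e

end Groth.Agent.NeronHD28.GaBaseChange
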