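import Groth.Agent.RedPts82.GaCoord
import Groth.Agent.RedPts82.GmSmooth
import Groth.Agent.RedPts82.GaNoTorus
import Groth.Agent.RedPts82.Bridge
import Mathlib.LinearAlgebra.SymmetricAlgebra.Basis
import Mathlib.RingTheory.Ideal.MinimalPrime.Noetherian

/-! Basic facts on the additive group. -/

set_option autoImplicit false
set_option linter.style.haveILetI false
universe u

open CategoryTheory CategoryTheory.Limits MonoidalCategory CartesianMonoidalCategory MonObj AlgebraicGeometry

namespace Groth.Agent.NeronHD28.GaBasic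

open RedPts82

theorem smooth_Ga (S : Scheme.{u}) : Smooth (Red.Ga S).hom := by
  let R : Type u := ULift.{u} ℤ
  haveI : Algebra.Smooth R (MvPolynomial PUnit.{u + 1} R) := ⟨inferInstance, inferInstance⟩
  haveI : Algebra.Smooth R (SymmetricAlgebra R R) :=
    Algebra.Smooth.of_equiv (SymmetricAlgebra.equivMvPolynomial (Module.Basis.singleton PUnit.{u + 1} R)).symm
  haveI : Smooth (Spec.map (CommRingCat.ofHom (algebraMap R (SymmetricAlgebra R R)))) := by
    rw [HasRingHomProperty.Spec_iff (P := @Smooth)]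
    exact RingHom.smooth_algebraMap.mpr inferInstance
  exact MorphismProperty.pullback_snd (P := @Smooth) _ _ (by assumption)

theorem isAffineHom_Ga (S : Scheme.{u}) : IsAffineHom (Red.Ga S).hom := by
  haveI : IsAffineHom Red.GaZ.{u}.hom := inferInstanceAs (IsAffineHom (Spec.map _))
  exact MorphismProperty.pullback_snd (P := @IsAffineHom) _ _ (by assumption)

variable {S : Scheme.{u}}

/-- Multiplication by a function of the base. -/
noncomputable def scale (r : Γ(S, ⊤)) : Red.Ga S ⟶ Red.Ga S :=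
  gaPt ((Red.Ga S).hom.appTop r * Red.gaFn (𝟙 (Red.Ga S)))

theorem gaFn_scale {X : Over S} (x : X ⟶ Red.Ga S) (r : Γ(S, ⊤)) :
    Red.gaFn (x ≫ scale r) = X.hom.appTop r * Red.gaFn x := by
  rw [gaFn_comp, scale, gaFn_gaPt, map_mul, ← gaFn_comp, Category.comp_id]
  congr 1
  show ((Red.Ga S).hom.appTop ≫ x.left.appTop) r = _
  rw [← Scheme.Hom.comp_appTop, Over.w x]

instance isMonHom_scale (r : Γ(S, ⊤)) : IsMonHom (scale (S := S) r) :=
  isMonHom_of_points _ fun X a b => gaFn_injective (by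
    rw [gaFn_scale, gaFn_mul, gaFn_mul, gaFn_scale, gaFn_scale, mul_add])

theorem irreducibleSpace_Ga (k : Type u) [Field k] :
    IrreducibleSpace ↥(Red.Ga (Spec (CommRingCat.of k))).left := by
  let S := Spec (CommRingCat.of k)
  haveI : IsAffine (𝟙_ (Over S)).left := inferInstanceAs (IsAffine S)
  haveI : IsDomain (Gam (𝟙_ (Over S))) :=
    (Scheme.ΓSpecIso (CommRingCat.of k)).commRingCatIsoToRingEquiv.toMulEquiv.isDomain k
  let i : polyGa (𝟙_ (Over S)) ≅ Red.Ga S := gaIso _ ≪≫ λ_ _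
  haveI : IrreducibleSpace ↥(polyGa (𝟙_ (Over S))).left :=
    inferInstanceAs (IrreducibleSpace (PrimeSpectrum (Polynomial (Gam (𝟙_ (Over S))))))
  exact ((Over.forget S).mapIso i).hom.homeomorph.irreducibleSpace_iff.1 ‹_›

theorem subsingleton_of_isPreconnected_primeSpectrum {A : Type u} [CommRing A] [IsDomain A]
    [IsPrincipalIdealRing A] {C : Set (PrimeSpectrum A)} (hC : IsClosed C) (hC' : C ≠ Set.univ)
    (hc : _root_.IsPreconnected C) : C.Subsingleton := by
  obtain ⟨I, rfl⟩ := (PrimeSpectrum.isClosed_iff_zeroLocus_ideal C).1 hC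
  have hI : I ≠ ⊥ := by
    rintro rfl
    exact hC' PrimeSpectrum.zeroLocus_bot
  have hmax : ∀ p ∈ PrimeSpectrum.zeroLocus (I : Set A), IsClosed ({p} : Set (PrimeSpectrum A)) := fun p hp => by
    rw [PrimeSpectrum.isClosed_singleton_iff_isMaximal]
    refine p.isPrime.isMaximal fun h0 => hI (le_bot_iff.1 ?_)
    rw [← h0]
    exact hp
  have hfin : (PrimeSpectrum.zeroLocus (I : Set A)).Finite := by
    refine ((Ideal.finite_minimalPrimes_of_isNoetherianRing A I).preimage
      (f := PrimeSpectrum.asIdeal) fun p _ q _ h => PrimeSpectrum.ext h).subset fun p hp => ?_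
    refine ⟨⟨p.isPrime, hp⟩, fun q hq hqp => ?_⟩
    haveI := hq.1
    have hq0 : q ≠ ⊥ := fun h0 => hI (le_bot_iff.1 (h0 ▸ hq.2))
    exact ((hq.1.isMaximal hq0).eq_of_le p.isPrime.ne_top hqp).ge
  intro a ha b hb
  by_contra hab
  have hD : IsClosed (PrimeSpectrum.zeroLocus (I : Set A) \ {a}) := by
    rw [← Set.biUnion_of_singleton (PrimeSpectrum.zeroLocus (I : Set A) \ {a})]
    exact hfin.sdiff.isClosed_biUnion fun p hp => hmax p hp.1
  obtain ⟨z, hz, hz1, hz2⟩ := isPreconnected_closed_iff.1 hc {a} _ (hmax a ha) hD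
    (fun p hp => by
      by_cases h : p = a
      · exact Or.inl h
      · exact Or.inr ⟨hp, h⟩) ⟨a, ha, rfl⟩ ⟨b, hb, hb, fun h => hab h.symm⟩
  exact hz2.2 hz1

theorem subsingleton_of_isPreconnected (k : Type u) [Field k]
    {C : Set ↥(Red.Ga (Spec (CommRingCat.of k))).left} (hC : IsClosed C) (hC' : C ≠ Set.univ)
    (hc : _root_.IsPreconnected C) : C.Subsingleton := by
  let S := Spec (CommRingCat.of k)
  haveI : IsAffine (𝟙_ (Over S)).left := inferInstanceAs (IsAffine S)
  let σ : Gam (𝟙_ (Over S)) ≃+* k := (Scheme.ΓSpecIso (CommRingCat.of k)).commRingCatIsoToRingEquiv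
  letI : Field (Gam (𝟙_ (Over S))) :=
    (MulEquiv.isField (Field.toIsField k) σ.toMulEquiv).toField
  let i : polyGa (𝟙_ (Over S)) ≅ Red.Ga S := gaIso _ ≪≫ λ_ _
  let h : ↥(Red.Ga S).left ≃ₜ PrimeSpectrum (Polynomial (Gam (𝟙_ (Over S)))) :=
    (Scheme.homeoOfIso ((Over.forget S).mapIso i)).symm
  have h1 := subsingleton_of_isPreconnected_primeSpectrum (h.isClosed_image.2 hC)
    (fun h0 => hC' (h.injective.image_injective (h0.trans (Set.image_univ_of_surjective h.surjective).symm)))
    (hc.image _ h.continuous.continuousOn)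
  exact fun a ha b hb => h.injective (h1 ⟨a, ha, rfl⟩ ⟨b, hb, rfl⟩)

end Groth.Agent.NeronHD28.GaBasic
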