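import Groth.Agent.NeronHD28.GaModel

/-! Components of the special fibre of an affine smooth model of the additive group. -/

set_option autoImplicit false
set_option linter.style.haveILetI false
universe u

open CategoryTheory CategoryTheory.Limits MonoidalCategory CartesianMonoidalCategory MonObj AlgebraicGeometry

namespace Groth.Agent.NeronHD28.GaModel

open RedPts82 GmModel

variable {R : Type u} [CommRing R] [IsDomain R] [IsDiscreteValuationRing R] [HenselianLocalRing R]
  [IsAlgClosed (IsLocalRing.ResidueField R)] {K : Type u} [Field K] [Algebra R K] [IsFractionRing R K]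
  (G : Over (Spec (CommRingCat.of R))) [GrpObj G]


omit [IsDomain R] [IsDiscreteValuationRing R] [HenselianLocalRing R]
  [IsAlgClosed (IsLocalRing.ResidueField R)] in
theorem reduction_pow [IsLocalRing R]
    {x : 𝟙_ (Over (Spec (CommRingCat.of (IsLocalRing.ResidueField R)))) ⟶ Red.bc (closedPt R) G}
    {σ : 𝟙_ (Over (Spec (CommRingCat.of R))) ⟶ G}
    (h : closedPt R ≫ σ.left = x.left ≫ pullback.fst G.hom (closedPt R)) (n : ℕ) :
    closedPt R ≫ (σ ^ n).left = (x ^ n).left ≫ pullback.fst G.hom (closedPt R) := by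
  let i : (Over.map (closedPt R)).obj (𝟙_ (Over (Spec (CommRingCat.of (IsLocalRing.ResidueField R))))) ⟶
      𝟙_ (Over (Spec (CommRingCat.of R))) := Over.homMk (closedPt R) (by simp)
  have h1 : toBase (closedPt R) x = i ≫ σ := Over.OverMorphism.ext ((toBase_left _ x).trans h.symm)
  have h2 : toBase (closedPt R) (x ^ n) = toBase (closedPt R) x ^ n := by
    induction n with
    | zero => rw [pow_zero, pow_zero]; exact toBase_one (closedPt R)
    | succ n ih =>
      rw [pow_succ, pow_succ, ← ih]
      exact toBase_mul (closedPt R) _ _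
  rw [← toBase_left, h2, h1, ← MonObj.comp_pow]
  rfl

variable [Smooth G.hom] [IsAffineHom G.hom]
  (e : Red.bc (GmModel.gen R K) G ≅ Red.bc (GmModel.gen R K) (Red.Ga (Spec (CommRingCat.of R)))) [IsMonHom e.hom]

include e in
/-- The key property: a point lies in the identity component as soon as the value of a section above it,
normalised, is integral. -/
theorem exists_criterion : ∃ (c : K) (j : Red.Ga (Spec (CommRingCat.of R)) ⟶ G),
    c ≠ 0 ∧ IsMonHom j ∧ IsOpenImmersion j.left ∧
      (∀ x : G.left, G.hom x ≠ IsLocalRing.closedPoint R → x ∈ Set.range j.left) ∧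
      (∀ x : (Red.bc (closedPt R) G).left, pullback.fst G.hom (closedPt R) x ∈ Set.range j.left ↔
        x ∈ connectedComponent (Grp57.unitPt (Red.bc (closedPt R) G))) ∧
      ∀ x : 𝟙_ (Over (Spec (CommRingCat.of (IsLocalRing.ResidueField R)))) ⟶ Red.bc (closedPt R) G,
        ∃ w : K, ∀ n : ℕ, KPts.pt (x ^ n) ∈ connectedComponent (Grp57.unitPt (Red.bc (closedPt R) G)) ↔
          ∃ r : R, algebraMap R K r = n * w := by
  obtain ⟨c, j, hc, hj, hjo, hgen, hsp, hval⟩ := exists_openImmersion G e
  refine ⟨c, j, hc, hj, hjo, hgen, hsp, fun x => ?_⟩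
  haveI : IsSeparated G.hom := inferInstance
  obtain ⟨s, hs, hsq⟩ := exists_section_of_smooth_henselian G.hom (x.left ≫ pullback.fst G.hom (closedPt R)) (by
    rw [Category.assoc, pullback.condition, ← Category.assoc,
      show x.left ≫ pullback.snd G.hom (closedPt R) = 𝟙 _ from Over.w x]
    exact Category.id_comp _)
  let σ : 𝟙_ (Over (Spec (CommRingCat.of R))) ⟶ G := Over.homMk s hs
  refine ⟨secVal G e σ / c, fun n => ?_⟩
  have hmem : KPts.pt (x ^ n) ∈ connectedComponent (Grp57.unitPt (Red.bc (closedPt R) G)) ↔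
      (σ ^ n).left (IsLocalRing.closedPoint R) ∈ Set.range j.left := by
    rw [← hsp, KPts.pt, ← Scheme.Hom.comp_apply, ← reduction_pow G (σ := σ) hsq n, Scheme.Hom.comp_apply,
      closedPt_apply]
  rw [hmem, ← mul_div_assoc, ← secVal_pow]
  constructor
  · intro h
    have hr : Set.range (σ ^ n).left ⊆ Set.range j.left := by
      rintro _ ⟨t, rfl⟩
      by_cases ht : t = IsLocalRing.closedPoint R
      · exact ht ▸ h
      · refine hgen _ ?_
        rw [← Scheme.Hom.comp_apply, Over.w (σ ^ n)]
        exact ht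
    let ρ : 𝟙_ (Over (Spec (CommRingCat.of R))) ⟶ Red.Ga (Spec (CommRingCat.of R)) :=
      Over.homMk (IsOpenImmersion.lift j.left (σ ^ n).left hr) (by
        rw [← Over.w j, IsOpenImmersion.lift_fac_assoc]
        exact Over.w (σ ^ n))
    have hρ : ρ ≫ j = σ ^ n := Over.OverMorphism.ext (IsOpenImmersion.lift_fac _ _ _)
    refine ⟨kapR R (Red.gaFn ρ), ?_⟩
    rw [← hρ, hval, mul_div_cancel_left₀ _ hc]
  · rintro ⟨r, hr⟩
    let ρ : 𝟙_ (Over (Spec (CommRingCat.of R))) ⟶ Red.Ga (Spec (CommRingCat.of R)) :=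
      gaPt ((kapR R).symm r)
    have hρ : ρ ≫ j = σ ^ n := secVal_injective G e (by
      rw [hval, gaFn_gaPt, RingEquiv.apply_symm_apply, hr, mul_div_cancel₀ _ hc])
    rw [← hρ]
    exact ⟨_, rfl⟩

end Groth.Agent.NeronHD28.GaModel
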