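import Groth.Agent.RedPts82.Points
import Groth.Agent.RedPts82.Bridge
import Groth.Agent.NeronHD28.GaBasic
import Groth.Agent.AlgGrp79.SepDense
import Groth.Agent.S6003
import Groth.Agent.S6006
import Groth.Prelude.Def_AlgGrp
import Groth.Prelude.Def_NonAbH2

/-! The torsor under the additive group attached to an extension by it. -/

set_option autoImplicit false
set_option linter.style.haveILetI false
universe u

open CategoryTheory CategoryTheory.Limits MonoidalCategory CartesianMonoidalCategory MonObj AlgebraicGeometry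

namespace Groth.Agent.NeronHD28.GaExt

open RedPts82

variable {κ : Type u} [Field κ] {G Q : Over (Spec (CommRingCat.of κ))} [GrpObj G] [GrpObj Q]
  (q : G ⟶ Q) (i : Red.Ga (Spec (CommRingCat.of κ)) ⟶ G) {W : Scheme.{u}}
  (w : W ⟶ Spec (CommRingCat.of κ)) (f : W ⟶ Q.left) (hf : f ≫ Q.hom = w)

/-- The pullback of an extension. -/
noncomputable abbrev X : Over W := Over.mk (pullback.snd q.left f)

/-- An object over the base, as an object over the field. -/
noncomputable abbrev K (T : Over W) : Over (Spec (CommRingCat.of κ)) := (Over.map w).obj T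

include hf in
theorem toG_w {T : Over W} (x : T ⟶ X q f) : (x.left ≫ pullback.fst q.left f) ≫ G.hom = (K w T).hom := by
  rw [Category.assoc, ← Over.w q, pullback.condition_assoc, hf]
  show x.left ≫ pullback.snd q.left f ≫ w = T.hom ≫ w
  rw [← Category.assoc]
  exact congrArg (· ≫ w) (Over.w x)

/-- The point of the group underlying a point of the pullback. -/
noncomputable def toG {T : Over W} (x : T ⟶ X q f) : K w T ⟶ G :=
  Over.homMk (x.left ≫ pullback.fst q.left f) (toG_w q w f hf x)

/-- The point of the quotient below. -/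
noncomputable def bp (T : Over W) : K w T ⟶ Q :=
  Over.homMk (T.hom ≫ f) (by
    rw [Category.assoc, hf]
    rfl)

theorem toG_q {T : Over W} (x : T ⟶ X q f) : toG q w f hf x ≫ q = bp w f hf T := by
  apply Over.OverMorphism.ext
  show (x.left ≫ pullback.fst q.left f) ≫ q.left = T.hom ≫ f
  rw [Category.assoc, pullback.condition, ← Category.assoc]
  exact congrArg (· ≫ f) (Over.w x)

theorem toG_injective {T : Over W} : Function.Injective (toG q w f hf (T := T)) := fun x y h => by
  apply Over.OverMorphism.ext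
  exact pullback.hom_ext (congrArg CommaMorphism.left h) ((Over.w x).trans (Over.w y).symm)

theorem toG_comp {T T' : Over W} (g : T' ⟶ T) (x : T ⟶ X q f) :
    toG q w f hf (g ≫ x) = (Over.map w).map g ≫ toG q w f hf x := by
  apply Over.OverMorphism.ext
  show (g.left ≫ x.left) ≫ pullback.fst q.left f = g.left ≫ x.left ≫ pullback.fst q.left f
  rw [Category.assoc]

/-- A point of the pullback from a point of the group. -/
noncomputable def mkX {T : Over W} (y : K w T ⟶ G) (h : y ≫ q = bp w f hf T) : T ⟶ X q f :=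
  Over.homMk (pullback.lift y.left T.hom (congrArg CommaMorphism.left h)) (pullback.lift_snd _ _ _)

theorem toG_mkX {T : Over W} (y : K w T ⟶ G) (h : y ≫ q = bp w f hf T) : toG q w f hf (mkX q w f hf y h) = y :=
  Over.OverMorphism.ext (pullback.lift_fst _ _ _)

/-- Transport of points of the additive group. -/
noncomputable def gaTr {T : Over W} (a : T ⟶ Red.Ga W) : K w T ⟶ Red.Ga (Spec (CommRingCat.of κ)) :=
  gaPt (X := K w T) (show Γ(T.left, ⊤) from Red.gaFn a)

theorem gaTr_mul {T : Over W} (a a' : T ⟶ Red.Ga W) : gaTr w (a * a') = gaTr w a * gaTr w a' :=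
  gaFn_injective (by simp only [gaTr, gaFn_gaPt, gaFn_mul])

theorem gaTr_one {T : Over W} : gaTr w (1 : T ⟶ Red.Ga W) = 1 :=
  gaFn_injective (by simp only [gaTr, gaFn_gaPt, gaFn_one])

theorem gaTr_comp {T T' : Over W} (g : T' ⟶ T) (a : T ⟶ Red.Ga W) :
    gaTr w (g ≫ a) = (Over.map w).map g ≫ gaTr w a :=
  gaFn_injective (by simp only [gaTr, gaFn_gaPt, gaFn_comp]; rfl)

variable [IsMonHom q] [IsMonHom i] (hker : AlgGrp.IsKernel i q)

include hker in
theorem comp_q {T : Over (Spec (CommRingCat.of κ))} (a : T ⟶ Red.Ga (Spec (CommRingCat.of κ))) :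
    (a ≫ i) ≫ q = 1 := by
  rw [Category.assoc, hker.w, ← Category.assoc, Hom.one_def, toUnit_unique (a ≫ toUnit _) (toUnit T)]

include hker in
theorem act_w {T : Over W} (a : T ⟶ Red.Ga W) (x : T ⟶ X q f) :
    ((gaTr w a ≫ i) * toG q w f hf x) ≫ q = bp w f hf T := by
  rw [MonObj.mul_comp _ _ q, comp_q q i hker, _root_.one_mul, toG_q]

/-- The action on points. -/
noncomputable def actPt {T : Over W} (a : T ⟶ Red.Ga W) (x : T ⟶ X q f) : T ⟶ X q f :=
  mkX q w f hf ((gaTr w a ≫ i) * toG q w f hf x) (act_w q i w f hf hker a x)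

theorem toG_actPt {T : Over W} (a : T ⟶ Red.Ga W) (x : T ⟶ X q f) :
    toG q w f hf (actPt q i w f hf hker a x) = (gaTr w a ≫ i) * toG q w f hf x := toG_mkX ..

theorem comp_actPt {T T' : Over W} (g : T' ⟶ T) (a : T ⟶ Red.Ga W) (x : T ⟶ X q f) :
    g ≫ actPt q i w f hf hker a x = actPt q i w f hf hker (g ≫ a) (g ≫ x) :=
  toG_injective q w f hf (by
    rw [toG_comp, toG_actPt, toG_actPt, gaTr_comp, toG_comp, MonObj.comp_mul, Category.assoc])

theorem actPt_one {T : Over W} (x : T ⟶ X q f) : actPt q i w f hf hker 1 x = x :=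
  toG_injective q w f hf (by rw [toG_actPt, gaTr_one, MonObj.one_comp i, _root_.one_mul])

theorem actPt_mul {T : Over W} (a a' : T ⟶ Red.Ga W) (x : T ⟶ X q f) :
    actPt q i w f hf hker (a * a') x = actPt q i w f hf hker a (actPt q i w f hf hker a' x) :=
  toG_injective q w f hf (by
    rw [toG_actPt, toG_actPt, toG_actPt, gaTr_mul, MonObj.mul_comp _ _ i, _root_.mul_assoc])

/-- The action. -/
noncomputable def action : AlgGrp.Action (Red.Ga W) (X q f) where
  act := actPt q i w f hf hker (fst _ _) (snd _ _)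
  one_act := by
    rw [comp_actPt, whiskerRight_fst, whiskerRight_snd,
      show fst (𝟙_ (Over W)) (X q f) ≫ η[Red.Ga W] = 1 by
        rw [Hom.one_def, toUnit_unique (toUnit _) (fst (𝟙_ (Over W)) (X q f))],
      actPt_one, leftUnitor_hom]
  mul_act := by
    rw [comp_actPt, whiskerRight_fst, whiskerRight_snd, MonObj.mul_eq_mul, MonObj.comp_mul, actPt_mul,
      comp_actPt, comp_actPt]
    simp only [comp_actPt, Category.assoc, whiskerLeft_fst, whiskerLeft_snd, associator_hom_fst,
      associator_hom_snd_fst, associator_hom_snd_snd, whiskerLeft_fst_assoc, whiskerLeft_snd_assoc,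
      associator_hom_fst_assoc, associator_hom_snd_fst_assoc, associator_hom_snd_snd_assoc]

theorem comp_act {T : Over W} (a : T ⟶ Red.Ga W) (x : T ⟶ X q f) :
    lift a x ≫ (action q i w f hf hker).act = actPt q i w f hf hker a x := by
  show lift a x ≫ actPt q i w f hf hker (fst _ _) (snd _ _) = _
  rw [comp_actPt, lift_fst, lift_snd]

include hker in
/-- Two points over the same point of the quotient differ by a unique point of the additive group. -/
theorem existsUnique_diff {T : Over W} (y x : T ⟶ X q f) :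
    ∃! a : T ⟶ Red.Ga W, actPt q i w f hf hker a x = y := by
  have h : (toG q w f hf y * (toG q w f hf x)⁻¹) ≫ q = toUnit _ ≫ η[Q] := by
    rw [MonObj.mul_comp _ _ q, GrpObj.inv_comp _ q, toG_q, toG_q, mul_inv_cancel, Hom.one_def]
  let c : K w T ⟶ Red.Ga (Spec (CommRingCat.of κ)) := hker.lift _ _ h
  have hc : c ≫ i = toG q w f hf y * (toG q w f hf x)⁻¹ := hker.lift_fst _ _ h
  refine ⟨gaPt (X := T) (show Γ((K w T).left, ⊤) from Red.gaFn c), toG_injective q w f hf ?_, fun a ha => gaFn_injective ?_⟩
  · rw [toG_actPt, show gaTr w (gaPt (X := T) (show Γ((K w T).left, ⊤) from Red.gaFn c)) = c from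
      gaFn_injective (by rw [gaTr, gaFn_gaPt, gaFn_gaPt]), hc, inv_mul_cancel_right]
  · have h1 : gaTr w a ≫ i = c ≫ i := by
      rw [hc, eq_mul_inv_iff_mul_eq, ← toG_actPt q i w f hf hker, ha]
    have h2 : gaTr w a = c := hker.hom_ext h1 (toUnit_unique _ _)
    rw [gaFn_gaPt, ← h2, gaTr, gaFn_gaPt]

theorem isPseudoTorsor : NonAbH1.IsPseudoTorsorSch (action q i w f hf hker) := by
  let A := action q i w f hf hker
  obtain ⟨a, ha, -⟩ := existsUnique_diff q i w f hf hker (fst (X q f) (X q f)) (snd (X q f) (X q f))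
  refine ⟨⟨lift a (snd _ _), ?_, ?_⟩⟩
  · apply CartesianMonoidalCategory.hom_ext
    · rw [Category.assoc, lift_fst, Category.id_comp]
      obtain ⟨a', -, huniq⟩ := existsUnique_diff q i w f hf hker A.act (snd (Red.Ga W) (X q f))
      refine (huniq _ ?_).trans (huniq _ rfl).symm
      have h1 := congrArg (lift A.act (snd (Red.Ga W) (X q f)) ≫ ·) ha
      simp only [comp_actPt, lift_fst, lift_snd] at h1
      exact h1
    · rw [Category.assoc, lift_snd, lift_snd, Category.id_comp]
  · apply CartesianMonoidalCategory.hom_ext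
    · rw [Category.assoc, lift_fst, comp_act, ha, Category.id_comp]
    · rw [Category.assoc, lift_snd, lift_snd, Category.id_comp]

variable [Smooth Q.hom] [Smooth G.hom] [QuasiCompact G.hom] [Flat q.left]

include hker hf in
/-- Zariski locally on the base the pullback of the extension has a section. -/
theorem exists_section (hq : Function.Surjective q.left.base) (x : W) :
    ∃ (U : Scheme.{u}) (j : U ⟶ W) (s : U ⟶ G.left), IsOpenImmersion j ∧ x ∈ Set.range j ∧
      s ≫ q.left = j ≫ f := by
  haveI : IsSeparated Q.hom := AlgGrp79.isSeparated_grp Q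
  haveI : QuasiCompact q.left := by
    haveI : QuasiCompact (q.left ≫ Q.hom) := by rw [Over.w]; infer_instance
    exact QuasiCompact.of_comp q.left Q.hom
  haveI : Surjective q.left := ⟨hq⟩
  haveI : Smooth (Red.Ga W).hom := GaBasic.smooth_Ga W
  haveI : IsAffineHom (Red.Ga W).hom := GaBasic.isAffineHom_Ga W
  haveI : Flat (Red.Ga W).hom := inferInstance
  haveI : QuasiCompact (Red.Ga W).hom := inferInstance
  have htors : NonAbH1.IsTorsorFor Scheme.fpqcPrecoverage (action q i w f hf hker) :=
    (S6003.result (Red.Ga W) (X q f) _).2 ⟨isPseudoTorsor q i w f hf hker,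
      inferInstanceAs (Surjective (pullback.snd q.left f)), inferInstanceAs (Flat (pullback.snd q.left f)),
      inferInstanceAs (QuasiCompact (pullback.snd q.left f))⟩
  obtain ⟨R, hR, hsec⟩ := (S6006.result (X q f) _ htors).2
  obtain ⟨U, j, hj, hx⟩ : ∃ (U : Scheme.{u}) (j : U ⟶ W), R j ∧ x ∈ Set.range j := by
    have h := hR.1 x
    obtain ⟨Y, g, hg, hxg⟩ := h
    obtain ⟨hg⟩ := hg
    exact ⟨_, _, hg, hxg⟩
  obtain ⟨s, hs⟩ := hsec j hj
  refine ⟨U, j, s ≫ pullback.fst q.left f, hR.2 hj, hx, ?_⟩
  rw [Category.assoc, pullback.condition, ← Category.assoc]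
  exact congrArg (· ≫ f) hs

end Groth.Agent.NeronHD28.GaExt
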