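import Groth.Agent.NeronHD28.GaExtTorsor
import Groth.Agent.LimDesc62.Points
import Mathlib.AlgebraicGeometry.AffineSpace

/-! An extension by the additive group of a unirational group is unirational. -/

set_option autoImplicit false
set_option linter.style.haveILetI false
universe u

open CategoryTheory CategoryTheory.Limits MonoidalCategory CartesianMonoidalCategory MonObj AlgebraicGeometry

namespace Groth.Agent.NeronHD28.GaExt

open RedPts82

variable {κ : Type u} [Field κ]

local notation "k₀" => Spec (CommRingCat.of κ)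

variable {G Q : Over (Spec (CommRingCat.of κ))} [GrpObj G] [GrpObj Q]
  (q : G ⟶ Q) (i : Red.Ga (Spec (CommRingCat.of κ)) ⟶ G) [IsMonHom q] [IsMonHom i]
  [Smooth Q.hom] [Smooth G.hom] [QuasiCompact G.hom] [Flat q.left]

/-- Forgetting the last coordinate. -/
noncomputable def proj (κ : Type u) [Field κ] (n : ℕ) :
    AffineSpace (ULift.{u} (Fin (n + 1))) (Spec (CommRingCat.of κ)) ⟶
      AffineSpace (ULift.{u} (Fin n)) (Spec (CommRingCat.of κ)) :=
  AffineSpace.reindex (fun a : ULift.{u} (Fin n) => ULift.up a.down.castSucc) _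

/-- The points of an open of the affine space through which the group is unirational. -/
theorem unirational (hq : Function.Surjective q.left.base) (hker : AlgGrp.IsKernel i q) {n : ℕ}
    (V : (AffineSpace (ULift.{u} (Fin n)) (Spec (CommRingCat.of κ))).Opens) (ψ : (V : Scheme.{u}) ⟶ Q.left)
    (hne : (V : Set (AffineSpace (ULift.{u} (Fin n)) (Spec (CommRingCat.of κ)))).Nonempty)
    (hψ : DenseRange ψ.base)
    (hw : ψ ≫ Q.hom = V.ι ≫ (AffineSpace (ULift.{u} (Fin n)) (Spec (CommRingCat.of κ)) ↘ Spec (CommRingCat.of κ))) :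
    ∃ (m : ℕ) (P : (AffineSpace (ULift.{u} (Fin m)) (Spec (CommRingCat.of κ))).Opens)
        (φ : (P : Scheme.{u}) ⟶ G.left),
      (P : Set (AffineSpace (ULift.{u} (Fin m)) (Spec (CommRingCat.of κ)))).Nonempty ∧ DenseRange φ.base ∧
      φ ≫ G.hom = P.ι ≫ (AffineSpace (ULift.{u} (Fin m)) (Spec (CommRingCat.of κ)) ↘ Spec (CommRingCat.of κ)) := by
  let An := AffineSpace (ULift.{u} (Fin n)) (Spec (CommRingCat.of κ))
  let Ap := AffineSpace (ULift.{u} (Fin (n + 1))) (Spec (CommRingCat.of κ))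
  haveI : IrreducibleSpace (V : Scheme.{u}) :=
    Subtype.irreducibleSpace ⟨hne, (IrreducibleSpace.isIrreducible_univ An).2.open_subset V.2 (Set.subset_univ _)⟩
  obtain ⟨x₀, hx₀⟩ := hne
  obtain ⟨U, j, s, hj, hxj, hs⟩ :=
    exists_section q i (ψ ≫ Q.hom) ψ rfl hker hq (⟨x₀, hx₀⟩ : (V : Scheme.{u}))
  haveI := hj
  -- the open of the bigger affine space
  let e : U ⟶ An := j ≫ V.ι
  let P : Ap.Opens := proj κ n ⁻¹ᵁ e.opensRange
  let h : (P : Scheme.{u}) ⟶ U := IsOpenImmersion.lift e (P.ι ≫ proj κ n) (by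
    rintro _ ⟨p, rfl⟩
    exact p.2)
  have hh : h ≫ j ≫ V.ι = P.ι ≫ proj κ n := IsOpenImmersion.lift_fac e _ _
  let XP : Over (Spec (CommRingCat.of κ)) := Over.mk (P.ι ≫ (Ap ↘ Spec (CommRingCat.of κ)))
  let xP : XP ⟶ G := Over.homMk (h ≫ s) (by
    show (h ≫ s) ≫ G.hom = P.ι ≫ _
    rw [← Over.w q, Category.assoc, reassoc_of% hs, hw, ← Category.assoc, ← Category.assoc, Category.assoc h,
      hh, Category.assoc, proj, AffineSpace.reindex_over])
  let r : Γ(XP.left, ⊤) := P.ι.appTop (AffineSpace.coord _ (ULift.up (Fin.last n)))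
  let φ : XP ⟶ G := (gaPt (X := XP) r ≫ i) * xP
  refine ⟨n + 1, P, φ.left, ?_⟩
  -- the range contains the preimage of a dense set
  have hcov : q.left.base ⁻¹' Set.range (j ≫ ψ).base ⊆ Set.range φ.left.base := by
    rintro g ⟨a, ha⟩
    obtain ⟨z, hz, -⟩ := Scheme.Pullback.exists_preimage_pullback (f := q.left) (g := j ≫ ψ) g a ha.symm
    let T : Over (Spec (CommRingCat.of κ)) := Over.mk (pullback.fst q.left (j ≫ ψ) ≫ G.hom)
    let y : T ⟶ G := Over.homMk (pullback.fst q.left (j ≫ ψ))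
    let x : T ⟶ G := Over.homMk (pullback.snd q.left (j ≫ ψ) ≫ s) (by
      show _ = pullback.fst q.left (j ≫ ψ) ≫ G.hom
      rw [← Over.w q, pullback.condition_assoc, Category.assoc, reassoc_of% hs, Category.assoc])
    have hxy : x ≫ q = y ≫ q := by
      apply Over.OverMorphism.ext
      show (pullback.snd q.left (j ≫ ψ) ≫ s) ≫ q.left = pullback.fst q.left (j ≫ ψ) ≫ q.left
      rw [pullback.condition, Category.assoc, hs]
    have hd : (y * x⁻¹) ≫ q = toUnit _ ≫ η[Q] := by
      rw [MonObj.mul_comp _ _ q, GrpObj.inv_comp _ q, hxy, mul_inv_cancel, Hom.one_def]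
    let c : T ⟶ Red.Ga (Spec (CommRingCat.of κ)) := hker.lift _ _ hd
    have hc : c ≫ i = y * x⁻¹ := hker.lift_fst _ _ hd
    let vn : ULift.{u} (Fin n) → Γ(T.left, ⊤) := fun a =>
      (pullback.snd q.left (j ≫ ψ) ≫ j ≫ V.ι).appTop (AffineSpace.coord _ a)
    let m : T.left ⟶ Ap := AffineSpace.homOfVector T.hom
      (fun a => Fin.snoc (α := fun _ => Γ(T.left, ⊤)) (fun b => vn (ULift.up b)) (Red.gaFn c) a.down)
    have hm : m ≫ proj κ n = pullback.snd q.left (j ≫ ψ) ≫ j ≫ V.ι := by
      apply AffineSpace.hom_ext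
      · rw [Category.assoc, proj, AffineSpace.reindex_over, AffineSpace.homOfVector_over, Category.assoc,
          Category.assoc, ← hw]
        show pullback.fst q.left (j ≫ ψ) ≫ G.hom = _
        rw [← Over.w q, pullback.condition_assoc, Category.assoc]
      · intro a
        rw [Scheme.Hom.comp_appTop, CommRingCat.comp_apply, proj, AffineSpace.reindex_appTop_coord,
          AffineSpace.homOfVector_appTop_coord]
        exact Fin.snoc_castSucc (α := fun _ => Γ(T.left, ⊤)) _ _ a.down
    let m' : T.left ⟶ (P : Scheme.{u}) := IsOpenImmersion.lift P.ι m (by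
      rintro _ ⟨t, rfl⟩
      rw [Scheme.Opens.range_ι]
      show (proj κ n).base (m.base t) ∈ e.opensRange
      exact ⟨(pullback.snd q.left (j ≫ ψ)).base t, (congrArg (fun f => f.base t) hm).symm⟩)
    have hm' : m' ≫ P.ι = m := IsOpenImmersion.lift_fac _ _ _
    have hm'h : m' ≫ h = pullback.snd q.left (j ≫ ψ) := by
      rw [← cancel_mono e, Category.assoc, hh, reassoc_of% hm', hm]
    let mO : T ⟶ XP := Over.homMk m' (by
      show m' ≫ P.ι ≫ _ = T.hom
      rw [reassoc_of% hm', AffineSpace.homOfVector_over])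
    have h1 : mO ≫ gaPt (X := XP) r = c := by
      apply gaFn_injective
      rw [gaFn_comp, gaFn_gaPt]
      show m'.appTop (P.ι.appTop (AffineSpace.coord _ (ULift.up (Fin.last n)))) = _
      rw [← CommRingCat.comp_apply, ← Scheme.Hom.comp_appTop, hm', AffineSpace.homOfVector_appTop_coord]
      exact Fin.snoc_last (α := fun _ => Γ(T.left, ⊤)) _ _
    have h2 : mO ≫ xP = x := by
      apply Over.OverMorphism.ext
      show m' ≫ h ≫ s = pullback.snd q.left (j ≫ ψ) ≫ s
      rw [reassoc_of% hm'h]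
    have h3 : mO ≫ φ = y := by
      rw [MonObj.comp_mul, ← Category.assoc, h1, hc, h2, inv_mul_cancel_right]
    refine ⟨m'.base z, ?_⟩
    rw [← hz]
    exact congrArg (fun f : T ⟶ G => f.left.base z) h3
  have hjψ : Dense (Set.range (j ≫ ψ).base) := by
    have h1 : Dense (Set.range j.base) := j.isOpenEmbedding.isOpen_range.dense ⟨_, hxj.choose, rfl⟩
    have h2 : DenseRange (ψ.base ∘ j.base) := hψ.comp h1 ψ.continuous
    simpa [DenseRange, Scheme.Hom.comp_base] using h2
  haveI : LocallyOfFinitePresentation q.left := by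
    haveI : LocallyOfFinitePresentation (q.left ≫ Q.hom) := by rw [Over.w]; infer_instance
    exact LimDesc62.lfp_of_comp q.left Q.hom
  have hd : Dense (Set.range φ.left.base) := (hjψ.preimage q.left.isOpenMap).mono hcov
  refine ⟨?_, hd, Over.w φ⟩
  obtain ⟨g, hg⟩ := hq ((j ≫ ψ).base hxj.choose)
  obtain ⟨p, -⟩ := hcov (show g ∈ q.left.base ⁻¹' Set.range (j ≫ ψ).base from ⟨_, hg.symm⟩)
  exact ⟨P.ι.base p, p.2⟩

end Groth.Agent.NeronHD28.GaExt
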