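import Groth.Agent.NeronHD28.NeutralDVR
import Mathlib.RingTheory.Multiplicity

/-! A regular function on the neutral open of an affine model with nonzero special restriction. -/

set_option autoImplicit false
set_option linter.style.haveILetI false
universe u

open CategoryTheory CategoryTheory.Limits MonoidalCategory CartesianMonoidalCategory MonObj AlgebraicGeometry

namespace Groth.Agent.NeronHD28.Neutral

variable {R : Type u} [CommRing R] [IsDomain R] [IsDiscreteValuationRing R]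

theorem appTop_fn {X Y : Over (Spec (CommRingCat.of R))} (g : X ⟶ Y) (r : R) :
    g.left.appTop (fn (X := Y) r) = fn (X := X) r := by
  show (Y.hom.appTop ≫ g.left.appTop) _ = X.hom.appTop _
  rw [← Scheme.Hom.comp_appTop, Over.w g]

theorem fn_mul (X : Over (Spec (CommRingCat.of R))) (r s : R) :
    fn (X := X) (r * s) = fn (X := X) r * fn (X := X) s := by
  simp only [fn, map_mul]

theorem fn_one (X : Over (Spec (CommRingCat.of R))) : fn (X := X) (1 : R) = 1 := by
  simp only [fn, map_one]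

theorem fn_pow (X : Over (Spec (CommRingCat.of R))) (r : R) (n : ℕ) :
    fn (X := X) (r ^ n) = fn (X := X) r ^ n := by
  simp only [fn, map_pow]

theorem isUnit_fn_generic (K : Type u) [Field K] [Algebra R K] [IsFractionRing R K]
    (Z : Over (Spec (CommRingCat.of K))) {r : R} (hr : r ≠ 0) :
    IsUnit (fn (X := (Over.map (GmModel.gen R K)).obj Z) r) := by
  have h : IsUnit ((Scheme.ΓSpecIso (CommRingCat.of K)).inv (algebraMap R K r)) :=
    ((isUnit_iff_ne_zero.2 fun h0 => hr (IsFractionRing.injective R K (h0.trans (map_zero _).symm))).map _)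
  have h2 := h.map Z.hom.appTop.hom
  have e : (GmModel.gen R K).appTop ((Scheme.ΓSpecIso (CommRingCat.of R)).inv r) =
      (Scheme.ΓSpecIso (CommRingCat.of K)).inv (algebraMap R K r) :=
    (congr($(Scheme.ΓSpecIso_inv_naturality (CommRingCat.ofHom (algebraMap R K))) r)).symm
  show IsUnit ((Z.hom ≫ GmModel.gen R K).appTop _)
  rw [Scheme.Hom.comp_appTop]
  show IsUnit (Z.hom.appTop ((GmModel.gen R K).appTop _))
  rw [e]
  exact h2

theorem isOpenImmersion_gen (K : Type u) [Field K] [Algebra R K] [IsFractionRing R K] {ϖ : R}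
    (hϖ : Irreducible ϖ) : IsOpenImmersion (GmModel.gen R K) := by
  have hK : algebraMap R K ϖ ≠ 0 := fun h => hϖ.ne_zero (IsFractionRing.injective R K (h.trans (map_zero _).symm))
  haveI : IsLocalization.Away ϖ K := by
    refine IsLocalization.Away.mk ϖ (isUnit_iff_ne_zero.2 hK) (fun z => ?_) fun a b h => ⟨0, ?_⟩
    · obtain ⟨a, b, hb, rfl⟩ := IsFractionRing.div_surjective R z
      obtain ⟨n, u, hu⟩ := IsDiscreteValuationRing.associated_pow_irreducible (nonZeroDivisors.ne_zero hb) hϖ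
      refine ⟨n, a * u, ?_⟩
      have hb0 : algebraMap R K b ≠ 0 := fun h =>
        nonZeroDivisors.ne_zero hb (IsFractionRing.injective R K (h.trans (map_zero _).symm))
      rw [← map_pow, ← hu, map_mul, map_mul, div_mul_eq_mul_div, div_eq_iff hb0]
      ring
    · rw [pow_zero, _root_.one_mul, _root_.one_mul]
      exact IsFractionRing.injective R K h
  exact IsOpenImmersion.of_isLocalization ϖ

theorem range_fst_gen (K : Type u) [Field K] [Algebra R K] [IsFractionRing R K] {ϖ : R}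
    (hϖ : Irreducible ϖ) (G : Over (Spec (CommRingCat.of R))) :
    Set.range (pullback.fst G.hom (GmModel.gen R K)) = G.left.basicOpen (fn (X := G) ϖ) := by
  ext x
  rw [RedPts82.HomExt.mem_range_fst_iff (GmModel.gen R K) (GmModel.range_gen R K) G x]
  constructor
  · intro h
    rw [SetLike.mem_coe, mem_basicOpen_fn, h, genericPoint_eq_bot_of_affine]
    exact fun h0 => hϖ.ne_zero ((Ideal.mem_bot (R := R)).1 h0)
  · intro h
    rw [SetLike.mem_coe, mem_basicOpen_fn] at h
    rw [genericPoint_eq_bot_of_affine]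
    refine PrimeSpectrum.ext ?_
    by_contra hne
    apply h
    have hmax := IsLocalRing.eq_maximalIdeal (((G.hom x : PrimeSpectrum R).isPrime).isMaximal hne)
    rw [hmax, hϖ.maximalIdeal_eq]
    exact Ideal.mem_span_singleton_self ϖ

theorem dvd_of_special_eq_zero {X : Over (Spec (CommRingCat.of R))} [IsAffine X.left] {ϖ : R}
    (hϖ : IsLocalRing.maximalIdeal R = Ideal.span {ϖ}) (f : Γ(X.left, ⊤))
    (h : (pullback.fst X.hom (closedPt R)).appTop f = 0) : fn (X := X) ϖ ∣ f := by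
  let I := Ideal.span {fn (X := X) ϖ}
  let q : Γ(X.left, ⊤) →+* Γ(X.left, ⊤) ⧸ I := Ideal.Quotient.mk I
  let g : R →+* Γ(X.left, ⊤) ⧸ I :=
    q.comp (X.hom.appTop.hom.comp (Scheme.ΓSpecIso (CommRingCat.of R)).inv.hom)
  let lk : IsLocalRing.ResidueField R →+* Γ(X.left, ⊤) ⧸ I :=
    Ideal.Quotient.lift (IsLocalRing.maximalIdeal R) g fun a ha => by
      rw [hϖ] at ha
      obtain ⟨c, rfl⟩ := Ideal.mem_span_singleton'.1 ha
      show g (c * ϖ) = 0
      rw [map_mul, show g ϖ = 0 from Ideal.Quotient.eq_zero_iff_mem.2 (Ideal.mem_span_singleton_self _), mul_zero]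
  let τ : Spec (CommRingCat.of (Γ(X.left, ⊤) ⧸ I)) ⟶ X.left :=
    Spec.map (CommRingCat.ofHom q) ≫ X.left.isoSpec.inv
  have hτ : τ.appTop = CommRingCat.ofHom q ≫ (Scheme.ΓSpecIso (CommRingCat.of (Γ(X.left, ⊤) ⧸ I))).inv := by
    show (Spec.map (CommRingCat.ofHom q) ≫ X.left.isoSpec.inv).appTop = _
    rw [Scheme.Hom.comp_appTop, RedPts82.isoSpec_inv_appTop, ← Scheme.ΓSpecIso_inv_naturality]
  have hw : τ ≫ X.hom = Spec.map (CommRingCat.ofHom lk) ≫ closedPt R := by
    rw [← Spec.map_comp]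
    apply ext_of_isAffine
    rw [Scheme.Hom.comp_appTop, hτ, ← cancel_epi (Scheme.ΓSpecIso (CommRingCat.of R)).inv,
      ← Scheme.ΓSpecIso_inv_naturality]
    rfl
  have h1 : τ.appTop f = 0 := by
    rw [← pullback.lift_fst τ (Spec.map (CommRingCat.ofHom lk)) hw, Scheme.Hom.comp_appTop]
    show (pullback.lift τ _ hw).appTop ((pullback.fst X.hom (closedPt R)).appTop f) = 0
    rw [h, map_zero]
  rw [hτ] at h1
  have h2 : q f = 0 :=
    (Scheme.ΓSpecIso (CommRingCat.of (Γ(X.left, ⊤) ⧸ I))).commRingCatIsoToRingEquiv.symm.injective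
      (h1.trans (map_zero _).symm)
  exact Ideal.mem_span_singleton.1 (Ideal.Quotient.eq_zero_iff_mem.1 h2)

theorem exists_scaled {Z X : Scheme.{u}} [IsAffine X] (j : Z ⟶ X) [IsOpenImmersion j] (f : Γ(X, ⊤))
    (hr : Set.range j = X.basicOpen f) (a : Γ(Z, ⊤)) :
    ∃ (N : ℕ) (t : Γ(X, ⊤)), j.appTop t = j.appTop f ^ N * a := by
  let D := X.basicOpen f
  have hpre : (⊤ : Z.Opens) = j ⁻¹ᵁ D := by
    ext z
    exact ⟨fun _ => (Set.ext_iff.1 hr (j z)).1 ⟨z, rfl⟩, fun _ => trivial⟩
  haveI : IsIso (j.app D) := j.isIso_app D (fun x hx => show x ∈ Set.range j from hr.symm ▸ hx)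
  obtain ⟨a', ha'⟩ := (ConcreteCategory.bijective_of_isIso (j.app D)).2
    (Z.presheaf.map (eqToHom hpre.symm).op a)
  letI := (X.presheaf.map (homOfLE (X.basicOpen_le f)).op).hom.toAlgebra
  haveI : IsLocalization.Away f Γ(X, D) := (isAffineOpen_top X).isLocalization_basicOpen f
  obtain ⟨N, t, ht⟩ := IsLocalization.Away.surj (S := Γ(X, D)) f a'
  refine ⟨N, t, ?_⟩
  have hnat : ∀ y, j.app D (X.presheaf.map (homOfLE (X.basicOpen_le f)).op y) =
      Z.presheaf.map (eqToHom hpre.symm).op (j.appTop y) := by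
    intro y
    have := congr($(j.naturality (homOfLE (X.basicOpen_le f)).op) y)
    refine this.trans ?_
    rfl
  haveI : IsIso (Z.presheaf.map (eqToHom hpre.symm).op) := inferInstance
  apply (ConcreteCategory.bijective_of_isIso (Z.presheaf.map (eqToHom hpre.symm).op)).1
  rw [← hnat, map_mul, map_pow, ← ha', ← hnat]
  show j.app D (algebraMap Γ(X, ⊤) Γ(X, D) t) = j.app D (algebraMap Γ(X, ⊤) Γ(X, D) f) ^ N * j.app D a'
  rw [← ht, map_mul, map_pow, mul_comm]

theorem exists_glue {X : Scheme.{u}} (U₁ U₂ : X.Opens) (s₁ : Γ(X, U₁)) (s₂ : Γ(X, U₂))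
    (h : X.presheaf.map (homOfLE (inf_le_left : U₁ ⊓ U₂ ≤ U₁)).op s₁ =
      X.presheaf.map (homOfLE (inf_le_right : U₁ ⊓ U₂ ≤ U₂)).op s₂) :
    ∃ s : Γ(X, U₁ ⊔ U₂), X.presheaf.map (homOfLE (le_sup_left : U₁ ≤ U₁ ⊔ U₂)).op s = s₁ ∧
      X.presheaf.map (homOfLE (le_sup_right : U₂ ≤ U₁ ⊔ U₂)).op s = s₂ := by
  let Uf : ULift.{u} Bool → X.Opens := fun i => cond i.down U₁ U₂
  let sf : ∀ i, Γ(X, Uf i) := fun i => match i with
    | ⟨true⟩ => s₁
    | ⟨false⟩ => s₂
  have hc : TopCat.Presheaf.IsCompatible X.sheaf.obj Uf sf := by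
    rintro ⟨_ | _⟩ ⟨_ | _⟩
    · rfl
    · have h' := congrArg (X.presheaf.map (eqToHom (inf_comm U₂ U₁)).op) h
      simp only [← ConcreteCategory.comp_apply, ← Functor.map_comp] at h'
      exact h'.symm
    · exact h
    · rfl
  obtain ⟨s, hs, -⟩ := X.sheaf.existsUnique_gluing' Uf (U₁ ⊔ U₂)
    (fun i => homOfLE (match i with
      | ⟨true⟩ => le_sup_left
      | ⟨false⟩ => le_sup_right))
    (by
      intro x hx
      rw [TopologicalSpace.Opens.mem_iSup]
      rcases hx with hx | hx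
      · exact ⟨⟨true⟩, hx⟩
      · exact ⟨⟨false⟩, hx⟩) sf hc
  exact ⟨s, hs ⟨true⟩, hs ⟨false⟩⟩

theorem res_res (X : Scheme.{u}) {U V W : X.Opens} (h₁ : V ≤ U) (h₂ : W ≤ V) (x : Γ(X, U)) :
    X.presheaf.map (homOfLE h₂).op (X.presheaf.map (homOfLE h₁).op x) = X.presheaf.map (homOfLE (h₂.trans h₁)).op x := by
  rw [← ConcreteCategory.comp_apply, ← Functor.map_comp]
  rfl

variable (K : Type u) [Field K] [Algebra R K] [IsFractionRing R K]
  (G : Over (Spec (CommRingCat.of R))) [IsAffineHom G.hom] [IsIntegral G.left] [IsLocallyNoetherian G.left]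

theorem exists_function {ϖ : R} (hϖ : Irreducible ϖ) (ε : Γ(G.left, ⊤))
    (hne : ∃ x : G.left, x ∈ G.left.basicOpen ε ∧ G.hom x = IsLocalRing.closedPoint R)
    (tG : Γ(((Over.map (GmModel.gen R K)).obj (Red.bc (GmModel.gen R K) G)).left, ⊤)) (htG : tG ≠ 0) :
    ∃ (N j : ℕ) (u : Γ((Over.mk ((nbhd G ϖ ε).ι ≫ G.hom)).left, ⊤)),
      (RedPts82.toBase (GmModel.gen R K) (𝟙 (Red.bc (GmModel.gen R K) (Over.mk ((nbhd G ϖ ε).ι ≫ G.hom))))).left.appTop u *
          fn (X := (Over.map (GmModel.gen R K)).obj (Red.bc (GmModel.gen R K) (Over.mk ((nbhd G ϖ ε).ι ≫ G.hom)))) (ϖ ^ j) =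
        ((Over.map (GmModel.gen R K)).map ((Over.pullback (GmModel.gen R K)).map
            (Over.homMk (nbhd G ϖ ε).ι rfl : Over.mk ((nbhd G ϖ ε).ι ≫ G.hom) ⟶ G))).left.appTop tG *
          fn (X := (Over.map (GmModel.gen R K)).obj (Red.bc (GmModel.gen R K) (Over.mk ((nbhd G ϖ ε).ι ≫ G.hom)))) (ϖ ^ N) ∧
      (pullback.fst (Over.mk ((nbhd G ϖ ε).ι ≫ G.hom)).hom (closedPt R)).appTop u ≠ 0 := by
  classical
  let b := GmModel.gen R K
  haveI : IsAffine G.left := isAffine_of_isAffineHom G.hom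
  haveI := isOpenImmersion_gen K hϖ
  let Gb := (Over.map b).obj (Red.bc b G)
  let jb : Gb ⟶ G := RedPts82.toBase b (𝟙 _)
  have hjb : jb.left = pullback.fst G.hom b := (RedPts82.toBase_left _ _).trans (Category.id_comp _)
  haveI : IsOpenImmersion jb.left := hjb ▸ inferInstanceAs (IsOpenImmersion (pullback.fst G.hom b))
  have hr : Set.range jb.left = G.left.basicOpen (fn (X := G) ϖ) := hjb ▸ range_fst_gen K hϖ G
  obtain ⟨N, t₀, ht₀⟩ := exists_scaled jb.left (fn (X := G) ϖ) hr tG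
  rw [appTop_fn] at ht₀
  have ht0 : t₀ ≠ 0 := by
    intro h0
    rw [h0, map_zero] at ht₀
    exact htG ((((isUnit_fn_generic K (Red.bc b G) hϖ.ne_zero).pow N).mul_right_eq_zero).1 ht₀.symm)
  let De := G.left.basicOpen ε
  let Dp := G.left.basicOpen (fn (X := G) ϖ)
  obtain ⟨x₀, hx₀, hx₀c⟩ := hne
  haveI : Nonempty De.toScheme := ⟨⟨x₀, hx₀⟩⟩
  haveI : IsNoetherianRing Γ(G.left, De) :=
    IsLocallyNoetherian.component_noetherian ⟨De, (isAffineOpen_top G.left).basicOpen ε⟩
  let re := G.left.presheaf.map (homOfLE (le_top : De ≤ ⊤)).op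
  let rp := G.left.presheaf.map (homOfLE (le_top : Dp ≤ ⊤)).op
  have hre : Function.Injective re := map_injective_of_isIntegral G.left _
  have hπ0 : re (fn (X := G) ϖ) ≠ 0 := by
    intro h0
    have h1 : fn (X := G) ϖ = 0 := hre (h0.trans (map_zero _).symm)
    have h2 : Dp = ⊥ := by
      show G.left.basicOpen _ = ⊥
      rw [h1]
      exact G.left.basicOpen_zero _
    obtain ⟨z⟩ : Nonempty Gb.left := by
      by_contra hemp
      haveI := not_nonempty_iff.1 hemp
      exact htG (Subsingleton.elim _ _)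
    have hz : jb.left z ∈ Dp := show jb.left z ∈ (G.left.basicOpen (fn (X := G) ϖ) : Set G.left) from hr ▸ ⟨z, rfl⟩
    rw [h2] at hz
    exact hz
  have hπu : ¬ IsUnit (re (fn (X := G) ϖ)) := by
    intro hu
    have h1 : De ≤ Dp := by
      have h2 := G.left.basicOpen_of_isUnit hu
      rw [Scheme.basicOpen_res] at h2
      exact fun x hx => ((le_of_eq h2.symm) hx).2
    have := h1 hx₀
    rw [mem_basicOpen_fn, hx₀c] at this
    exact this hϖ.not_isUnit
  obtain ⟨v, hv, htv⟩ := (FiniteMultiplicity.of_not_isUnit hπu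
    (fun h => ht0 (hre (h.trans (map_zero _).symm)))).exists_eq_pow_mul_and_not_dvd
  generalize multiplicity (re (fn (X := G) ϖ)) (re t₀) = j at hv
  have hup : IsUnit (rp (fn (X := G) ϖ)) := RingedSpace.isUnit_res_basicOpen _ _
  obtain ⟨πi, hπi⟩ := isUnit_iff_exists_inv.1 hup
  let Di := Dp ⊓ De
  let r1 := G.left.presheaf.map (homOfLE (inf_le_left : Di ≤ Dp)).op
  let r2 := G.left.presheaf.map (homOfLE (inf_le_right : Di ≤ De)).op
  have hres : ∀ y, r1 (rp y) = r2 (re y) := fun y => by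
    show (rp ≫ r1) y = (re ≫ r2) y
    simp only [rp, r1, re, r2, ← Functor.map_comp]
    rfl
  have hcompat : r1 (rp t₀ * πi ^ j) = r2 v := by
    rw [map_mul, hres, hv, map_mul, map_pow, map_pow, ← hres, mul_comm (r1 _ ^ j), _root_.mul_assoc, ← mul_pow,
      ← map_mul, hπi, map_one, one_pow, _root_.mul_one]
  obtain ⟨u₀', hu1', hu2'⟩ := exists_glue Dp De (rp t₀ * πi ^ j) v hcompat
  let U := nbhd G ϖ ε
  let V := Over.mk (U.ι ≫ G.hom)
  let u₀ : Γ(G.left, U) := u₀'
  have hu1 : G.left.presheaf.map (homOfLE (le_sup_left : Dp ≤ U)).op u₀ = rp t₀ * πi ^ j := hu1'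
  have hu2 : G.left.presheaf.map (homOfLE (le_sup_right : De ≤ U)).op u₀ = v := hu2'
  let u : Γ(V.left, ⊤) := U.topIso.inv u₀
  have hpU : Dp ≤ U := le_sup_left
  have heU : De ≤ U := le_sup_right
  let rU := G.left.presheaf.map (homOfLE (le_top : U ≤ ⊤)).op
  have hUι : ∀ y, U.ι.appTop y = U.topIso.inv (rU y) := fun y => by
    show _ = (rU ≫ U.topIso.inv) y
    rw [show U.ι.appTop = rU ≫ U.topIso.inv from by
      rw [Scheme.Opens.ι_appTop, Scheme.Opens.topIso_inv]
      exact (Functor.map_comp _ _ _).trans (by rfl)]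
  -- the identity on the open `Dp`
  have hp : ∀ (T : Scheme.{u}) (g : T ⟶ U.toScheme), (∀ z, (g ≫ U.ι) z ∈ Dp) →
      g.appTop u * (g ≫ U.ι).appTop (fn (X := G) ϖ) ^ j = (g ≫ U.ι).appTop t₀ := by
    intro T g hg
    let l : T ⟶ Dp.toScheme := IsOpenImmersion.lift Dp.ι (g ≫ U.ι) (by
      rw [Scheme.Opens.range_ι]
      rintro _ ⟨z, rfl⟩
      exact hg z)
    have hl : g = l ≫ G.left.homOfLE hpU := by
      rw [← cancel_mono U.ι, Category.assoc, Scheme.homOfLE_ι, IsOpenImmersion.lift_fac]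
    have key : ∀ w : Γ(G.left, U), g.appTop (U.topIso.inv w) =
        l.appTop (Dp.topIso.inv (G.left.presheaf.map (homOfLE hpU).op w)) := fun w => by
      rw [hl, Scheme.Hom.comp_appTop]
      show l.appTop ((G.left.homOfLE hpU).appTop _) = _
      congr 1
      show (U.topIso.inv ≫ (G.left.homOfLE hpU).appTop) w = (G.left.presheaf.map (homOfLE hpU).op ≫ Dp.topIso.inv) w
      congr 2
      rw [Scheme.Opens.topIso_inv, Scheme.Opens.topIso_inv, Scheme.homOfLE_appTop]
      exact ((G.left.presheaf.map_comp _ _).symm.trans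
        (congrArg G.left.presheaf.map (Subsingleton.elim _ _))).trans (G.left.presheaf.map_comp _ _)
    have key' : ∀ y, (g ≫ U.ι).appTop y = l.appTop (Dp.topIso.inv (rp y)) := fun y => by
      show g.appTop (U.ι.appTop y) = _
      rw [hUι, key]
      rw [res_res G.left (le_top : U ≤ ⊤) hpU y]
    rw [key, key', key', show G.left.presheaf.map (homOfLE hpU).op u₀ = rp t₀ * πi ^ j from hu1, ← map_pow, ← map_pow, ← map_mul, ← map_mul, _root_.mul_assoc, ← mul_pow, mul_comm πi, hπi,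
      one_pow, _root_.mul_one]
  refine ⟨N, j, u, ?_, ?_⟩
  · let jV : V ⟶ G := Over.homMk U.ι rfl
    let Vb := (Over.map b).obj (Red.bc b V)
    let pV : Vb ⟶ V := RedPts82.toBase b (𝟙 _)
    let mV : Vb ⟶ Gb := (Over.map b).map ((Over.pullback b).map jV)
    have hsq : pV ≫ jV = mV ≫ jb := by
      rw [← RedPts82.toBase_comp_map, ← RedPts82.toBase_comp, Category.id_comp, Category.comp_id]
    have h1 := hp Vb.left pV.left fun z => by
      show (pV ≫ jV).left z ∈ Dp
      rw [hsq, Over.comp_left, Scheme.Hom.comp_apply]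
      exact show jb.left _ ∈ (G.left.basicOpen (fn (X := G) ϖ) : Set G.left) from hr ▸ ⟨_, rfl⟩
    show pV.left.appTop u * fn (X := Vb) (ϖ ^ j) = mV.left.appTop tG * fn (X := Vb) (ϖ ^ N)
    rw [← appTop_fn mV (ϖ ^ N), ← map_mul, fn_pow, fn_pow, mul_comm tG, ← ht₀]
    rw [show pV.left ≫ U.ι = (pV ≫ jV).left from rfl, appTop_fn] at h1
    rw [h1]
    show _ = (jb.left.appTop ≫ mV.left.appTop) t₀
    rw [← Scheme.Hom.comp_appTop, ← Over.comp_left, ← hsq]
  · intro h0
    let X := Over.mk (De.ι ≫ G.hom)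
    haveI : IsAffine X.left := (isAffineOpen_top G.left).basicOpen ε
    let l : X ⟶ V := Over.homMk (G.left.homOfLE heU) (by
      show G.left.homOfLE _ ≫ U.ι ≫ G.hom = De.ι ≫ G.hom
      rw [Scheme.homOfLE_ι_assoc])
    have key : ∀ w : Γ(G.left, U), l.left.appTop (U.topIso.inv w) =
        De.topIso.inv (G.left.presheaf.map (homOfLE heU).op w) := fun w => by
      show (U.topIso.inv ≫ (G.left.homOfLE heU).appTop) w = (G.left.presheaf.map (homOfLE heU).op ≫ De.topIso.inv) w
      congr 2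
      rw [Scheme.Opens.topIso_inv, Scheme.Opens.topIso_inv, Scheme.homOfLE_appTop]
      exact ((G.left.presheaf.map_comp _ _).symm.trans
        (congrArg G.left.presheaf.map (Subsingleton.elim _ _))).trans (G.left.presheaf.map_comp _ _)
    have hz : (pullback.fst X.hom (closedPt R)).appTop (De.topIso.inv v) = 0 := by
      rw [show v = G.left.presheaf.map (homOfLE heU).op u₀ from hu2.symm, ← key]
      show (l.left.appTop ≫ (pullback.fst X.hom (closedPt R)).appTop) u = 0
      rw [← Scheme.Hom.comp_appTop, show pullback.fst X.hom (closedPt R) ≫ l.left =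
        ((Over.pullback (closedPt R)).map l).left ≫ pullback.fst V.hom (closedPt R) from (pullback.lift_fst _ _ _).symm,
        Scheme.Hom.comp_appTop]
      show ((Over.pullback (closedPt R)).map l).left.appTop ((pullback.fst V.hom (closedPt R)).appTop u) = 0
      rw [h0, map_zero]
    have hd := map_dvd De.topIso.hom.hom (dvd_of_special_eq_zero (X := X) hϖ.maximalIdeal_eq _ hz)
    have hfn : De.topIso.hom (fn (X := X) ϖ) = re (fn (X := G) ϖ) := by
      show De.topIso.hom ((De.ι ≫ G.hom).appTop _) = _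
      rw [Scheme.Hom.comp_appTop]
      show (De.ι.appTop ≫ De.topIso.hom) _ = re _
      congr 2
      rw [Scheme.Opens.ι_appTop, Scheme.Opens.topIso_hom]
      exact (Functor.map_comp _ _ _).symm.trans (congrArg G.left.presheaf.map (Subsingleton.elim _ _))
    apply htv
    have hv' : De.topIso.hom (De.topIso.inv v) = v := by rw [← ConcreteCategory.comp_apply, Iso.inv_hom_id]; rfl
    exact hfn ▸ hv' ▸ hd

end Groth.Agent.NeronHD28.Neutral
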