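import Groth.Agent.NeronHD28.GaFunction
import Groth.Agent.NeronHD28.GaBasic
import Groth.Agent.NeronHD28.FlatIffQFScheme
import Groth.Agent.FlatMor67.FibreCrit
import Groth.Agent.LimTop61.BirationalZMT

/-! The neutral open of an affine smooth model of the additive group is the additive group. -/

set_option autoImplicit false
set_option linter.style.haveILetI false
universe u

open CategoryTheory CategoryTheory.Limits MonoidalCategory CartesianMonoidalCategory MonObj AlgebraicGeometry

namespace Groth.Agent.NeronHD28.GaModel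

open RedPts82 GmModel

theorem isIso_stalkMap_of_square {X Y X' Y' : Scheme.{u}} (i : X' ⟶ X) (j : Y' ⟶ Y) [IsOpenImmersion i]
    [IsOpenImmersion j] (f : X ⟶ Y) (f' : X' ⟶ Y') [IsIso f'] (h : f' ≫ j = i ≫ f) (x : X') :
    IsIso (f.stalkMap (i x)) := by
  have h1 : IsIso ((i ≫ f).stalkMap x) := by
    rw [Scheme.Hom.stalkMap_congr_hom _ _ h.symm, Scheme.Hom.stalkMap_comp]
    haveI : IsIso (j.stalkMap (f' x)) := inferInstance
    haveI : IsIso (f'.stalkMap x) := inferInstance
    haveI : IsIso (j.stalkMap (f' x) ≫ f'.stalkMap x) := IsIso.comp_isIso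
    exact @IsIso.comp_isIso _ _ _ _ _ _ _ inferInstance ‹IsIso (j.stalkMap (f' x) ≫ f'.stalkMap x)›
  haveI : IsIso (f.stalkMap (i x) ≫ i.stalkMap x) := by rwa [← Scheme.Hom.stalkMap_comp]
  exact IsIso.of_isIso_comp_right (f.stalkMap (i x)) (i.stalkMap x)

variable {R : Type u} [CommRing R] [IsDomain R] [IsDiscreteValuationRing R]
  {K : Type u} [Field K] [Algebra R K] [IsFractionRing R K]


theorem gaFn_map_scale {X : Over (Spec (CommRingCat.of K))}
    (x : X ⟶ Red.bc (GmModel.gen R K) (Red.Ga (Spec (CommRingCat.of R)))) (r : R) :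
    Red.gaFn (toBase (GmModel.gen R K) (x ≫ (Over.pullback (GmModel.gen R K)).map
        (GaBasic.scale ((Scheme.ΓSpecIso (CommRingCat.of R)).inv r)))) =
      Neutral.fn (X := (Over.map (GmModel.gen R K)).obj X) r * Red.gaFn (toBase (GmModel.gen R K) x) := by
  rw [toBase_comp_map, GaBasic.gaFn_scale]
  rfl

theorem isIso_map_scale {r : R} (hr : r ≠ 0) :
    IsIso ((Over.pullback (GmModel.gen R K)).map (GaBasic.scale ((Scheme.ΓSpecIso (CommRingCat.of R)).inv r))) := by
  let X := Red.bc (GmModel.gen R K) (Red.Ga (Spec (CommRingCat.of R)))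
  obtain ⟨a, ha⟩ := (Neutral.isUnit_fn_generic K X hr).exists_left_inv
  let y : X ⟶ X := ofBase (GmModel.gen R K) (gaPt (a * Red.gaFn (toBase (GmModel.gen R K) (𝟙 X))))
  have hy : y ≫ (Over.pullback (GmModel.gen R K)).map (GaBasic.scale ((Scheme.ΓSpecIso (CommRingCat.of R)).inv r)) = 𝟙 X := by
    apply toBase_injective (GmModel.gen R K)
    apply gaFn_injective
    rw [gaFn_map_scale, toBase_ofBase, gaFn_gaPt, ← _root_.mul_assoc, mul_comm _ a, ha, _root_.one_mul]
  refine ⟨⟨y, ?_, hy⟩⟩
  apply toBase_injective (GmModel.gen R K)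
  apply gaFn_injective
  rw [toBase_comp, gaFn_comp, toBase_ofBase, gaFn_gaPt, map_mul, ← gaFn_comp, ← toBase_comp, Category.comp_id]
  rw [← Category.id_comp ((Over.pullback (GmModel.gen R K)).map (GaBasic.scale ((Scheme.ΓSpecIso (CommRingCat.of R)).inv r))),
    gaFn_map_scale]
  have h2 : Neutral.fn (X := (Over.map (GmModel.gen R K)).obj X) r * a = 1 := by rw [mul_comm]; exact ha
  have h3 : ((Over.map (GmModel.gen R K)).map ((Over.pullback (GmModel.gen R K)).map (GaBasic.scale ((Scheme.ΓSpecIso (CommRingCat.of R)).inv r)))).left.appTop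
      (Neutral.fn (X := (Over.map (GmModel.gen R K)).obj X) r) *
      ((Over.map (GmModel.gen R K)).map ((Over.pullback (GmModel.gen R K)).map (GaBasic.scale ((Scheme.ΓSpecIso (CommRingCat.of R)).inv r)))).left.appTop a = 1 := by
    rw [← map_mul, h2, map_one]
  rw [Neutral.appTop_fn] at h3
  rw [Category.id_comp, ← _root_.mul_assoc, mul_comm _ (Neutral.fn r)]
  show _ * _ * _ = _
  rw [h3, _root_.one_mul]

theorem isMonHom_of_comp_mono {C : Type*} [Category C] [CartesianMonoidalCategory C] {X Y Z : C} [GrpObj X]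
    [GrpObj Y] [GrpObj Z] (f : X ⟶ Y) (g : Y ⟶ Z) [IsMonHom g] [Mono g] [IsMonHom (f ≫ g)] : IsMonHom f :=
  isMonHom_of_points f fun T a c => by
    rw [← cancel_mono g, Category.assoc, MonObj.mul_comp _ _ (f ≫ g), MonObj.mul_comp _ _ g, Category.assoc,
      Category.assoc]

variable (G : Over (Spec (CommRingCat.of R))) [GrpObj G] [Smooth G.hom] [IsAffineHom G.hom]
  (e : Red.bc (GmModel.gen R K) G ≅ Red.bc (GmModel.gen R K) (Red.Ga (Spec (CommRingCat.of R)))) [IsMonHom e.hom]

include e in
theorem isIntegral_model : IsIntegral G.left := by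
  haveI : IsReduced G.left := HomExt.isReduced_of_smooth' (normal_base R) G
  let jK : Red.bc (GmModel.gen R K) (Red.Ga (Spec (CommRingCat.of R))) ≅ Red.Ga (Spec (CommRingCat.of K)) :=
    ActBC.bcCompIso (GmModel.gen R K) _ _ (IsTerminal.hom_ext specULiftZIsTerminal _ _)
  haveI := GaBasic.irreducibleSpace_Ga K
  haveI : IrreducibleSpace ↥(Red.bc (GmModel.gen R K) G).left :=
    ((Over.forget _).mapIso (e ≪≫ jK)).hom.homeomorph.irreducibleSpace_iff.2 ‹_›
  haveI := HomExt.isDominant_fst (GmModel.gen R K) (range_gen R K) G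
  have h := ((IrreducibleSpace.isIrreducible_univ ↥(Red.bc (GmModel.gen R K) G).left).image (pullback.fst G.hom (GmModel.gen R K))
    (pullback.fst G.hom (GmModel.gen R K)).continuous.continuousOn).closure
  rw [Set.image_univ] at h
  rw [(pullback.fst G.hom (GmModel.gen R K)).denseRange.closure_range] at h
  haveI : IrreducibleSpace G.left := (irreducibleSpace_def G.left).2 h
  exact isIntegral_of_irreducibleSpace_of_isReduced G.left

theorem gaFn_generic_ne_zero : Red.gaFn (toBase (GmModel.gen R K) e.hom) ≠ 0 := by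
  intro h
  have he : e.hom = 1 := toBase_injective (GmModel.gen R K) (by rw [toBase_one]; exact gaFn_injective (h.trans gaFn_one.symm))
  let X := Red.bc (GmModel.gen R K) (Red.Ga (Spec (CommRingCat.of R)))
  have hid : 𝟙 X = 1 := by rw [← e.inv_hom_id, he, MonObj.comp_one]
  let x : 𝟙_ (Over (Spec (CommRingCat.of K))) ⟶ X := ofBase (GmModel.gen R K) (gaPt 1)
  have hx : x = 1 := by rw [← Category.comp_id x, hid, MonObj.comp_one]
  have h1 : Red.gaFn (toBase (GmModel.gen R K) x) = 0 := by rw [hx, toBase_one, gaFn_one]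
  rw [toBase_ofBase, gaFn_gaPt] at h1
  haveI : Nontrivial Γ(((Over.map (GmModel.gen R K)).obj (𝟙_ (Over (Spec (CommRingCat.of K))))).left, ⊤) :=
    (Scheme.ΓSpecIso (CommRingCat.of K)).commRingCatIsoToRingEquiv.nontrivial
  exact one_ne_zero h1

theorem surjective_special {V : Over (Spec (CommRingCat.of R))} [GrpObj V] [Smooth V.hom] [QuasiCompact V.hom]
    [ConnectedSpace ↥(Red.bc (closedPt R) V).left] (φ : V ⟶ Red.Ga (Spec (CommRingCat.of R))) [IsMonHom φ]
    (hne : (pullback.fst V.hom (closedPt R)).appTop (Red.gaFn φ) ≠ 0) :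
    Function.Surjective ((Over.pullback (closedPt R)).map φ).left ∧ Flat ((Over.pullback (closedPt R)).map φ).left := by
  let k := IsLocalRing.ResidueField R
  let A := Red.Ga (Spec (CommRingCat.of R))
  haveI : Smooth A.hom := GaBasic.smooth_Ga _
  haveI : IsAffineHom A.hom := GaBasic.isAffineHom_Ga _
  haveI : IsMonHom ((Over.pullback (closedPt R)).map φ) := inferInstance
  haveI : Smooth (Red.bc (closedPt R) V).hom := inferInstanceAs (Smooth (pullback.snd V.hom (closedPt R)))
  haveI : QuasiCompact (Red.bc (closedPt R) V).hom := inferInstanceAs (QuasiCompact (pullback.snd V.hom (closedPt R)))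
  haveI : Smooth (Red.bc (closedPt R) A).hom := inferInstanceAs (Smooth (pullback.snd A.hom (closedPt R)))
  haveI : IsReduced (Red.bc (closedPt R) V).left := AlgGrp79.isReduced_of_smooth (Red.bc (closedPt R) V).hom
  haveI : IsReduced (Red.bc (closedPt R) A).left := AlgGrp79.isReduced_of_smooth (Red.bc (closedPt R) A).hom
  haveI : IsAffineHom (Red.bc (closedPt R) A).hom := MorphismProperty.pullback_snd (P := @IsAffineHom) _ _ inferInstance
  let φk : Red.bc (closedPt R) V ⟶ Red.bc (closedPt R) A := (Over.pullback (closedPt R)).map φ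
  haveI : QuasiCompact φk.left := by
    haveI : QuasiCompact (φk.left ≫ (Red.bc (closedPt R) A).hom) := by rw [Over.w φk]; infer_instance
    exact QuasiCompact.of_comp φk.left (Red.bc (closedPt R) A).hom
  have hsq : φk.left ≫ pullback.fst A.hom (closedPt R) = pullback.fst V.hom (closedPt R) ≫ φ.left := pullback.lift_fst _ _ _
  have hd : DenseRange φk.left := by
    by_contra hnd
    have hcl : closure (Set.range φk.left) ≠ Set.univ := fun h => hnd (dense_iff_closure_eq.2 h)
    let jk : Red.bc (closedPt R) A ≅ Red.Ga (Spec (CommRingCat.of k)) :=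
      ActBC.bcCompIso (closedPt R) _ _ (IsTerminal.hom_ext specULiftZIsTerminal _ _)
    let hh : ↥(Red.bc (closedPt R) A).left ≃ₜ ↥(Red.Ga (Spec (CommRingCat.of k))).left :=
      Scheme.homeoOfIso ((Over.forget _).mapIso jk)
    have hsub := GaBasic.subsingleton_of_isPreconnected k (hh.isClosed_image.2 isClosed_closure)
      (fun h0 => hcl (hh.injective.image_injective
        (h0.trans (Set.image_univ_of_surjective hh.surjective).symm)))
      (((isPreconnected_range φk.left.continuous).closure).image _ hh.continuous.continuousOn)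
    have hpt : ∀ x, φk.left x = φk.left (Grp57.unitPt (Red.bc (closedPt R) V)) := fun x =>
      hh.injective (hsub ⟨_, subset_closure ⟨x, rfl⟩, rfl⟩ ⟨_, subset_closure ⟨_, rfl⟩, rfl⟩)
    refine hne ?_
    have hφ : (pullback.fst V.hom (closedPt R)).appTop (Red.gaFn φ) =
        φk.left.appTop ((pullback.fst A.hom (closedPt R)).appTop (Red.gaFn (𝟙 A))) := by
      show _ = ((pullback.fst A.hom (closedPt R)).appTop ≫ φk.left.appTop) _
      rw [← Scheme.Hom.comp_appTop, hsq, Scheme.Hom.comp_appTop]
      show (pullback.fst V.hom (closedPt R)).appTop (Red.gaFn φ) = (pullback.fst V.hom (closedPt R)).appTop (φ.left.appTop (Red.gaFn (𝟙 A)))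
      rw [← gaFn_comp, Category.comp_id]
    rw [hφ]
    let T := (pullback.fst A.hom (closedPt R)).appTop (Red.gaFn (𝟙 A))
    have hunit : Grp57.unitPt (Red.bc (closedPt R) A) ∉ (Red.bc (closedPt R) A).left.basicOpen T := by
      let o : 𝟙_ (Over (Spec (CommRingCat.of k))) ⟶ Red.bc (closedPt R) A := 1
      have ho : o.left.appTop T = 0 := by
        show ((pullback.fst A.hom (closedPt R)).appTop ≫ o.left.appTop) (Red.gaFn (𝟙 A)) = 0
        rw [← Scheme.Hom.comp_appTop, ← toBase_left (closedPt R) o]
        show (toBase (closedPt R) o).left.appTop (Red.gaFn (𝟙 A)) = 0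
        rw [← gaFn_comp, Category.comp_id, show toBase (closedPt R) o = 1 from toBase_one (closedPt R), gaFn_one]
      intro hu
      have h1 : (IsLocalRing.closedPoint k : ↥(𝟙_ (Over (Spec (CommRingCat.of k)))).left) ∈
          o.left ⁻¹ᵁ (Red.bc (closedPt R) A).left.basicOpen T := by
        show o.left _ ∈ (Red.bc (closedPt R) A).left.basicOpen T
        rw [show o = η[Red.bc (closedPt R) A] by
          show (1 : 𝟙_ _ ⟶ Red.bc (closedPt R) A) = _
          rw [Hom.one_def, toUnit_unique (toUnit _) (𝟙 _), Category.id_comp]]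
        exact hu
      rw [Scheme.preimage_basicOpen_top, ho, Scheme.basicOpen_zero] at h1
      exact h1
    rw [← basicOpen_eq_bot_iff]
    refine TopologicalSpace.Opens.ext (Set.eq_empty_iff_forall_notMem.2 fun x hx => hunit ?_)
    rw [← unitPt_map φk, ← hpt x]
    have hx' : x ∈ φk.left ⁻¹ᵁ (Red.bc (closedPt R) A).left.basicOpen T := by
      rw [Scheme.preimage_basicOpen_top]
      exact hx
    exact hx'
  have hs := SGA3a.surjective_of_dominant φk hd
  exact ⟨hs.surj, flat_of_component_subset φk (fun y _ => hs.surj y)⟩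

set_option maxHeartbeats 1000000 in
theorem isIso_of_fibres (V : Over (Spec (CommRingCat.of R))) [GrpObj V] [Smooth V.hom] [IsSeparated V.hom]
    [QuasiCompact V.hom] [IsIntegral V.left] (φ : V ⟶ Red.Ga (Spec (CommRingCat.of R)))
    [IsIso ((Over.pullback (GmModel.gen R K)).map φ)] (hk : Function.Surjective ((Over.pullback (closedPt R)).map φ).left)
    (hfl : Flat ((Over.pullback (closedPt R)).map φ).left) : IsIso φ := by
  let A := Red.Ga (Spec (CommRingCat.of R))
  haveI : Smooth A.hom := GaBasic.smooth_Ga _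
  haveI : IsAffineHom A.hom := GaBasic.isAffineHom_Ga _
  haveI : IsSeparated A.hom := inferInstance
  haveI : LocallyOfFinitePresentation (φ.left ≫ A.hom) := by rw [Over.w]; infer_instance
  haveI : Flat (φ.left ≫ A.hom) := by rw [Over.w]; infer_instance
  haveI : IsIso ((Over.pullback (GmModel.gen R K)).map φ).left := ((Over.forget _).mapIso (asIso ((Over.pullback (GmModel.gen R K)).map φ))).isIso_hom
  haveI : Flat φ.left := by
    refine FlatMor67.FibreCrit.flat_of_fibres φ.left A.hom fun s => ?_
    by_cases hs : s = IsLocalRing.closedPoint R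
    · have h1 := flat_fibre_of_fieldPoint φ (closedPt R) hfl
      rw [show (closedPt R) (IsLocalRing.closedPoint (IsLocalRing.ResidueField R)) = s from (closedPt_apply _).trans hs.symm] at h1
      exact h1
    · have h1 := flat_fibre_of_fieldPoint φ (GmModel.gen R K) (inferInstanceAs (Flat ((Over.pullback (GmModel.gen R K)).map φ).left))
      rw [show (GmModel.gen R K) (IsLocalRing.closedPoint K) = s from by
        have hbs : (GmModel.gen R K) (IsLocalRing.closedPoint K) ∈ Set.range (GmModel.gen R K) := ⟨_, rfl⟩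
        rw [range_gen R K, Set.mem_singleton_iff, genericPoint_eq_bot_of_affine] at hbs
        refine hbs.trans (PrimeSpectrum.ext ?_)
        by_contra h0
        exact hs (PrimeSpectrum.ext
          (IsLocalRing.eq_maximalIdeal ((s : PrimeSpectrum R).isPrime.isMaximal (Ne.symm h0))))] at h1
      exact h1
  haveI : IsSeparated φ.left := by
    haveI : IsSeparated (φ.left ≫ A.hom) := by rw [Over.w]; infer_instance
    exact IsSeparated.of_comp φ.left A.hom
  haveI : QuasiCompact φ.left := by
    haveI : QuasiCompact (φ.left ≫ A.hom) := by rw [Over.w]; infer_instance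
    exact QuasiCompact.of_comp φ.left A.hom
  haveI : LocallyOfFiniteType φ.left := by
    haveI : LocallyOfFiniteType (φ.left ≫ A.hom) := by rw [Over.w]; infer_instance
    exact locallyOfFiniteType_of_comp φ.left A.hom
  haveI hAirr : IrreducibleSpace A.left := by
    haveI : Surjective φ.left := by
      constructor
      intro y
      by_cases hy : A.hom y = IsLocalRing.closedPoint R
      · obtain ⟨y', rfl⟩ : y ∈ Set.range (pullback.fst A.hom (closedPt R)) := by
          rw [Scheme.Pullback.range_fst]
          exact ⟨IsLocalRing.closedPoint _, (closedPt_apply _).trans hy.symm⟩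
        obtain ⟨x', rfl⟩ := hk y'
        refine ⟨pullback.fst V.hom (closedPt R) x', ?_⟩
        rw [← Scheme.Hom.comp_apply, ← Scheme.Hom.comp_apply,
          show ((Over.pullback (closedPt R)).map φ).left ≫ pullback.fst A.hom (closedPt R) = pullback.fst V.hom (closedPt R) ≫ φ.left from
            pullback.lift_fst _ _ _]
      · obtain ⟨y', rfl⟩ : y ∈ Set.range (pullback.fst A.hom (GmModel.gen R K)) := by
          rw [HomExt.mem_range_fst_iff (GmModel.gen R K) (range_gen R K) A, genericPoint_eq_bot_of_affine]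
          refine PrimeSpectrum.ext ?_
          by_contra h0
          exact hy (PrimeSpectrum.ext
            (IsLocalRing.eq_maximalIdeal ((A.hom y : PrimeSpectrum R).isPrime.isMaximal h0)))
        obtain ⟨x', rfl⟩ := ((Over.pullback (GmModel.gen R K)).map φ).left.homeomorph.surjective y'
        refine ⟨pullback.fst V.hom (GmModel.gen R K) x', ?_⟩
        show φ.left (pullback.fst V.hom (GmModel.gen R K) x') = pullback.fst A.hom (GmModel.gen R K) (((Over.pullback (GmModel.gen R K)).map φ).left x')
        rw [← Scheme.Hom.comp_apply, ← Scheme.Hom.comp_apply,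
          show ((Over.pullback (GmModel.gen R K)).map φ).left ≫ pullback.fst A.hom (GmModel.gen R K) = pullback.fst V.hom (GmModel.gen R K) ≫ φ.left from
            pullback.lift_fst _ _ _]
    exact φ.left.surjective.irreducibleSpace φ.left.continuous
  haveI : IsReduced A.left := HomExt.isReduced_of_smooth' (normal_base R) A
  haveI : IsIntegral A.left := isIntegral_of_irreducibleSpace_of_isReduced A.left
  have hgen : φ.left (genericPoint V.left) = genericPoint A.left := UnitExt.map_genericPoint φ.left
  have hsqb : ((Over.pullback (GmModel.gen R K)).map φ).left ≫ pullback.fst A.hom (GmModel.gen R K) = pullback.fst V.hom (GmModel.gen R K) ≫ φ.left :=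
    pullback.lift_fst _ _ _
  have hηA : A.hom (genericPoint A.left) = genericPoint ↥(Spec (CommRingCat.of R)) := UnitExt.map_genericPoint A.hom
  haveI : IsLocallyNoetherian A.left := isLocallyNoetherian_of_smooth A.hom
  haveI : LocallyQuasiFinite φ.left := by
    refine (flat_iff_locallyQuasiFinite_of_regular φ.left (regular_stalk_of_smooth V.hom)
      (regular_stalk_of_smooth A.hom) hgen ?_).1 inferInstance
    refine Set.Subsingleton.finite fun x hx y hy => ?_
    have hr : ∀ x, φ.left x = genericPoint A.left → x ∈ Set.range (pullback.fst V.hom (GmModel.gen R K)) := fun x hx => by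
      rw [HomExt.mem_range_fst_iff (GmModel.gen R K) (range_gen R K) V, ← Over.w φ, Scheme.Hom.comp_apply, hx, hηA]
    obtain ⟨x', rfl⟩ := hr x hx
    obtain ⟨y', rfl⟩ := hr y hy
    have h1 : pullback.fst A.hom (GmModel.gen R K) (((Over.pullback (GmModel.gen R K)).map φ).left x') =
        pullback.fst A.hom (GmModel.gen R K) (((Over.pullback (GmModel.gen R K)).map φ).left y') := by
      rw [← Scheme.Hom.comp_apply, ← Scheme.Hom.comp_apply, hsqb, Scheme.Hom.comp_apply, Scheme.Hom.comp_apply]
      exact (Set.mem_singleton_iff.1 hx).trans (Set.mem_singleton_iff.1 hy).symm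
    rw [((Over.pullback (GmModel.gen R K)).map φ).left.homeomorph.injective ((pullback.fst A.hom (GmModel.gen R K)).isEmbedding.injective h1)]
  haveI hOpen : IsOpenImmersion φ.left := by
    refine LimTop61.isOpenImmersion_of_birational φ.left (fun y => (HomExt.isNormal_of_smooth (normal_base R) A y).2)
      hgen ?_
    obtain ⟨x', hx'⟩ : genericPoint V.left ∈ Set.range (pullback.fst V.hom (GmModel.gen R K)) := by
      rw [HomExt.mem_range_fst_iff (GmModel.gen R K) (range_gen R K) V]
      exact UnitExt.map_genericPoint V.hom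
    obtain ⟨ϖ, hϖ⟩ := IsDiscreteValuationRing.exists_irreducible R
    haveI := Neutral.isOpenImmersion_gen K hϖ
    haveI : IsOpenImmersion (pullback.fst A.hom (GmModel.gen R K)) := inferInstance
    haveI : IsOpenImmersion (pullback.fst V.hom (GmModel.gen R K)) := inferInstance
    rw [← hx']
    exact isIso_stalkMap_of_square _ _ φ.left _ hsqb x'
  haveI : Surjective φ.left := by
    constructor
    intro y
    by_cases hy : A.hom y = IsLocalRing.closedPoint R
    · obtain ⟨y', rfl⟩ : y ∈ Set.range (pullback.fst A.hom (closedPt R)) := by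
        rw [Scheme.Pullback.range_fst]
        exact ⟨IsLocalRing.closedPoint _, (closedPt_apply _).trans hy.symm⟩
      obtain ⟨x', rfl⟩ := hk y'
      refine ⟨pullback.fst V.hom (closedPt R) x', ?_⟩
      rw [← Scheme.Hom.comp_apply, ← Scheme.Hom.comp_apply,
        show ((Over.pullback (closedPt R)).map φ).left ≫ pullback.fst A.hom (closedPt R) = pullback.fst V.hom (closedPt R) ≫ φ.left from
          pullback.lift_fst _ _ _]
    · obtain ⟨y', rfl⟩ : y ∈ Set.range (pullback.fst A.hom (GmModel.gen R K)) := by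
        rw [HomExt.mem_range_fst_iff (GmModel.gen R K) (range_gen R K) A, genericPoint_eq_bot_of_affine]
        refine PrimeSpectrum.ext ?_
        by_contra h0
        exact hy (PrimeSpectrum.ext
          (IsLocalRing.eq_maximalIdeal ((A.hom y : PrimeSpectrum R).isPrime.isMaximal h0)))
      obtain ⟨x', rfl⟩ := ((Over.pullback (GmModel.gen R K)).map φ).left.homeomorph.surjective y'
      refine ⟨pullback.fst V.hom (GmModel.gen R K) x', ?_⟩
      show φ.left (pullback.fst V.hom (GmModel.gen R K) x') = pullback.fst A.hom (GmModel.gen R K) (((Over.pullback (GmModel.gen R K)).map φ).left x')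
      rw [← Scheme.Hom.comp_apply, ← Scheme.Hom.comp_apply, hsqb]
  haveI : IsIso φ.left := (isIso_iff_isOpenImmersion_and_surjective φ.left).2 ⟨hOpen, inferInstance⟩
  haveI : IsIso ((Over.forget _).map φ) := ‹IsIso φ.left›
  exact isIso_of_reflects_iso _ (Over.forget _)

/-- The value of a generic point of the additive group in the field. -/
noncomputable def ptVal (u : GmModel.PtK R K ⟶ Red.bc (GmModel.gen R K) (Red.Ga (Spec (CommRingCat.of R)))) : K :=
  xi R K (Red.gaFn (toBase (GmModel.gen R K) u))

theorem ptVal_mul (u v : GmModel.PtK R K ⟶ Red.bc (GmModel.gen R K) (Red.Ga (Spec (CommRingCat.of R)))) :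
    ptVal (u * v) = ptVal u + ptVal v := by
  refine (congrArg (fun x => xi R K (Red.gaFn x)) (toBase_mul (GmModel.gen R K) u v)).trans ?_
  beta_reduce
  rw [gaFn_mul, map_add]
  rfl

theorem ptVal_one : ptVal (1 : GmModel.PtK R K ⟶ Red.bc (GmModel.gen R K) (Red.Ga (Spec (CommRingCat.of R)))) = 0 := by
  refine (congrArg (fun x => xi R K (Red.gaFn x)) (toBase_one (GmModel.gen R K))).trans ?_
  beta_reduce
  rw [gaFn_one, map_zero]

/-- The generic point of a section, as a point of the additive group. -/
noncomputable def secHom : (𝟙_ (Over (Spec (CommRingCat.of R))) ⟶ G) →*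
    (GmModel.PtK R K ⟶ Red.bc (GmModel.gen R K) (Red.Ga (Spec (CommRingCat.of R)))) :=
  ({ toFun := fun u => u ≫ e.hom
     map_one' := MonObj.one_comp e.hom
     map_mul' := fun u u' => MonObj.mul_comp u u' e.hom } :
      (GmModel.PtK R K ⟶ Red.bc (GmModel.gen R K) G) →* _).comp
    (show (𝟙_ (Over (Spec (CommRingCat.of R))) ⟶ G) →* (GmModel.PtK R K ⟶ Red.bc (GmModel.gen R K) G) from
      (Over.pullback (GmModel.gen R K)).homMonoidHom)

/-- The value of a section of the model in the field. -/
noncomputable def secVal (σ : 𝟙_ (Over (Spec (CommRingCat.of R))) ⟶ G) : K :=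
  xi R K (Red.gaFn (toBase (GmModel.gen R K) ((Over.pullback (GmModel.gen R K)).map σ ≫ e.hom)))

theorem secVal_eq (σ : 𝟙_ (Over (Spec (CommRingCat.of R))) ⟶ G) : secVal G e σ = ptVal (secHom G e σ) := rfl

theorem secVal_mul (σ τ : 𝟙_ (Over (Spec (CommRingCat.of R))) ⟶ G) :
    secVal G e (σ * τ) = secVal G e σ + secVal G e τ := by
  simp only [secVal_eq, map_mul, ptVal_mul]

theorem secVal_pow (σ : 𝟙_ (Over (Spec (CommRingCat.of R))) ⟶ G) (n : ℕ) :
    secVal G e (σ ^ n) = n * secVal G e σ := by
  induction n with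
  | zero => rw [pow_zero, secVal_eq, map_one, ptVal_one, Nat.cast_zero, zero_mul]
  | succ n ih => rw [pow_succ, secVal_mul, ih, Nat.cast_succ, add_mul, _root_.one_mul]

theorem secVal_injective [IsSeparated G.hom] : Function.Injective (secVal G e) := fun σ τ h => by
  haveI : IsReduced (𝟙_ (Over (Spec (CommRingCat.of R)))).left := inferInstanceAs (IsReduced (Spec (CommRingCat.of R)))
  haveI : Flat (𝟙_ (Over (Spec (CommRingCat.of R)))).hom := inferInstanceAs (Flat (𝟙 (Spec (CommRingCat.of R))))
  exact HomExt.hom_ext_generic (GmModel.gen R K) (range_gen R K)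
    ((cancel_mono e.hom).1 (toBase_injective (GmModel.gen R K) (gaFn_injective (xi_injective R K h))))

set_option maxHeartbeats 1000000 in
/-- The neutral open of the model is the additive group. -/
theorem exists_openImmersion : ∃ (c : K) (j : Red.Ga (Spec (CommRingCat.of R)) ⟶ G),
    c ≠ 0 ∧ IsMonHom j ∧ IsOpenImmersion j.left ∧
      (∀ x : G.left, G.hom x ≠ IsLocalRing.closedPoint R → x ∈ Set.range j.left) ∧
      (∀ x : (Red.bc (closedPt R) G).left, pullback.fst G.hom (closedPt R) x ∈ Set.range j.left ↔
        x ∈ connectedComponent (Grp57.unitPt (Red.bc (closedPt R) G))) ∧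
      ∀ ρ : 𝟙_ (Over (Spec (CommRingCat.of R))) ⟶ Red.Ga (Spec (CommRingCat.of R)),
        secVal G e (ρ ≫ j) = c * algebraMap R K (kapR R (Red.gaFn ρ)) := by
  obtain ⟨ϖ, hϖ⟩ := IsDiscreteValuationRing.exists_irreducible R
  haveI := isIntegral_model G e
  haveI : IsAffine G.left := isAffine_of_isAffineHom G.hom
  haveI : IsLocallyNoetherian G.left := LocallyOfFiniteType.isLocallyNoetherian G.hom
  haveI : CompactSpace G.left := inferInstance
  haveI : IsNoetherian G.left := {}
  obtain ⟨ε, hε⟩ := Neutral.exists_eps G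
  obtain ⟨iV, hjV⟩ := Neutral.exists_grpObj_nbhd hϖ.maximalIdeal_eq hε
  let U := Neutral.nbhd G ϖ ε
  let V := Over.mk (U.ι ≫ G.hom)
  let jV : V ⟶ G := Over.homMk U.ι rfl
  letI : GrpObj V := iV
  haveI : IsMonHom jV := hjV
  have hne : ∃ x : G.left, x ∈ G.left.basicOpen ε ∧ G.hom x = IsLocalRing.closedPoint R := by
    refine ⟨pullback.fst G.hom (closedPt R) (Grp57.unitPt (Red.bc (closedPt R) G)), (hε _).2 mem_connectedComponent, ?_⟩
    rw [← Scheme.Hom.comp_apply, pullback.condition, Scheme.Hom.comp_apply]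
    exact closedPt_apply _
  obtain ⟨N, j₀, u, hu, hu0⟩ := Neutral.exists_function K G hϖ ε hne _ (gaFn_generic_ne_zero G e)
  haveI : Nonempty U.toScheme := ⟨⟨hne.choose, Or.inr hne.choose_spec.1⟩⟩
  haveI : IsIntegral V.left := inferInstanceAs (IsIntegral U.toScheme)
  haveI : Smooth V.hom := inferInstanceAs (Smooth (U.ι ≫ G.hom))
  haveI : IsSeparated V.hom := inferInstanceAs (IsSeparated (U.ι ≫ G.hom))
  haveI : QuasiCompact V.hom := inferInstanceAs (QuasiCompact (U.ι ≫ G.hom))
  haveI : ConnectedSpace ↥(Red.bc (closedPt R) V).left := by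
    have hr := Neutral.range_special_nbhd hϖ.maximalIdeal_eq hε
    haveI : IsOpenImmersion ((Over.pullback (closedPt R)).map jV).left :=
      MorphismProperty.of_isPullback (isPullback_map_left (closedPt R) jV) (inferInstanceAs (IsOpenImmersion U.ι))
    have e1 := ((Over.pullback (closedPt R)).map jV).left.isOpenEmbedding
    rw [connectedSpace_iff_univ]
    refine ⟨⟨Grp57.unitPt (Red.bc (closedPt R) V), trivial⟩, e1.isInducing.isPreconnected_image.1 ?_⟩
    rw [Set.image_univ]
    exact hr.symm ▸ isPreconnected_connectedComponent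
  let φ : V ⟶ Red.Ga (Spec (CommRingCat.of R)) := gaPt u
  let sj := (Over.pullback (GmModel.gen R K)).map (GaBasic.scale ((Scheme.ΓSpecIso (CommRingCat.of R)).inv (ϖ ^ j₀)))
  let sN := (Over.pullback (GmModel.gen R K)).map (GaBasic.scale ((Scheme.ΓSpecIso (CommRingCat.of R)).inv (ϖ ^ N)))
  haveI : IsIso sj := isIso_map_scale (pow_ne_zero _ hϖ.ne_zero)
  haveI : IsIso sN := isIso_map_scale (pow_ne_zero _ hϖ.ne_zero)
  have hrel : (Over.pullback (GmModel.gen R K)).map φ ≫ sj = (Over.pullback (GmModel.gen R K)).map jV ≫ e.hom ≫ sN := by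
    apply toBase_injective (GmModel.gen R K)
    apply gaFn_injective
    rw [gaFn_map_scale, ← Category.assoc, gaFn_map_scale, toBase_comp (GmModel.gen R K) _ e.hom, gaFn_comp]
    rw [← Category.id_comp ((Over.pullback (GmModel.gen R K)).map φ), toBase_comp_map, gaFn_comp, gaFn_gaPt,
      mul_comm (Neutral.fn _), mul_comm (Neutral.fn _)]
    exact hu
  haveI : IsOpenImmersion jV.left := inferInstanceAs (IsOpenImmersion U.ι)
  haveI : IsIso ((Over.pullback (GmModel.gen R K)).map jV) := by
    haveI : IsOpenImmersion ((Over.pullback (GmModel.gen R K)).map jV).left :=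
      MorphismProperty.of_isPullback (isPullback_map_left (GmModel.gen R K) jV) inferInstance
    haveI : Surjective ((Over.pullback (GmModel.gen R K)).map jV).left := by
      constructor
      intro x
      have hx : pullback.fst G.hom (GmModel.gen R K) x ∈ U := Or.inl (by
        have h1 : pullback.fst G.hom (GmModel.gen R K) x ∈ Set.range (pullback.fst G.hom (GmModel.gen R K)) := ⟨x, rfl⟩
        rwa [Neutral.range_fst_gen K hϖ G] at h1)
      obtain ⟨w, hw⟩ : ∃ w, jV.left w = pullback.fst G.hom (GmModel.gen R K) x := ⟨⟨_, hx⟩, rfl⟩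
      obtain ⟨z, -, hz⟩ := Scheme.Pullback.exists_preimage_pullback (f := jV.left) (g := pullback.fst G.hom (GmModel.gen R K)) w x hw
      refine ⟨(isPullback_map_left (GmModel.gen R K) jV).isoPullback.inv z, ?_⟩
      rw [← Scheme.Hom.comp_apply, (isPullback_map_left (GmModel.gen R K) jV).isoPullback_inv_snd]
      exact hz
    haveI : IsIso ((Over.forget _).map ((Over.pullback (GmModel.gen R K)).map jV)) :=
      (isIso_iff_isOpenImmersion_and_surjective ((Over.pullback (GmModel.gen R K)).map jV).left).2 ⟨inferInstance, inferInstance⟩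
    exact isIso_of_reflects_iso _ (Over.forget _)
  haveI : IsIso ((Over.pullback (GmModel.gen R K)).map φ) := by
    haveI : IsIso ((Over.pullback (GmModel.gen R K)).map φ ≫ sj) := hrel ▸ inferInstance
    exact IsIso.of_isIso_comp_right ((Over.pullback (GmModel.gen R K)).map φ) sj
  haveI : IsMonHom ((Over.pullback (GmModel.gen R K)).map φ) := by
    haveI : IsMonHom ((Over.pullback (GmModel.gen R K)).map φ ≫ sj) := hrel ▸ inferInstance
    exact isMonHom_of_comp_mono _ sj
  haveI : Smooth (Red.Ga (Spec (CommRingCat.of R))).hom := GaBasic.smooth_Ga _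
  haveI : IsAffineHom (Red.Ga (Spec (CommRingCat.of R))).hom := GaBasic.isAffineHom_Ga _
  haveI : IsMonHom φ := HomExt.isMonHom_of_generic (GmModel.gen R K) (range_gen R K) (normal_base R) φ
  obtain ⟨hs, hf⟩ := surjective_special φ (by rw [gaFn_gaPt]; exact hu0)
  haveI : IsIso φ := isIso_of_fibres (K := K) V φ hs hf
  haveI : IsMonHom (inv φ) := inferInstanceAs (IsMonHom (asIso φ).inv)
  haveI : IsIso φ.left := ((Over.forget _).mapIso (asIso φ)).isIso_hom
  haveI : IsIso (inv φ).left := ((Over.forget _).mapIso (asIso φ).symm).isIso_hom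
  have hrange : Set.range (inv φ ≫ jV).left = U := by
    rw [Over.comp_left, Scheme.Hom.comp_base, TopCat.coe_comp, Set.range_comp,
      Set.range_eq_univ.2 (inv φ).left.surjective, Set.image_univ]
    exact U.range_ι
  have hcne : algebraMap R K (ϖ ^ N) ≠ 0 := fun h =>
    pow_ne_zero N hϖ.ne_zero (IsFractionRing.injective R K (h.trans (map_zero _).symm))
  have hjne : algebraMap R K (ϖ ^ j₀) ≠ 0 := fun h =>
    pow_ne_zero j₀ hϖ.ne_zero (IsFractionRing.injective R K (h.trans (map_zero _).symm))
  refine ⟨algebraMap R K (ϖ ^ j₀) / algebraMap R K (ϖ ^ N), inv φ ≫ jV, div_ne_zero hjne hcne, inferInstance,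
    ?_, fun x hx => ?_, fun x => ?_, fun ρ => ?_⟩
  · rw [Over.comp_left]; infer_instance
  · rw [hrange]
    refine Or.inl ?_
    by_contra h
    exact hx ((Neutral.notMem_basicOpen_iff hϖ.maximalIdeal_eq x).1 h)
  · rw [hrange]
    exact Neutral.fst_mem_nbhd_iff hϖ.maximalIdeal_eq hε x
  · have h1 : (Over.pullback (GmModel.gen R K)).map ρ ≫ sj = ((Over.pullback (GmModel.gen R K)).map (ρ ≫ inv φ ≫ jV) ≫ e.hom) ≫ sN := by
      simp only [Functor.map_comp, Category.assoc]
      rw [← hrel, ← Category.assoc ((Over.pullback (GmModel.gen R K)).map (inv φ)), ← (Over.pullback (GmModel.gen R K)).map_comp (inv φ) φ, IsIso.inv_hom_id,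
        CategoryTheory.Functor.map_id, Category.id_comp]
    have h2 := congrArg (fun x => xi R K (Red.gaFn (toBase (GmModel.gen R K) x))) h1
    beta_reduce at h2
    have hfn : ∀ r, xi R K (Neutral.fn (X := (Over.map (GmModel.gen R K)).obj (GmModel.PtK R K)) r) = algebraMap R K r := fun r => by
      rw [← Neutral.appTop_fn (pr R K), xi_pr]
      congr 1
      exact (kapR R).apply_symm_apply r
    rw [gaFn_map_scale, gaFn_map_scale, map_mul, map_mul, hfn, hfn] at h2
    rw [← Category.id_comp ((Over.pullback (GmModel.gen R K)).map ρ), toBase_comp_map, gaFn_comp] at h2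
    have hρ : xi R K ((pr R K).left.appTop (Red.gaFn ρ)) = algebraMap R K (kapR R (Red.gaFn ρ)) := xi_pr R K _
    erw [hρ] at h2
    rw [div_mul_eq_mul_div, eq_div_iff hcne, mul_comm, secVal]
    exact h2.symm

end Groth.Agent.NeronHD28.GaModel
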