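import Groth.Agent.NeronHD28.LocalExt
import Mathlib.AlgebraicGeometry.Morphisms.Separated
import Mathlib.Topology.NoetherianSpace

/-! Morphisms defined on a dense quasi-compact source extend if they extend at every local ring. -/

set_option autoImplicit false
set_option linter.style.haveILetI false
universe u

open CategoryTheory CategoryTheory.Limits AlgebraicGeometry TopologicalSpace

namespace Groth.Agent.NeronHD28

/-- A point in the closure of the image of a closed set is a specialisation of an image point. -/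
theorem exists_specializes_of_mem_closure_image {α β : Type*} [TopologicalSpace α] [TopologicalSpace β]
    [NoetherianSpace α] [QuasiSober α] {f : α → β} (hf : Continuous f) {C : Set α} (hC : IsClosed C) {y : β}
    (hy : y ∈ closure (f '' C)) : ∃ c ∈ C, f c ⤳ y := by
  obtain ⟨F, hFf, hFc, hFi, hFU⟩ := NoetherianSpace.exists_finite_set_isClosed_irreducible hC
  choose η hη using fun t : F => QuasiSober.sober (hFi t.1 t.2) (hFc t.1 t.2)
  haveI := hFf.to_subtype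
  have h1 : f '' C ⊆ ⋃ t : F, closure {f (η t)} := by
    rintro _ ⟨c, hc, rfl⟩
    rw [hFU] at hc
    obtain ⟨t, ht, hct⟩ := hc
    refine Set.mem_iUnion.2 ⟨⟨t, ht⟩, ?_⟩
    exact (((hη ⟨t, ht⟩).specializes hct).map hf).mem_closure
  have h2 : y ∈ ⋃ t : F, closure {f (η t)} :=
    (closure_minimal h1 (isClosed_iUnion_of_finite fun _ => isClosed_closure)) hy
  obtain ⟨t, ht⟩ := Set.mem_iUnion.1 h2
  exact ⟨η t, hFU ▸ ⟨t.1, t.2, (hη t).mem⟩, specializes_iff_mem_closure.2 ht⟩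

variable {Y G N S : Scheme.{u}}

theorem exists_spread_near [IsLocallyNoetherian Y] (q : N ⟶ S) [LocallyOfFiniteType q] (z : Y ⟶ S) (m : G ⟶ Y)
    [QuasiCompact m] [IsLocallyNoetherian G] (w : G ⟶ N) (y : Y) (φ : Spec (Y.presheaf.stalk y) ⟶ N)
    (hφ : φ ≫ q = Y.fromSpecStalk y ≫ z)
    (hc : ∀ (T : Scheme.{u}) (c : T ⟶ G) (d : T ⟶ Spec (Y.presheaf.stalk y)),
      c ≫ m = d ≫ Y.fromSpecStalk y → c ≫ w = d ≫ φ) :
    ∃ (W : Y.Opens) (g : (W : Scheme.{u}) ⟶ N), y ∈ W ∧ g ≫ q = W.ι ≫ z ∧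
      (m ∣_ W) ≫ g = (m ⁻¹ᵁ W).ι ≫ w := by
  obtain ⟨W₀, hyW₀, g₀, hg₀, hg₀q⟩ := spread_out_of_isGermInjective' z q (x := y) φ hφ
  obtain ⟨W₁, hW₁, hyW₁, hW₁le⟩ := exists_isAffineOpen_mem_and_subset (x := y) (U := W₀) hyW₀
  let g₁ : (W₁ : Scheme.{u}) ⟶ N := Y.homOfLE hW₁le ≫ g₀
  have hg₁ : φ = W₁.fromSpecStalkOfMem y hyW₁ ≫ g₁ := by
    rw [hg₀]
    simp only [g₁, ← Category.assoc]
    congr 1
    rw [← cancel_mono W₀.ι]
    simp only [Category.assoc, Scheme.homOfLE_ι, Scheme.Opens.fromSpecStalkOfMem_ι]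
  let G₁ := m ⁻¹ᵁ W₁
  haveI : CompactSpace (G₁ : Scheme.{u}) := isCompact_iff_compactSpace.1 (m.isCompact_preimage hW₁.isCompact)
  haveI : IsLocallyNoetherian (G₁ : Scheme.{u}) := inferInstance
  haveI : IsNoetherian (G₁ : Scheme.{u}) := { }
  haveI : NoetherianSpace (G₁ : Scheme.{u}) := inferInstance
  let α : (G₁ : Scheme.{u}) ⟶ N := (m ∣_ W₁) ≫ g₁
  let β : (G₁ : Scheme.{u}) ⟶ N := G₁.ι ≫ w
  have key : ∀ c : {c : (G₁ : Scheme.{u}) // (G₁.ι ≫ m) c ⤳ y},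
      ∃ V : (G₁ : Scheme.{u}).Opens, c.1 ∈ V ∧ V.ι ≫ α = V.ι ≫ β := by
    intro c
    refine spread_out_unique_of_isGermInjective' (x := c.1) α β ?_
    let d := Spec.map ((G₁.ι ≫ m).stalkMap c.1) ≫ Spec.map (Y.presheaf.stalkSpecializes c.2)
    have hd : d ≫ Y.fromSpecStalk y = (G₁ : Scheme.{u}).fromSpecStalk c.1 ≫ G₁.ι ≫ m := by
      simp only [d, Category.assoc, Scheme.SpecMap_stalkSpecializes_fromSpecStalk]
      exact Scheme.SpecMap_stalkMap_fromSpecStalk (G₁.ι ≫ m)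
    have h1 := hc _ ((G₁ : Scheme.{u}).fromSpecStalk c.1 ≫ G₁.ι) d (by rw [Category.assoc, hd])
    have h2 : (G₁ : Scheme.{u}).fromSpecStalk c.1 ≫ (m ∣_ W₁) = d ≫ W₁.fromSpecStalkOfMem y hyW₁ := by
      rw [← cancel_mono W₁.ι]
      simp only [Category.assoc, morphismRestrict_ι, Scheme.Opens.fromSpecStalkOfMem_ι]
      exact hd.symm
    simp only [α, β]
    rw [reassoc_of% h2, ← hg₁, ← h1, Category.assoc]
  choose V hV hVe using key
  let E : (G₁ : Scheme.{u}).Opens := ⨆ c, V c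
  have hE : E.ι ≫ α = E.ι ≫ β := by
    refine Scheme.Cover.hom_ext (Scheme.Opens.iSupOpenCover V) _ _ fun c => ?_
    show Scheme.homOfLE _ (le_iSup V c) ≫ E.ι ≫ α = Scheme.homOfLE _ (le_iSup V c) ≫ E.ι ≫ β
    rw [Scheme.homOfLE_ι_assoc, Scheme.homOfLE_ι_assoc]
    exact hVe c
  let C : Set (G₁ : Scheme.{u}) := ((E : (G₁ : Scheme.{u}).Opens) : Set (G₁ : Scheme.{u}))ᶜ
  have hy : y ∉ closure ((G₁.ι ≫ m) '' C) := fun hy => by
    obtain ⟨c, hcC, hcy⟩ := exists_specializes_of_mem_closure_image (G₁.ι ≫ m).continuous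
      E.2.isClosed_compl hy
    exact hcC (TopologicalSpace.Opens.mem_iSup.2 ⟨⟨c, hcy⟩, hV _⟩)
  let W : Y.Opens := W₁ ⊓ ⟨(closure ((G₁.ι ≫ m) '' C))ᶜ, isClosed_closure.isOpen_compl⟩
  refine ⟨W, Y.homOfLE inf_le_left ≫ g₁, ⟨hyW₁, hy⟩, ?_, ?_⟩
  · simp only [g₁, Category.assoc, hg₀q, Scheme.homOfLE_ι_assoc]
  · have hle : m ⁻¹ᵁ W ≤ G₁ := fun t ht => ht.1
    have hr : Set.range (G.homOfLE hle) ⊆ Set.range E.ι := by
      rw [Scheme.Opens.range_ι]
      rintro _ ⟨t, rfl⟩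
      by_contra hn
      refine t.2.2 (subset_closure ⟨G.homOfLE hle t, hn, ?_⟩)
      rw [← Scheme.Hom.comp_apply, Scheme.homOfLE_ι_assoc]
      rfl
    have h3 : (m ∣_ W) ≫ Y.homOfLE inf_le_left = G.homOfLE hle ≫ (m ∣_ W₁) := by
      rw [← cancel_mono W₁.ι]
      simp only [Category.assoc, morphismRestrict_ι, Scheme.homOfLE_ι]
      exact (congrArg (· ≫ m) (G.homOfLE_ι hle)).symm.trans (Category.assoc _ _ _)
    have h4 : G.homOfLE hle ≫ α = G.homOfLE hle ≫ β := by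
      rw [← IsOpenImmersion.lift_fac E.ι (G.homOfLE hle) hr, Category.assoc, Category.assoc, hE]
    simp only [α, β, Scheme.homOfLE_ι_assoc] at h4
    rw [reassoc_of% h3, h4]

theorem uniq_of_dominant [IsReduced Y] (q : N ⟶ S) [IsSeparated q] (m : G ⟶ Y) [IsDominant m] (W : Y.Opens)
    (a b : (W : Scheme.{u}) ⟶ N) (hab : a ≫ q = b ≫ q) (h : (m ∣_ W) ≫ a = (m ∣_ W) ≫ b) : a = b := by
  haveI : IsReduced (W : Scheme.{u}) := isReduced_of_isOpenImmersion W.ι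
  haveI : IsDominant (m ∣_ W) := IsZariskiLocalAtTarget.restrict ‹_› W
  exact ext_of_isDominant_of_isSeparated q hab (m ∣_ W) h

/-- A morphism on a dense quasi-compact source extends uniquely if it extends at every local ring. -/
theorem existsUnique_ext_of_local [IsLocallyNoetherian Y] [IsReduced Y] (q : N ⟶ S) [IsSeparated q]
    [LocallyOfFiniteType q] (z : Y ⟶ S) (m : G ⟶ Y) [QuasiCompact m] [IsLocallyNoetherian G] [IsDominant m]
    (w : G ⟶ N)
    (hloc : ∀ y : Y, ∃ φ : Spec (Y.presheaf.stalk y) ⟶ N, φ ≫ q = Y.fromSpecStalk y ≫ z ∧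
      ∀ (T : Scheme.{u}) (c : T ⟶ G) (d : T ⟶ Spec (Y.presheaf.stalk y)),
        c ≫ m = d ≫ Y.fromSpecStalk y → c ≫ w = d ≫ φ) :
    ∃! g : Y ⟶ N, g ≫ q = z ∧ m ≫ g = w := by
  choose φ hφ hφc using hloc
  choose W g hyW hgq hgw using fun y => exists_spread_near q z m w y (φ y) (hφ y) (hφc y)
  obtain ⟨g', hg'⟩ := EGA73.exists_glue_opens W g fun i j T a b hab himm => by
    haveI := himm
    let V := (a ≫ (W i).ι).opensRange
    have hVi : V ≤ W i := by rintro _ ⟨t, rfl⟩; exact (a t).2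
    have hVj : V ≤ W j := by rintro _ ⟨t, rfl⟩; rw [hab]; exact (b t).2
    let e := (a ≫ (W i).ι).isoOpensRange
    have ea : a = e.hom ≫ Y.homOfLE hVi := by
      rw [← cancel_mono (W i).ι, Category.assoc, Scheme.homOfLE_ι]
      exact (Scheme.Hom.isoOpensRange_hom_ι _).symm
    have eb : b = e.hom ≫ Y.homOfLE hVj := by
      rw [← cancel_mono (W j).ι, Category.assoc, Scheme.homOfLE_ι, ← hab]
      exact (Scheme.Hom.isoOpensRange_hom_ι _).symm
    have res : ∀ k (hk : V ≤ W k), (m ∣_ V) ≫ Y.homOfLE hk ≫ g k = (m ⁻¹ᵁ V).ι ≫ w := fun k hk => by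
      have h1 : (m ∣_ V) ≫ Y.homOfLE hk = G.homOfLE (m.preimage_mono hk) ≫ (m ∣_ W k) := by
        rw [← cancel_mono (W k).ι]
        simp only [Category.assoc, morphismRestrict_ι, Scheme.homOfLE_ι]
        simp only [morphismRestrict_ι, Scheme.homOfLE_ι_assoc]
      rw [reassoc_of% h1, hgw, Scheme.homOfLE_ι_assoc]
    have h := uniq_of_dominant q m V (Y.homOfLE hVi ≫ g i) (Y.homOfLE hVj ≫ g j)
      (by simp only [Category.assoc, hgq, Scheme.homOfLE_ι_assoc]) ((res i hVi).trans (res j hVj).symm)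
    rw [ea, eb, Category.assoc, Category.assoc, h]
  have htop : (⊤ : Y.Opens) ≤ ⨆ i, W i := fun y _ => TopologicalSpace.Opens.mem_iSup.2 ⟨y, hyW y⟩
  let Γ' : Y ⟶ N := Y.topIso.inv ≫ Y.homOfLE htop ≫ g'
  have hι : ∀ y, (W y).ι ≫ Y.topIso.inv ≫ Y.homOfLE htop = Y.homOfLE (le_iSup W y) := fun y => by
    rw [← cancel_mono (⨆ i, W i : Y.Opens).ι]
    simp only [Category.assoc, Scheme.homOfLE_ι]
    show (W y).ι ≫ Y.topIso.inv ≫ Y.topIso.hom = _
    rw [Iso.inv_hom_id, Category.comp_id]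
  have hΓ : ∀ y, (W y).ι ≫ Γ' = g y := fun y => by
    rw [show (W y).ι ≫ Γ' = ((W y).ι ≫ Y.topIso.inv ≫ Y.homOfLE htop) ≫ g' by simp only [Γ', Category.assoc],
      hι, hg']
  have hC : TopologicalSpace.IsOpenCover W := by
    rw [TopologicalSpace.IsOpenCover, eq_top_iff]
    exact htop
  have hΓq : Γ' ≫ q = z := (Y.openCoverOfIsOpenCover W hC).hom_ext _ _ fun y => by
    rw [← Category.assoc]
    exact (congrArg (· ≫ q) (hΓ y)).trans (hgq y)
  have hΓw : m ≫ Γ' = w := by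
    refine (G.openCoverOfIsOpenCover (fun y => m ⁻¹ᵁ W y) (by
      rw [TopologicalSpace.IsOpenCover, eq_top_iff]
      exact fun t _ => TopologicalSpace.Opens.mem_iSup.2 ⟨m t, hyW _⟩)).hom_ext _ _ fun y => ?_
    show (m ⁻¹ᵁ W y).ι ≫ m ≫ Γ' = (m ⁻¹ᵁ W y).ι ≫ w
    rw [← morphismRestrict_ι_assoc, hΓ, hgw]
  refine ⟨Γ', ⟨hΓq, hΓw⟩, fun g₂ hg₂ => ?_⟩
  exact ext_of_isDominant_of_isSeparated q (hg₂.1.trans hΓq.symm) m (hg₂.2.trans hΓw.symm)

end Groth.Agent.NeronHD28
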