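import Groth.Agent.RedPts82.DSCoord
import Groth.Agent.RedPts82.DSChar
import Mathlib.RingTheory.Filtration
import Mathlib.RingTheory.IntegralClosure.IntegrallyClosed
import Mathlib.RingTheory.RootsOfUnity.PrimitiveRoots
import Mathlib.Algebra.Group.UniqueProds.Basic
import Mathlib.AlgebraicGeometry.Fiber

/-! Functions on the multiplicative group and integrality of Laurent polynomials. -/

set_option autoImplicit false
set_option linter.style.haveILetI false
universe u

open CategoryTheory CategoryTheory.Limits MonoidalCategory CartesianMonoidalCategory MonObj AlgebraicGeometry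

namespace Groth.Agent.NeronHD28.GmFun

section Eval

variable {S : Scheme.{u}} {Y Z Z' : Over S} {M : Type} [AddCommGroup M]

open RedPts82

theorem appTop_evalDS [IsAffine Y.left] (q : Z' ⟶ Z) (z : Z ⟶ Y) (t : Z ⟶ Red.DS S M) (c : DSRing Y M) :
    q.left.appTop (evalDS z t c) = evalDS (q ≫ z) (q ≫ t) c := by
  suffices h : q.left.appTop.hom.comp (evalDS z t) = evalDS (q ≫ z) (q ≫ t) from congr($h c)
  refine MonoidAlgebra.ringHom_ext (fun a => ?_) (fun g => ?_) <;>
    simp only [RingHom.comp_apply, evalDS, MonoidAlgebra.liftNCRingHom_single, MonoidHom.coe_mk, OneHom.coe_mk,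
      map_mul, dsFn_comp]
  · rfl
  · rfl

theorem evalDS_surjective [IsAffine Y.left] (z : Z ⟶ Y) (t : Z ⟶ Red.DS S M) (h : IsIso (lift z t : Z ⟶ Y ⊗ Red.DS S M)) :
    Function.Surjective (evalDS z t) := by
  obtain ⟨w, h₁, h₂, hw⟩ := exists_polyLift z t
  have hw' : w = lift z t ≫ (polyIso Y M).inv := by
    rw [Iso.eq_comp_inv]
    show w ≫ lift (polyProj Y M) (polyTu Y M) = _
    rw [comp_lift, h₁, h₂]
  haveI : IsIso w := hw' ▸ inferInstance
  haveI : IsIso w.left := ((Over.forget S).mapIso (asIso w)).isIso_hom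
  haveI : IsIso w.left.appTop := inferInstanceAs (IsIso (w.left.app ⊤))
  intro x
  obtain ⟨y, hy⟩ := (ConcreteCategory.bijective_of_isIso w.left.appTop).2 x
  obtain ⟨c, hc⟩ := (polyCoord_bijective Y M).2 y
  exact ⟨c, by rw [← hw, hc, hy]⟩

theorem evalDS_single_toUnit (t : Z ⟶ Red.Gm S) (z : Z ⟶ Y) (l : ℤ) (a : Gam Y) :
    evalDS z t (MonoidAlgebra.single (Multiplicative.ofAdd l) a) = z.left.appTop a * dsFn t l :=
  evalDS_single z t l a

end Eval

section Integrality

variable {R K : Type u} [CommRing R] [Field K] [Algebra R K]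

theorem geom_sum_zpow_eq_zero {x : K} (hx : x ≠ 1) {M : ℕ} (hM : x ^ M = 1) :
    ∑ k ∈ Finset.range M, x ^ k = 0 := by
  have h := geom_sum_mul x M
  rw [hM, sub_self] at h
  exact (mul_eq_zero.1 h).resolve_right (sub_ne_zero.2 hx)

theorem coeff_mem (M : ℕ) (v : K) (hv : IsPrimitiveRoot v M) (hM0 : 0 < M)
    (hvi : ∃ r : R, algebraMap R K r = v) (hM : IsUnit (M : R)) (c : ℤ →₀ K)
    (hsupp : ∀ i ∈ c.support, ∀ j ∈ c.support, (M : ℤ) ∣ i - j → i = j)
    (h : ∀ k : ℕ, ∃ r : R, algebraMap R K r = c.sum fun i a => a * (v ^ k) ^ i) (l : ℤ) :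
    ∃ r : R, algebraMap R K r = c l := by
  let R' := (algebraMap R K).range
  show c l ∈ R'
  by_cases hl : l ∈ c.support
  swap
  · rw [Finsupp.notMem_support_iff.1 hl]; exact R'.zero_mem
  have hv0 : v ≠ 0 := hv.ne_zero hM0.ne'
  obtain ⟨n, hn⟩ : ∃ n : ℕ, (M : ℤ) ∣ n + l :=
    ⟨((-l) % M).toNat, by
      rw [Int.toNat_of_nonneg (Int.emod_nonneg _ (by omega))]
      exact ⟨-((-l) / M), by rw [Int.emod_def]; ring⟩⟩
  have hS : ∑ k ∈ Finset.range M, (v ^ n) ^ k * (c.sum fun i a => a * (v ^ k) ^ i) = (M : K) * c l := by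
    simp only [Finsupp.sum, Finset.mul_sum]
    rw [Finset.sum_comm, Finset.sum_eq_single l]
    · rw [Finset.sum_congr rfl (g := fun _ => c l), Finset.sum_const, Finset.card_range, nsmul_eq_mul]
      intro k _
      have : (v ^ n) ^ k * (v ^ k) ^ l = 1 := by
        rw [← zpow_natCast (v ^ n), ← zpow_natCast v n, ← zpow_natCast v k, ← zpow_mul, ← zpow_mul, ← zpow_add₀ hv0,
          hv.zpow_eq_one_iff_dvd]
        exact (show ((n : ℤ) * k + (k : ℤ) * l) = (n + l) * k by ring) ▸ hn.mul_right _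
      rw [mul_left_comm, this, _root_.mul_one]
    · intro i hi hil
      have hx : ∀ k : ℕ, (v ^ n) ^ k * (c i * (v ^ k) ^ i) = c i * (v ^ ((n : ℤ) + i)) ^ k := fun k => by
        rw [mul_left_comm, ← zpow_natCast (v ^ n), ← zpow_natCast v n, ← zpow_natCast v k,
          ← zpow_natCast (v ^ ((n : ℤ) + i)), ← zpow_mul, ← zpow_mul, ← zpow_mul, ← zpow_add₀ hv0]
        congr 2
        ring
      simp only [hx, ← Finset.mul_sum]
      rw [geom_sum_zpow_eq_zero, mul_zero]
      · rw [Ne, hv.zpow_eq_one_iff_dvd]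
        intro hd
        exact hil (hsupp i hi l hl (by simpa using dvd_sub hd hn))
      · rw [← zpow_natCast, ← zpow_mul, hv.zpow_eq_one_iff_dvd]
        exact dvd_mul_left _ _
    · exact fun h => (h hl).elim
  have hmem : (M : K) * c l ∈ R' := by
    rw [← hS]
    exact R'.sum_mem fun k _ => R'.mul_mem (R'.pow_mem (R'.pow_mem hvi n) k) (h k)
  obtain ⟨r, hr⟩ := hmem
  obtain ⟨u, hu⟩ := hM
  refine ⟨(↑u⁻¹ : R) * r, ?_⟩
  rw [map_mul, hr, ← map_natCast (algebraMap R K) M, ← hu, ← _root_.mul_assoc, ← map_mul, u.inv_mul, map_one,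
    _root_.one_mul]

variable [IsDomain R] [IsFractionRing R K]

theorem coeff_pos_eq_zero [IsNoetherianRing R] [IsLocalRing R] (w : R)
    (hw : w ∈ IsLocalRing.maximalIdeal R) (hw0 : w ≠ 0) (c : ℤ →₀ R)
    (h : ∀ n : ℕ, ∃ r : R, algebraMap R K r =
      c.sum fun i a => algebraMap R K a * ((algebraMap R K w)⁻¹ ^ n) ^ i) :
    ∀ i : ℤ, 0 < i → c i = 0 := by
  classical
  by_contra hne
  push Not at hne
  obtain ⟨i₀, hi₀, hi₀c⟩ := hne
  have hs : c.support.Nonempty := ⟨i₀, Finsupp.mem_support_iff.2 hi₀c⟩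
  let m := c.support.max' hs
  have hm : 0 < m := hi₀.trans_le (Finset.le_max' _ _ (Finsupp.mem_support_iff.2 hi₀c))
  have hmc : c m ≠ 0 := Finsupp.mem_support_iff.1 (Finset.max'_mem _ hs)
  refine hmc ?_
  have hK : algebraMap R K w ≠ 0 := fun hw' => hw0 (IsFractionRing.injective R K (hw'.trans (map_zero (algebraMap R K)).symm))
  have key : ∀ n : ℕ, c m ∈ IsLocalRing.maximalIdeal R ^ n := by
    intro n
    obtain ⟨r, hr⟩ := h n
    have e : r * (w ^ n) ^ m.toNat = ∑ i ∈ c.support, c i * (w ^ n) ^ (m - i).toNat := by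
      apply IsFractionRing.injective R K
      rw [map_mul, hr, map_sum, Finsupp.sum, Finset.sum_mul, map_pow, map_pow]
      refine Finset.sum_congr rfl fun i hi => ?_
      rw [map_mul, map_pow, map_pow, _root_.mul_assoc, inv_pow, inv_zpow, ← zpow_neg, ← zpow_natCast _ m.toNat,
        ← zpow_natCast _ (m - i).toNat, ← zpow_add₀ (pow_ne_zero n hK), Int.toNat_of_nonneg hm.le,
        Int.toNat_of_nonneg (sub_nonneg.2 (Finset.le_max' _ _ hi))]
      congr 2
      ring
    rw [← Finset.add_sum_erase _ _ (Finset.max'_mem _ hs)] at e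
    simp only [m, sub_self, Int.toNat_zero, pow_zero, _root_.mul_one] at e
    have hwn : ∀ d : ℕ, 0 < d → (w ^ n) ^ d ∈ IsLocalRing.maximalIdeal R ^ n := fun d hd =>
      Ideal.pow_mem_of_mem _ (Ideal.pow_mem_pow hw n) d hd
    rw [show c m = r * (w ^ n) ^ m.toNat - ∑ i ∈ c.support.erase m, c i * (w ^ n) ^ (m - i).toNat from
      eq_sub_of_add_eq e.symm]
    refine Ideal.sub_mem _ (Ideal.mul_mem_left _ _ (hwn _ (by omega)))
      (Ideal.sum_mem _ fun i hi => Ideal.mul_mem_left _ _ (hwn _ ?_))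
    obtain ⟨hne, hi'⟩ := Finset.mem_erase.1 hi
    have : i ≤ m := Finset.le_max' _ _ hi'
    omega
  have := Ideal.iInf_pow_eq_bot_of_isLocalRing _ (IsLocalRing.maximalIdeal.isMaximal R).ne_top
  exact (Submodule.eq_bot_iff _).1 this _ ((Submodule.mem_iInf _).2 key)

/-- Laurent polynomials bounded on the powers of a non-unit are constant. -/
theorem eval_eq_eval_one [IsNoetherianRing R] [IsLocalRing R] [ValuationRing R] (v : K) (hv0 : v ≠ 0)
    (hv : ¬ ∃ r : Rˣ, algebraMap R K r = v) (c : ℤ →₀ R)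
    (h : ∀ n : ℤ, ∃ r : R, algebraMap R K r = c.sum fun i a => algebraMap R K a * (v ^ n) ^ i) :
    (c.sum fun i a => algebraMap R K a * v ^ i) = c.sum fun _ a => algebraMap R K a := by
  classical
  suffices hc : ∀ i, i ≠ 0 → c i = 0 by
    refine Finsupp.sum_congr fun i hi => ?_
    rw [show i = 0 from not_not.1 fun h0 => Finsupp.mem_support_iff.1 hi (hc i h0), zpow_zero, _root_.mul_one]
  obtain ⟨a, b, ha, hb, hab⟩ : ∃ a b : R, a ≠ 0 ∧ b ≠ 0 ∧ v = algebraMap R K a / algebraMap R K b := by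
    obtain ⟨a, b, hb, hab⟩ := IsFractionRing.div_surjective R v
    exact ⟨a, b, fun h => hv0 (by rw [← hab, h, map_zero, zero_div]), nonZeroDivisors.ne_zero hb, hab.symm⟩
  have hbK : algebraMap R K b ≠ 0 := fun h0 => hb (IsFractionRing.injective R K (h0.trans (map_zero _).symm))
  have main : ∀ (v : K) (c : ℤ →₀ R), (∀ n : ℤ, ∃ r : R, algebraMap R K r =
      c.sum fun i a => algebraMap R K a * (v ^ n) ^ i) → (∃ w ∈ IsLocalRing.maximalIdeal R, w ≠ 0 ∧
        v = algebraMap R K w) → ∀ i : ℤ, i ≠ 0 → c i = 0 := by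
    rintro v c h ⟨w, hw, hw0, rfl⟩ i hi
    rcases lt_or_gt_of_ne hi with hi | hi
    · have h2 := coeff_pos_eq_zero (K := K) w hw hw0 (Finsupp.equivMapDomain (Equiv.neg ℤ) c) (fun n => by
        obtain ⟨r, hr⟩ := h n
        refine ⟨r, hr.trans ?_⟩
        rw [Finsupp.sum_equivMapDomain]
        refine Finsupp.sum_congr fun j _ => ?_
        simp [inv_pow, zpow_natCast]) (-i) (by omega)
      simpa using h2
    · refine coeff_pos_eq_zero (K := K) w hw hw0 c (fun n => ?_) i hi
      obtain ⟨r, hr⟩ := h (-n)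
      refine ⟨r, hr.trans ?_⟩
      refine Finsupp.sum_congr fun j _ => ?_
      simp [inv_pow, zpow_natCast]
  rcases ValuationRing.dvd_total a b with ⟨d, hd⟩ | ⟨d, hd⟩
  · have hd0 : d ≠ 0 := fun h => hb (by rw [hd, h, mul_zero])
    have hvd : v⁻¹ = algebraMap R K d := by
      rw [hab, inv_div, hd, map_mul, mul_div_assoc, ← mul_div_assoc, mul_div_cancel_left₀]
      exact fun h0 => ha (IsFractionRing.injective R K (h0.trans (map_zero _).symm))
    have hdm : d ∈ IsLocalRing.maximalIdeal R := by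
      rw [IsLocalRing.mem_maximalIdeal]
      rintro ⟨u, rfl⟩
      exact hv ⟨u⁻¹, by rw [← inv_inv v, hvd, ← map_units_inv]⟩
    intro i hi
    have h2 := main v⁻¹ (Finsupp.equivMapDomain (Equiv.neg ℤ) c) (fun n => by
      obtain ⟨r, hr⟩ := h n
      refine ⟨r, hr.trans ?_⟩
      rw [Finsupp.sum_equivMapDomain]
      refine Finsupp.sum_congr fun j _ => ?_
      simp) ⟨d, hdm, hd0, hvd⟩ (-i) (by omega)
    simpa using h2
  · have hd0 : d ≠ 0 := fun h => ha (by rw [hd, h, mul_zero])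
    have hvd : v = algebraMap R K d := by rw [hab, hd, map_mul, mul_div_cancel_left₀ _ hbK]
    have hdm : d ∈ IsLocalRing.maximalIdeal R := by
      rw [IsLocalRing.mem_maximalIdeal]
      rintro ⟨u, rfl⟩
      exact hv ⟨u, hvd.symm⟩
    exact main v c h ⟨d, hdm, hd0, hvd⟩

end Integrality

section Connected

theorem irreducibleSpace_Gm (k : Type u) [Field k] :
    IrreducibleSpace ↥(Red.Gm (Spec (CommRingCat.of k))).left := by
  let S := Spec (CommRingCat.of k)
  haveI : IsAffine (𝟙_ (Over S)).left := inferInstanceAs (IsAffine S)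
  haveI : IsDomain (RedPts82.Gam (𝟙_ (Over S))) :=
    (Scheme.ΓSpecIso (CommRingCat.of k)).commRingCatIsoToRingEquiv.toMulEquiv.isDomain k
  let i : RedPts82.polyDS (𝟙_ (Over S)) ℤ ≅ Red.DS S ℤ := RedPts82.polyIso _ _ ≪≫ λ_ _
  haveI : IsDomain (RedPts82.DSRing (𝟙_ (Over S)) ℤ) := NoZeroDivisors.to_isDomain _
  haveI : IrreducibleSpace ↥(RedPts82.polyDS (𝟙_ (Over S)) ℤ).left :=
    inferInstanceAs (IrreducibleSpace (PrimeSpectrum (RedPts82.DSRing (𝟙_ (Over S)) ℤ)))
  exact ((Over.forget S).mapIso i).hom.homeomorph.irreducibleSpace_iff.1 ‹_›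

theorem connectedSpace_fibre_of_point {X S : Scheme.{u}} (p : X ⟶ S) {L : Type u} [Field L]
    (g : Spec (CommRingCat.of L) ⟶ S) [IsPreimmersion g] (s : S) (hs : g (IsLocalRing.closedPoint L) = s)
    (h : ConnectedSpace ↥(pullback p g)) : ConnectedSpace ↥(pullback p (S.fromSpecResidueField s)) := by
  have hg : Set.range g = {s} := by
    refine Set.eq_singleton_iff_unique_mem.2 ⟨⟨_, hs⟩, ?_⟩
    rintro _ ⟨x, rfl⟩
    rw [Subsingleton.elim x (IsLocalRing.closedPoint L), hs]
  have h1 : _root_.IsConnected (Set.range (pullback.fst p g)) := isConnected_range (pullback.fst p g).continuous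
  rw [Scheme.Pullback.range_fst, hg, ← Scheme.range_fromSpecResidueField s, ← Scheme.Pullback.range_fst] at h1
  rw [connectedSpace_iff_univ]
  have e := (pullback.fst p (S.fromSpecResidueField s)).isEmbedding
  refine ⟨⟨h1.1.some_mem.choose, trivial⟩, e.toIsInducing.isPreconnected_image.1 ?_⟩
  rw [Set.image_univ]
  exact h1.2

end Connected

end Groth.Agent.NeronHD28.GmFun
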