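import Groth.Agent.NeronHD28.GmFun
import Groth.Agent.RedPts82.GmSmooth
import Groth.Agent.RedPts82.HomExtend

/-! Functions on the generic fibre of the multiplicative group over an integral affine base. -/

set_option autoImplicit false
set_option linter.style.haveILetI false
universe u

open CategoryTheory CategoryTheory.Limits MonoidalCategory CartesianMonoidalCategory MonObj AlgebraicGeometry

namespace Groth.Agent.NeronHD28.GmModel

open RedPts82

theorem appTop_injective_of_isDominant {W X : Scheme.{u}} [IsReduced X] (j : W ⟶ X) [IsDominant j] :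
    Function.Injective j.appTop := by
  rw [injective_iff_map_eq_zero]
  intro a ha
  have h : j ⁻¹ᵁ X.basicOpen a = ⊥ := by
    rw [Scheme.preimage_basicOpen_top, ha]
    exact W.basicOpen_zero _
  rw [← basicOpen_eq_bot_iff]
  by_contra hne
  obtain ⟨x, hx⟩ : ∃ x, x ∈ X.basicOpen a := by
    by_contra h'
    push Not at h'
    exact hne (by ext x; simpa using h' x)
  obtain ⟨_, hy, w, rfl⟩ := j.denseRange.inter_open_nonempty _ (X.basicOpen a).2 ⟨x, hx⟩
  have : w ∈ (⊥ : W.Opens) := h ▸ hy
  exact this

theorem toHom_zpow {L : Type*} [Field L] (f : Multiplicative ℤ →* L) (i : ℤ) :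
    f (Multiplicative.ofAdd i) = f (Multiplicative.ofAdd 1) ^ i := by
  have h := congrArg Units.val (map_zpow f.toHomUnits (Multiplicative.ofAdd (1 : ℤ)) i)
  rw [Units.val_zpow_eq_zpow_val] at h
  simpa [← ofAdd_zsmul] using h

theorem map_dsFn {T : Scheme.{u}} {Z : Over T} {L : Type u} [Field L] (φ : Γ(Z.left, ⊤) →+* L)
    (t : Z ⟶ Red.Gm T) (i : ℤ) : φ (dsFn t i) = φ (Red.gmFn t) ^ i := by
  let F : Multiplicative ℤ →* L :=
    { toFun := fun g => φ (dsFn t (Multiplicative.toAdd g))
      map_one' := (congrArg φ (dsFn_zero t)).trans (map_one φ)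
      map_mul' := fun g g' => (congrArg φ (dsFn_add t _ _)).trans (map_mul φ _ _) }
  rw [gmFn_eq]
  exact toHom_zpow F i

variable (R : Type u) [CommRing R] [IsDomain R] (K : Type u) [Field K] [Algebra R K] [IsFractionRing R K]

/-- The generic point of the base. -/
noncomputable abbrev gen : Spec (CommRingCat.of K) ⟶ Spec (CommRingCat.of R) :=
  Spec.map (CommRingCat.ofHom (algebraMap R K))

instance isPreimmersion_gen : IsPreimmersion (gen R K) :=
  IsPreimmersion.of_isLocalization (nonZeroDivisors R)

theorem range_gen : Set.range (gen R K) = {genericPoint (Spec (CommRingCat.of R))} := by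
  have h : ∀ x, gen R K x = genericPoint (Spec (CommRingCat.of R)) := by
    intro x
    rw [genericPoint_eq_bot_of_affine]
    refine PrimeSpectrum.ext ?_
    haveI : (PrimeSpectrum.asIdeal (R := K) x).IsPrime := x.2
    show (PrimeSpectrum.asIdeal (R := K) x).comap (algebraMap R K) = ⊥
    rw [(PrimeSpectrum.asIdeal x).eq_bot_of_prime, ← RingHom.ker_eq_comap_bot]
    exact (RingHom.injective_iff_ker_eq_bot _).1 (IsFractionRing.injective R K)
  ext y
  exact ⟨fun ⟨x, hx⟩ => hx ▸ h x, fun hy => ⟨IsLocalRing.closedPoint K, (h _).trans hy.symm⟩⟩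

theorem normal_base [IsIntegrallyClosed R] (x : Spec (CommRingCat.of R)) : IsIntegrallyClosed ((Spec (CommRingCat.of R)).presheaf.stalk x) :=
  let x' : PrimeSpectrum R := x
  letI : Algebra R ((Spec (CommRingCat.of R)).presheaf.stalk x) := (StructureSheaf.toStalk R x).hom.toAlgebra
  haveI : IsLocalization.AtPrime ((Spec (CommRingCat.of R)).presheaf.stalk x) x'.asIdeal :=
    StructureSheaf.IsLocalization.to_stalk R x'
  isIntegrallyClosed_of_isLocalization _ x'.asIdeal.primeCompl x'.asIdeal.primeCompl_le_nonZeroDivisors

local notation "B" => Spec (CommRingCat.of R)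
/-- The generic point of the base, as the trivial object. -/
noncomputable abbrev PtK : Over (Spec (CommRingCat.of K)) := (Over.pullback (gen R K)).obj (𝟙_ (Over B))

instance isIso_pt_hom : IsIso (PtK R K).hom := by
  show IsIso (pullback.snd (𝟙 B) (gen R K))
  infer_instance

/-- Functions on the generic point of the base, as elements of the field. -/
noncomputable def kap : Γ(Spec (CommRingCat.of K), ⊤) ≃+* K :=
  (Scheme.ΓSpecIso (CommRingCat.of K)).commRingCatIsoToRingEquiv

/-- Functions on the base, as elements of the ring. -/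
noncomputable def kapR : Γ(B, ⊤) ≃+* R := (Scheme.ΓSpecIso (CommRingCat.of R)).commRingCatIsoToRingEquiv

theorem kap_gen (r : Γ(B, ⊤)) : kap K ((gen R K).appTop r) = algebraMap R K (kapR R r) :=
  congr($(Scheme.ΓSpecIso_naturality (CommRingCat.ofHom (algebraMap R K))) r)

/-- Functions on the generic fibre of the trivial object, as elements of the field. -/
noncomputable def xi : Γ(((Over.map (gen R K)).obj (PtK R K)).left, ⊤) →+* K :=
  (kap K).toRingHom.comp (inv (PtK R K).hom).appTop.hom

theorem xi_injective : Function.Injective (xi R K) := by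
  haveI : IsIso (inv (PtK R K).hom).appTop := inferInstanceAs (IsIso ((inv (PtK R K).hom).app ⊤))
  exact (kap K).injective.comp (ConcreteCategory.bijective_of_isIso (inv (PtK R K).hom).appTop).1

theorem xi_hom_appTop (a : Γ(Spec (CommRingCat.of K), ⊤)) : xi R K ((PtK R K).hom.appTop a) = kap K a := by
  show kap K (((PtK R K).hom.appTop ≫ (inv (PtK R K).hom).appTop) a) = kap K a
  rw [← Scheme.Hom.comp_appTop, IsIso.inv_hom_id]
  rfl

/-- The projection of the generic point to the base. -/
noncomputable def pr : (Over.map (gen R K)).obj (PtK R K) ⟶ 𝟙_ (Over B) := toBase (gen R K) (𝟙 _)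

theorem pr_left : (pr R K).left = pullback.fst (𝟙_ (Over B)).hom (gen R K) :=
  (toBase_left _ _).trans (Category.id_comp _)

theorem xi_pr (r : Γ(B, ⊤)) : xi R K ((pr R K).left.appTop r) = algebraMap R K (kapR R r) := by
  rw [← kap_gen, ← xi_hom_appTop R K]
  have hw : (pr R K).left = (PtK R K).hom ≫ gen R K := (Category.comp_id (pr R K).left).symm.trans (Over.w (pr R K))
  exact congrArg (fun m => xi R K (Scheme.Hom.appTop m r)) hw

/-- The generic fibre of the multiplicative group, over the base. -/
noncomputable abbrev Wb : Over B := (Over.map (gen R K)).obj (Red.bc (gen R K) (Red.Gm B))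

/-- Its projection to the generic point. -/
noncomputable def zgen : Wb R K ⟶ Over.mk (gen R K) := Over.homMk (Red.bc (gen R K) (Red.Gm B)).hom rfl

/-- Its projection to the multiplicative group. -/
noncomputable def tgen : Wb R K ⟶ Red.Gm B := toBase (gen R K) (𝟙 _)

theorem tgen_left : (tgen R K).left = pullback.fst (Red.Gm B).hom (gen R K) :=
  (toBase_left _ _).trans (Category.id_comp _)

theorem isIso_lift : IsIso (lift (zgen R K) (tgen R K)) := by
  haveI : IsIso (lift (zgen R K) (tgen R K)).left := by
    have : (lift (zgen R K) (tgen R K)).left = (pullbackSymmetry (Red.Gm B).hom (Over.mk (gen R K)).hom).hom := by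
      refine pullback.hom_ext ?_ ?_
      · rw [pullbackSymmetry_hom_comp_fst]
        exact congrArg CommaMorphism.left (lift_fst (zgen R K) (tgen R K))
      · rw [pullbackSymmetry_hom_comp_snd]
        exact (congrArg CommaMorphism.left (lift_snd (zgen R K) (tgen R K))).trans (tgen_left R K)
    rw [this]
    infer_instance
  haveI : IsIso ((Over.forget B).map (lift (zgen R K) (tgen R K))) := ‹IsIso (lift (zgen R K) (tgen R K)).left›
  exact isIso_of_reflects_iso _ (Over.forget B)

/-- The coordinate of a generic point of the multiplicative group. -/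
noncomputable def val : ((PtK R K) ⟶ Red.bc (gen R K) (Red.Gm B)) →* K where
  toFun u := xi R K (Red.gmFn (toBase (gen R K) u))
  map_one' := by rw [toBase_one, gmFn_one, map_one]
  map_mul' u u' := by rw [toBase_mul, gmFn_mul, map_mul]

theorem val_apply (u : (PtK R K) ⟶ Red.bc (gen R K) (Red.Gm B)) :
    val R K u = xi R K (Red.gmFn (toBase (gen R K) u)) := rfl

theorem val_injective : Function.Injective (val R K) := fun _ _ h =>
  toBase_injective _ (gmFn_injective (xi_injective R K h))

theorem map_comp_tgen (u : (PtK R K) ⟶ Red.bc (gen R K) (Red.Gm B)) :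
    (Over.map (gen R K)).map u ≫ tgen R K = toBase (gen R K) u :=
  (toBase_comp (gen R K) u (𝟙 _)).symm.trans (by rw [Category.comp_id])

theorem xi_evalDS (u : (PtK R K) ⟶ Red.bc (gen R K) (Red.Gm B)) (c : DSRing (Over.mk (gen R K)) ℤ) :
    xi R K (((Over.map (gen R K)).map u).left.appTop (evalDS (zgen R K) (tgen R K) c)) =
      c.coeff.sum fun g a => kap K a * val R K u ^ (Multiplicative.toAdd g) := by
  haveI : IsAffine (Over.mk (gen R K)).left := inferInstanceAs (IsAffine (Spec (CommRingCat.of K)))
  rw [GmFun.appTop_evalDS, map_comp_tgen]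
  conv_lhs => rw [← MonoidAlgebra.sum_coeff_single c]
  rw [map_finsuppSum, map_finsuppSum]
  refine Finsupp.sum_congr fun g _ => ?_
  rw [show g = Multiplicative.ofAdd (Multiplicative.toAdd g) from rfl, evalDS_single, map_mul]
  have h1 : ((Over.map (gen R K)).map u ≫ zgen R K).left = (PtK R K).hom := Over.w u
  rw [h1]
  rw [xi_hom_appTop, map_dsFn (xi R K), val_apply]
  simp only [toAdd_ofAdd]

end Groth.Agent.NeronHD28.GmModel
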