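import Groth.Agent.NeronHD28.KPoints
import Groth.Agent.NeronHD28.Torsion
import Groth.Agent.RedPts82.Points
import Groth.Agent.Good38.Inertia
import Groth.Agent.EtAlg23.HenselBasic
import Mathlib.RingTheory.IntegralDomain
import Mathlib.RingTheory.AdicCompletion.Basic

/-! The prime-to-p component group of a smooth model of the multiplicative group is cyclic. -/

set_option autoImplicit false
set_option linter.style.haveILetI false
universe u

open CategoryTheory CategoryTheory.Limits MonoidalCategory CartesianMonoidalCategory MonObj AlgebraicGeometry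

namespace Groth.Agent.NeronHD28

variable (R : Type u) [CommRing R] [IsDomain R] [IsDiscreteValuationRing R] [HenselianLocalRing R]
  [IsAlgClosed (IsLocalRing.ResidueField R)] (K : Type u) [Field K] [Algebra R K] [IsFractionRing R K]
  (G : Over (Spec (CommRingCat.of R))) [GrpObj G] [IsCommMonObj G] [Smooth G.hom] [IsSeparated G.hom]
  [QuasiCompact G.hom]

omit [IsDiscreteValuationRing R] in
set_option maxHeartbeats 1000000 in
theorem exists_generator_primeTo
    (e : Red.bc (Spec.map (CommRingCat.ofHom (algebraMap R K))) G ≅ Red.Gm (Spec (CommRingCat.of K)))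
    [IsMonHom e.hom] [LocallyOfFiniteType (Red.bc (closedPt R) G).hom] (M : ℕ) (hM0 : 0 < M) (hM : IsUnit (M : R)) :
    ∃ x₀ : 𝟙_ (Over (Spec (CommRingCat.of (IsLocalRing.ResidueField R)))) ⟶ Red.bc (closedPt R) G,
      ∀ x : 𝟙_ (Over (Spec (CommRingCat.of (IsLocalRing.ResidueField R)))) ⟶ Red.bc (closedPt R) G,
        x ^ M ∈ KPts.comp0 (G := Red.bc (closedPt R) G) →
          ∃ j : ℕ, x₀ ^ j * x⁻¹ ∈ KPts.comp0 (G := Red.bc (closedPt R) G) := by
  let cp := closedPt R
  let Fk := Over.pullback cp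
  haveI : IsCommMonObj (Red.bc cp G) := Functor.isCommMonObj_obj
  haveI : Smooth (Red.bc cp G).hom := inferInstanceAs (Smooth (pullback.snd G.hom cp))
  haveI : QuasiCompact (Red.bc cp G).hom := inferInstanceAs (QuasiCompact (pullback.snd G.hom cp))
  -- sections killed by M form a finite cyclic group
  classical
  let T : Subgroup (𝟙_ (Over (Spec (CommRingCat.of R))) ⟶ G) := (powMonoidHom M).ker
  let X := (Over.pullback (Spec.map (CommRingCat.ofHom (algebraMap R K)))).obj (𝟙_ (Over (Spec (CommRingCat.of R))))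
  haveI : IsIso (Functor.LaxMonoidal.ε (Over.pullback (Spec.map (CommRingCat.ofHom (algebraMap R K))))).left :=
    ((Over.forget _).mapIso (asIso (Functor.LaxMonoidal.ε (Over.pullback (Spec.map (CommRingCat.ofHom (algebraMap R K))))))).isIso_hom
  haveI : IsIso X.hom := by
    show IsIso (pullback.snd (𝟙 (Spec (CommRingCat.of R))) (Spec.map (CommRingCat.ofHom (algebraMap R K))))
    infer_instance
  haveI : IsIntegral X.left := IsIntegral.of_isIso (inv X.hom)
  haveI : IsDomain Γ(X.left, ⊤) := inferInstance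
  let ψ : (X ⟶ Red.bc (Spec.map (CommRingCat.ofHom (algebraMap R K))) G) →* Γ(X.left, ⊤) :=
    { toFun := fun t => Red.gmFn (t ≫ e.hom)
      map_one' := by rw [MonObj.one_comp e.hom, RedPts82.gmFn_one]
      map_mul' := fun t t' => by rw [MonObj.mul_comp _ _ e.hom, RedPts82.gmFn_mul] }
  let φ : (𝟙_ (Over (Spec (CommRingCat.of R))) ⟶ G) →* (X ⟶ Red.bc (Spec.map (CommRingCat.ofHom (algebraMap R K))) G) :=
    (Over.pullback (Spec.map (CommRingCat.ofHom (algebraMap R K)))).homMonoidHom
  let χ : T →* Γ(X.left, ⊤) := ψ.comp (φ.comp T.subtype)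
  have hdom : IsDominant (Spec.map (CommRingCat.ofHom (algebraMap R K))) := by
    constructor
    show DenseRange (PrimeSpectrum.comap (algebraMap R K))
    exact PrimeSpectrum.denseRange_comap_iff_ker_le_nilRadical _ |>.mpr (by
      rw [(RingHom.injective_iff_ker_eq_bot _).mp (IsFractionRing.injective R K)]; exact bot_le)
  have hχ : Function.Injective χ := fun σ τ h => by
    have h1 : (Over.pullback (Spec.map (CommRingCat.ofHom (algebraMap R K)))).map σ.1 = (Over.pullback (Spec.map (CommRingCat.ofHom (algebraMap R K)))).map τ.1 := (cancel_mono e.hom).1 (RedPts82.gmFn_injective h)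
    refine Subtype.ext (Over.OverMorphism.ext ?_)
    haveI : IsDominant (pullback.fst (𝟙 (Spec (CommRingCat.of R))) (Spec.map (CommRingCat.ofHom (algebraMap R K)))) := by
      rw [show pullback.fst (𝟙 (Spec (CommRingCat.of R))) (Spec.map (CommRingCat.ofHom (algebraMap R K))) = pullback.snd (𝟙 _) (Spec.map (CommRingCat.ofHom (algebraMap R K))) ≫ (Spec.map (CommRingCat.ofHom (algebraMap R K))) from by
        rw [← pullback.condition, Category.comp_id]]
      infer_instance
    haveI : IsReduced (𝟙_ (Over (Spec (CommRingCat.of R)))).left := inferInstanceAs (IsReduced (Spec (CommRingCat.of R)))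
    refine ext_of_isDominant_of_isSeparated G.hom (by rw [Over.w, Over.w])
      (pullback.fst (𝟙 (Spec (CommRingCat.of R))) (Spec.map (CommRingCat.ofHom (algebraMap R K)))) ?_
    have h2 : ((Over.pullback (Spec.map (CommRingCat.ofHom (algebraMap R K)))).map σ.1).left ≫ pullback.fst G.hom (Spec.map (CommRingCat.ofHom (algebraMap R K))) = ((Over.pullback (Spec.map (CommRingCat.ofHom (algebraMap R K)))).map τ.1).left ≫ pullback.fst G.hom (Spec.map (CommRingCat.ofHom (algebraMap R K))) := by rw [h1]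
    exact ((pullback.lift_fst _ _ _).symm.trans h2).trans (pullback.lift_fst _ _ _)
  haveI : Finite {a : Γ(X.left, ⊤) // a ^ M = 1} :=
    Set.Finite.to_subtype (s := {a : Γ(X.left, ⊤) | a ^ M = 1})
      ((Polynomial.nthRoots M (1 : Γ(X.left, ⊤))).toFinset.finite_toSet.subset fun a ha => by
        rw [Finset.mem_coe, Multiset.mem_toFinset, Polynomial.mem_nthRoots hM0]
        exact ha)
  haveI : Finite T := by
    refine Finite.of_injective (fun σ : T => (⟨χ σ, ?_⟩ : {a : Γ(X.left, ⊤) // a ^ M = 1})) (fun σ τ h =>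
      hχ (congrArg Subtype.val h))
    rw [← map_pow, show σ ^ M = 1 from Subtype.ext σ.2, map_one]
  haveI : IsCyclic T := isCyclic_of_injective_ringHom χ hχ
  obtain ⟨g, hg⟩ := IsCyclic.exists_monoid_generator (α := T)
  -- reduction of sections
  let δ : 𝟙_ (Over (Spec (CommRingCat.of (IsLocalRing.ResidueField R)))) ⟶ Fk.obj (Over.mk cp) :=
    Over.homMk (pullback.lift (𝟙 _) (𝟙 _) rfl) (pullback.lift_snd _ _ _)
  let q : Over.mk cp ⟶ 𝟙_ (Over (Spec (CommRingCat.of R))) := Over.homMk cp (Category.comp_id _)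
  let Ψ : (Over.mk cp ⟶ G) → (𝟙_ (Over (Spec (CommRingCat.of (IsLocalRing.ResidueField R)))) ⟶ Red.bc cp G) :=
    fun τ => δ ≫ Fk.map τ
  have hΨfst : ∀ τ : Over.mk cp ⟶ G, (Ψ τ).left ≫ pullback.fst G.hom cp = τ.left := fun τ => by
    show (pullback.lift (𝟙 _) (𝟙 _) rfl ≫ (Fk.map τ).left) ≫ pullback.fst G.hom cp = _
    rw [Category.assoc, show (Fk.map τ).left ≫ pullback.fst G.hom cp = pullback.fst cp cp ≫ τ.left from
      pullback.lift_fst _ _ _]
    exact (pullback.lift_fst_assoc _ _ _ _).trans (Category.id_comp _)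
  have hΨpow : ∀ (τ : Over.mk cp ⟶ G) (n : ℕ), Ψ (τ ^ n) = Ψ τ ^ n := fun τ n => by
    show δ ≫ Fk.map (τ ^ n) = (δ ≫ Fk.map τ) ^ n
    rw [show Fk.map (τ ^ n) = Fk.map τ ^ n from map_pow Fk.homMonoidHom τ n, MonObj.comp_pow]
  have hΨone : Ψ 1 = 1 := by
    show δ ≫ Fk.map (1 : Over.mk cp ⟶ G) = 1
    rw [show Fk.map (1 : Over.mk cp ⟶ G) = 1 from map_one Fk.homMonoidHom, MonObj.comp_one]
  refine ⟨Ψ (q ≫ g.1), fun x hx => ?_⟩
  obtain ⟨z, hz, hzM⟩ := KPts.exists_root (G := Red.bc cp G) M (fun h0 => by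
    have h1 := hM.map (IsLocalRing.residue R)
    rw [map_natCast, h0] at h1
    exact not_isUnit_zero h1) (x ^ M) hx
  let y := x * z⁻¹
  have hy : y ^ M = 1 := by rw [mul_pow, inv_pow, hzM, mul_inv_cancel]
  let τ : Over.mk cp ⟶ G := Over.homMk (y.left ≫ pullback.fst G.hom cp) (by
    show (y.left ≫ pullback.fst G.hom cp) ≫ G.hom = cp
    rw [Category.assoc, pullback.condition, ← Category.assoc,
      show y.left ≫ pullback.snd G.hom cp = 𝟙 _ from Over.w y]
    exact Category.id_comp _)
  have hΨτ : Ψ τ = y := by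
    apply Over.OverMorphism.ext
    refine pullback.hom_ext (hΨfst τ) ?_
    exact (Over.w (Ψ τ)).trans (Over.w y).symm
  have hτ : τ ^ M = 1 := by
    have h1 : Ψ (τ ^ M) = Ψ 1 := by rw [hΨpow, hΨτ, hy, hΨone]
    apply Over.OverMorphism.ext
    rw [← hΨfst, ← hΨfst, h1]
  obtain ⟨σ, ⟨hσ, hσq⟩, -⟩ := existsUnique_torsion_lift G M hM τ hτ
  obtain ⟨j, hj⟩ := (Submonoid.mem_powers_iff _ _).1 (hg ⟨σ, hσ⟩)
  refine ⟨j, ?_⟩
  rw [← hΨpow, ← MonObj.comp_pow, show g.1 ^ j = σ from congrArg Subtype.val hj,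
    show q ≫ σ = τ from hσq, hΨτ]
  rw [show x * z⁻¹ * x⁻¹ = z⁻¹ from by rw [mul_comm x, mul_inv_cancel_right]]
  exact Subgroup.inv_mem _ hz

end Groth.Agent.NeronHD28
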