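import Groth.Agent.NeronHD28.GmGeneric
import Groth.Agent.NeronHD28.PrimeToPCyclic
import Groth.Agent.RedPts82.GmSmooth
import Groth.Agent.RedPts82.HomExtend
import Mathlib.AlgebraicGeometry.AlgClosed.Basic
import Mathlib.RingTheory.RootsOfUnity.AlgebraicallyClosed

/-! Affine smooth models of the multiplicative group over a henselian discrete valuation ring. -/

set_option autoImplicit false
set_option linter.style.haveILetI false
universe u

open CategoryTheory CategoryTheory.Limits MonoidalCategory CartesianMonoidalCategory MonObj AlgebraicGeometry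

namespace Groth.Agent.NeronHD28.GmModel

open RedPts82

variable (R : Type u) [CommRing R] [IsDomain R] [IsDiscreteValuationRing R] [HenselianLocalRing R]
  [IsAlgClosed (IsLocalRing.ResidueField R)] (K : Type u) [Field K] [Algebra R K] [IsFractionRing R K]

variable (G : Over (Spec (CommRingCat.of R))) [GrpObj G] [IsCommMonObj G] [Smooth G.hom] [IsAffineHom G.hom]
  [IsSeparated G.hom] [QuasiCompact G.hom]
  (e : Red.bc (gen R K) G ≅ Red.bc (gen R K) (Red.Gm (Spec (CommRingCat.of R)))) [IsMonHom e.hom]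

local notation "S" => Spec (CommRingCat.of R)

theorem exists_section_of_point (x : 𝟙_ (Over (Spec (CommRingCat.of (IsLocalRing.ResidueField R)))) ⟶ Red.bc (closedPt R) G) :
    ∃ σ : 𝟙_ (Over S) ⟶ G, closedPt R ≫ σ.left = x.left ≫ pullback.fst G.hom (closedPt R) := by
  obtain ⟨s, hs, hsq⟩ := exists_section_of_smooth_henselian G.hom (x.left ≫ pullback.fst G.hom (closedPt R)) (by
    rw [Category.assoc, pullback.condition, ← Category.assoc,
      show x.left ≫ pullback.snd G.hom (closedPt R) = 𝟙 _ from Over.w x]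
    exact Category.id_comp _)
  exact ⟨Over.homMk s hs, hsq⟩

theorem exists_torsion_section (M : ℕ) (hM : IsUnit (M : R))
    (y : 𝟙_ (Over (Spec (CommRingCat.of (IsLocalRing.ResidueField R)))) ⟶ Red.bc (closedPt R) G)
    (hy : y ^ M = 1) (hy1 : y ≠ 1) : ∃ σ : 𝟙_ (Over S) ⟶ G, σ ^ M = 1 ∧ σ ≠ 1 := by
  let cp := closedPt R
  let τ : Over.mk cp ⟶ G := Over.homMk (y.left ≫ pullback.fst G.hom cp) (by
    show (y.left ≫ pullback.fst G.hom cp) ≫ G.hom = cp
    rw [Category.assoc, pullback.condition, ← Category.assoc,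
      show y.left ≫ pullback.snd G.hom cp = 𝟙 _ from Over.w y]
    exact Category.id_comp _)
  let i : (Over.map cp).obj (𝟙_ (Over (Spec (CommRingCat.of (IsLocalRing.ResidueField R))))) ⟶ Over.mk cp :=
    Over.homMk (𝟙 _) (by simp)
  haveI : IsIso i.left := inferInstanceAs (IsIso (𝟙 _))
  have hi : toBase cp y = i ≫ τ := Over.OverMorphism.ext ((toBase_left cp y).trans (Category.id_comp _).symm)
  have hpow : ∀ n : ℕ, toBase cp (y ^ n) = toBase cp y ^ n := fun n => by
    induction n with
    | zero => rw [pow_zero, pow_zero, toBase_one]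
    | succ n ih => rw [pow_succ, pow_succ, toBase_mul, ih]
  have hτ : τ ^ M = 1 := by
    apply Over.OverMorphism.ext
    have h1 : i ≫ τ ^ M = i ≫ 1 := by
      rw [MonObj.comp_pow, ← hi, ← hpow, hy, toBase_one, MonObj.comp_one]
    exact (cancel_epi i.left).1 (congrArg CommaMorphism.left h1)
  obtain ⟨σ, ⟨hσ, hσq⟩, -⟩ := existsUnique_torsion_lift G M hM τ hτ
  refine ⟨σ, hσ, fun h => hy1 (toBase_injective cp ?_)⟩
  rw [hi, ← hσq, h, toBase_one, MonObj.comp_one, MonObj.comp_one]

/-- The coordinate of a section on the generic fibre. -/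
noncomputable def secVal : (𝟙_ (Over S) ⟶ G) →* K :=
  (val R K).comp
    ({ toFun := fun u => u ≫ e.hom
       map_one' := MonObj.one_comp e.hom
       map_mul' := fun u u' => MonObj.mul_comp u u' e.hom } :
      ((Over.pullback (gen R K)).obj (𝟙_ (Over S)) ⟶ Red.bc (gen R K) G) →* _) |>.comp
    (show (𝟙_ (Over S) ⟶ G) →* ((Over.pullback (gen R K)).obj (𝟙_ (Over S)) ⟶ Red.bc (gen R K) G) from
      (Over.pullback (gen R K)).homMonoidHom)

theorem secVal_apply (σ : 𝟙_ (Over S) ⟶ G) :
    secVal R K G e σ = val R K ((Over.pullback (gen R K)).map σ ≫ e.hom) := rfl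

theorem secVal_injective : Function.Injective (secVal R K G e) := fun σ τ h => by
  haveI : IsReduced (𝟙_ (Over S)).left := inferInstanceAs (IsReduced S)
  haveI : Flat (𝟙_ (Over S)).hom := inferInstanceAs (Flat (𝟙 S))
  exact HomExt.hom_ext_generic (gen R K) (range_gen R K) ((cancel_mono e.hom).1 (val_injective R K h))

theorem secVal_zpow (σ : 𝟙_ (Over S) ⟶ G) (n : ℤ) : secVal R K G e (σ ^ n) = secVal R K G e σ ^ n := by
  have h := congrArg Units.val (map_zpow (secVal R K G e).toHomUnits σ n)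
  rwa [Units.val_zpow_eq_zpow_val] at h

theorem secVal_ne_zero (σ : 𝟙_ (Over S) ⟶ G) : secVal R K G e σ ≠ 0 :=
  (((secVal R K G e).toHomUnits σ).ne_zero : _)

/-- The map from the generic torus to the model. -/
noncomputable def fgen : (Wb R K).left ⟶ G.left := e.inv.left ≫ pullback.fst G.hom (gen R K)

theorem map_comp_fgen (σ : 𝟙_ (Over S) ⟶ G) :
    ((Over.map (gen R K)).map ((Over.pullback (gen R K)).map σ ≫ e.hom)).left ≫ fgen R K G e =
      (pr R K).left ≫ σ.left := by
  show (((Over.pullback (gen R K)).map σ).left ≫ e.hom.left) ≫ e.inv.left ≫ pullback.fst G.hom (gen R K) = _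
  rw [Category.assoc, ← Category.assoc e.hom.left, ← Over.comp_left, e.hom_inv_id, Over.id_left, Category.id_comp]
  refine (pullback.lift_fst _ _ _).trans ?_
  rw [pr_left]

theorem exists_coeffs (a : Γ(G.left, ⊤)) :
    ∃ c : DSRing (Over.mk (gen R K)) ℤ, evalDS (zgen R K) (tgen R K) c = (fgen R K G e).appTop a ∧
      ∀ σ, algebraMap R K (kapR R (σ.left.appTop a)) =
        c.coeff.sum fun g x => kap K x * secVal R K G e σ ^ (Multiplicative.toAdd g) := by
  haveI : IsAffine (Over.mk (gen R K)).left := inferInstanceAs (IsAffine (Spec (CommRingCat.of K)))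
  obtain ⟨c, hc⟩ := GmFun.evalDS_surjective _ _ (isIso_lift R K) ((fgen R K G e).appTop a)
  refine ⟨c, hc, fun σ => ?_⟩
  rw [secVal_apply, ← xi_evalDS, hc, ← xi_pr]
  exact congrArg (xi R K) congr($(congrArg Scheme.Hom.appTop (map_comp_fgen R K G e σ)).hom a).symm

theorem coeff_integral
    (hk : ∀ M : ℕ, M.Prime → (M : IsLocalRing.ResidueField R) ≠ 0 →
      ∃ y : 𝟙_ (Over (Spec (CommRingCat.of (IsLocalRing.ResidueField R)))) ⟶ Red.bc (closedPt R) G,
        y ^ M = 1 ∧ y ≠ 1) (c : DSRing (Over.mk (gen R K)) ℤ)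
    (hc : ∀ σ : 𝟙_ (Over S) ⟶ G, ∃ r : R, algebraMap R K r =
      c.coeff.sum fun g x => kap K x * secVal R K G e σ ^ (Multiplicative.toAdd g))
    (g : Multiplicative ℤ) : ∃ r : R, algebraMap R K r = kap K (c.coeff g) := by
  classical
  let p := ringChar (IsLocalRing.ResidueField R)
  let Bd := c.coeff.support.sup fun g => (Multiplicative.toAdd g).natAbs
  obtain ⟨M, hMle, hMp⟩ := Nat.exists_infinite_primes (2 * Bd + p + 1)
  have hM0 : (M : IsLocalRing.ResidueField R) ≠ 0 := fun h => by
    have h1 := (ringChar.spec _ M).1 h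
    rcases hMp.eq_one_or_self_of_dvd _ h1 with h2 | h2
    · exact CharP.ringChar_ne_one h2
    · change p = M at h2
      omega
  have hMR : IsUnit (M : R) := by
    rw [← IsLocalRing.notMem_maximalIdeal, ← IsLocalRing.residue_eq_zero_iff, map_natCast]
    exact hM0
  obtain ⟨y, hy, hy1⟩ := hk M hMp hM0
  obtain ⟨σ, hσ, hσ1⟩ := exists_torsion_section R G M hMR y hy hy1
  have hvM : secVal R K G e σ ^ M = 1 := by rw [← map_pow, hσ, map_one]
  have hprim : IsPrimitiveRoot (secVal R K G e σ) M := by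
    haveI := Fact.mk hMp
    exact IsPrimitiveRoot.iff_orderOf.2
      (orderOf_eq_prime hvM fun h => hσ1 (secVal_injective R K G e (h.trans (map_one _).symm)))
  have hvi : ∃ r : R, algebraMap R K r = secVal R K G e σ :=
    IsIntegrallyClosed.exists_algebraMap_eq_of_isIntegral_pow (R := R) (K := K) hMp.pos
      (by rw [hvM]; exact isIntegral_one)
  let cK : ℤ →₀ K := (c.coeff.mapRange (kap K) (map_zero _)).equivMapDomain Multiplicative.toAdd
  have hcK : ∀ i, cK i = kap K (c.coeff (Multiplicative.ofAdd i)) := fun i => by simp [cK]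
  have := GmFun.coeff_mem (R := R) M _ hprim hMp.pos hvi hMR cK (fun i hi j hj hd => by
    have hb' : ∀ i ∈ cK.support, i.natAbs ≤ Bd := fun i hi => by
      have h1 : Multiplicative.ofAdd i ∈ c.coeff.support := by
        rw [Finsupp.mem_support_iff] at hi ⊢
        intro h0
        exact hi (by rw [hcK, h0, map_zero])
      exact Finset.le_sup (f := fun g => (Multiplicative.toAdd g).natAbs) h1
    have h1 := hb' i hi
    have h2 := hb' j hj
    refine Int.sub_eq_zero.1 (Int.eq_zero_of_dvd_of_natAbs_lt_natAbs hd ?_)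
    omega) (fun k => by
    obtain ⟨r, hr⟩ := hc (σ ^ k)
    refine ⟨r, hr.trans ?_⟩
    rw [Finsupp.sum_equivMapDomain, Finsupp.sum_mapRange_index (by simp), map_pow]; rfl) (Multiplicative.toAdd g)
  simpa [hcK] using this

theorem mem_range_tgen (c : DSRing (Over.mk (gen R K)) ℤ)
    (h : ∀ g, ∃ r : R, algebraMap R K r = kap K (c.coeff g)) :
    evalDS (zgen R K) (tgen R K) c ∈ (tgen R K).left.appTop.hom.range := by
  haveI : IsAffine (Over.mk (gen R K)).left := inferInstanceAs (IsAffine (Spec (CommRingCat.of K)))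
  rw [← MonoidAlgebra.sum_coeff_single c, map_finsuppSum]
  refine Subring.sum_mem _ fun g _ => ?_
  obtain ⟨r, hr⟩ := h g
  refine ⟨(Red.Gm S).hom.appTop ((kapR R).symm r) * dsFn (𝟙 (Red.Gm S)) (Multiplicative.toAdd g), ?_⟩
  beta_reduce
  rw [show g = Multiplicative.ofAdd (Multiplicative.toAdd g) from rfl, evalDS_single]
  simp only [toAdd_ofAdd]
  show (tgen R K).left.appTop
    ((Red.Gm S).hom.appTop ((kapR R).symm r) * dsFn (𝟙 (Red.Gm S)) (Multiplicative.toAdd g)) = _
  rw [map_mul, ← dsFn_comp, Category.comp_id]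
  congr 1
  have hbr : (gen R K).appTop ((kapR R).symm r) = c.coeff g :=
    (kap K).injective (by rw [kap_gen, RingEquiv.apply_symm_apply, hr])
  show ((Red.Gm S).hom.appTop ≫ (tgen R K).left.appTop) ((kapR R).symm r) = (zgen R K).left.appTop (c.coeff g)
  rw [← hbr, ← Scheme.Hom.comp_appTop,
    show (tgen R K).left ≫ (Red.Gm S).hom = (zgen R K).left ≫ gen R K from
      (Over.w (tgen R K)).trans (Over.w (zgen R K)).symm, Scheme.Hom.comp_appTop]
  rfl

theorem exists_hom
    (hk : ∀ M : ℕ, M.Prime → (M : IsLocalRing.ResidueField R) ≠ 0 →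
      ∃ y : 𝟙_ (Over (Spec (CommRingCat.of (IsLocalRing.ResidueField R)))) ⟶ Red.bc (closedPt R) G,
        y ^ M = 1 ∧ y ≠ 1) :
    ∃ ψ : Red.Gm S ⟶ G, (Over.pullback (gen R K)).map ψ = e.inv := by
  haveI : Smooth (Red.Gm S).hom := smooth_Gm S
  haveI : IsAffineHom (Red.diag (ULift.{u} ℤ) ℤ).hom := inferInstanceAs (IsAffineHom (Spec.map _))
  haveI : IsAffineHom (Red.Gm S).hom := inferInstanceAs (IsAffineHom (pullback.snd _ _))
  haveI : IsAffine (Red.Gm S).left := isAffine_of_isAffineHom (Red.Gm S).hom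
  haveI : IsAffine G.left := isAffine_of_isAffineHom G.hom
  haveI : IsReduced (Red.Gm S).left := HomExt.isReduced_of_smooth' (normal_base R) (Red.Gm S)
  haveI : IsDominant (tgen R K).left :=
    tgen_left R K ▸ HomExt.isDominant_fst (gen R K) (range_gen R K) (Red.Gm S)
  have htinj := appTop_injective_of_isDominant (tgen R K).left
  have hran : ∀ a, (fgen R K G e).appTop a ∈ (tgen R K).left.appTop.hom.range := by
    intro a
    obtain ⟨c, hc, hσ⟩ := exists_coeffs R K G e a
    rw [← hc]
    exact mem_range_tgen R K c (coeff_integral R K G e hk c fun σ => ⟨_, hσ σ⟩)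
  choose ρ hρ using hran
  let ρ' : Γ(G.left, ⊤) →+* Γ((Red.Gm S).left, ⊤) :=
    { toFun := ρ
      map_one' := htinj (by rw [hρ, map_one, map_one])
      map_mul' := fun a a' => htinj (by rw [hρ, map_mul, map_mul, hρ, hρ])
      map_zero' := htinj (by rw [hρ, map_zero, map_zero])
      map_add' := fun a a' => htinj (by rw [hρ, map_add, map_add, hρ, hρ]) }
  let ψl : (Red.Gm S).left ⟶ G.left :=
    (Red.Gm S).left.toSpecΓ ≫ Spec.map (CommRingCat.ofHom ρ') ≫ G.left.isoSpec.inv
  have hψl : ψl.appTop = CommRingCat.ofHom ρ' := by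
    show ((Red.Gm S).left.toSpecΓ ≫ Spec.map (CommRingCat.ofHom ρ') ≫ G.left.isoSpec.inv).appTop = _
    rw [Scheme.Hom.comp_appTop, Scheme.Hom.comp_appTop, isoSpec_inv_appTop, Category.assoc,
      ← Scheme.ΓSpecIso_inv_naturality_assoc, Scheme.toSpecΓ_appTop, Iso.inv_hom_id]
    exact Category.comp_id _
  have hψf : (tgen R K).left ≫ ψl = fgen R K G e := by
    apply ext_of_isAffine
    rw [Scheme.Hom.comp_appTop, hψl]
    exact CommRingCat.hom_ext (RingHom.ext hρ)
  refine ⟨Over.homMk ψl ?_, ?_⟩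
  · refine ext_of_isDominant (tgen R K).left ?_
    rw [← Category.assoc, hψf, Over.w (tgen R K)]
    show (e.inv.left ≫ pullback.fst G.hom (gen R K)) ≫ G.hom = (Red.bc (gen R K) (Red.Gm S)).hom ≫ gen R K
    rw [Category.assoc, pullback.condition, ← Category.assoc]
    exact congrArg (· ≫ gen R K) (Over.w e.inv)
  · apply toBase_injective (gen R K)
    apply Over.OverMorphism.ext
    rw [← Category.id_comp ((Over.pullback (gen R K)).map _), toBase_comp_map, toBase_left]
    exact hψf

theorem exists_unit_secVal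
    (hk : ∀ M : ℕ, M.Prime → (M : IsLocalRing.ResidueField R) ≠ 0 →
      ∃ y : 𝟙_ (Over (Spec (CommRingCat.of (IsLocalRing.ResidueField R)))) ⟶ Red.bc (closedPt R) G,
        y ^ M = 1 ∧ y ≠ 1) (σ : 𝟙_ (Over S) ⟶ G) :
    ∃ r : Rˣ, algebraMap R K r = secVal R K G e σ := by
  classical
  by_contra hnu
  haveI : IsAffine G.left := isAffine_of_isAffineHom G.hom
  haveI : IsReduced (𝟙_ (Over S)).left := inferInstanceAs (IsReduced S)
  haveI : Flat (𝟙_ (Over S)).hom := inferInstanceAs (Flat (𝟙 S))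
  have hconst : σ = 1 := by
    apply Over.OverMorphism.ext
    apply ext_of_isAffine
    refine CommRingCat.hom_ext (RingHom.ext fun a => ?_)
    apply (kapR R).injective
    apply IsFractionRing.injective R K
    obtain ⟨c, -, hσ⟩ := exists_coeffs R K G e a
    show algebraMap R K (kapR R (σ.left.appTop a)) =
      algebraMap R K (kapR R ((1 : 𝟙_ (Over S) ⟶ G).left.appTop a))
    rw [hσ, hσ]
    choose cR hcR using coeff_integral R K G e hk c fun σ => ⟨_, hσ σ⟩
    let c0 : ℤ →₀ R := Finsupp.onFinset (c.coeff.support.image Multiplicative.toAdd)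
      (fun i => cR (Multiplicative.ofAdd i)) (fun i hi => by
        rw [Finset.mem_image]
        refine ⟨Multiplicative.ofAdd i, Finsupp.mem_support_iff.2 fun h0 => hi ?_, rfl⟩
        exact IsFractionRing.injective R K (by rw [hcR, h0, map_zero, map_zero]))
    have hc0 : ∀ w : K, (c.coeff.sum fun g x => kap K x * w ^ (Multiplicative.toAdd g)) =
        c0.sum fun i x => algebraMap R K x * w ^ i := fun w => by
      rw [Finsupp.onFinset_sum _ (fun i => by simp), Finset.sum_image (by simp)]
      refine Finset.sum_congr rfl fun g _ => ?_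
      beta_reduce
      rw [← hcR]
      rfl
    rw [hc0, hc0, map_one, GmFun.eval_eq_eval_one _ (secVal_ne_zero R K G e σ) hnu c0 fun n => ?_]
    · simp
    · exact ⟨_, (hσ (σ ^ n)).trans (by rw [hc0, secVal_zpow])⟩
  exact hnu ⟨1, by rw [hconst, map_one, Units.val_one, map_one]⟩

theorem exists_hom_points
    (hk : ∀ M : ℕ, M.Prime → (M : IsLocalRing.ResidueField R) ≠ 0 →
      ∃ y : 𝟙_ (Over (Spec (CommRingCat.of (IsLocalRing.ResidueField R)))) ⟶ Red.bc (closedPt R) G,
        y ^ M = 1 ∧ y ≠ 1) :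
    ∃ ψ : Red.Gm S ⟶ G, (Over.pullback (gen R K)).map ψ = e.inv ∧
      ∀ σ : 𝟙_ (Over S) ⟶ G, ∃ ρ : 𝟙_ (Over S) ⟶ Red.Gm S, ρ ≫ ψ = σ := by
  obtain ⟨ψ, hψ⟩ := exists_hom R K G e hk
  haveI : IsReduced (𝟙_ (Over S)).left := inferInstanceAs (IsReduced S)
  haveI : Flat (𝟙_ (Over S)).hom := inferInstanceAs (Flat (𝟙 S))
  refine ⟨ψ, hψ, fun σ => ?_⟩
  obtain ⟨r, hr⟩ := exists_unit_secVal R K G e hk σ
  obtain ⟨ρp, hρp⟩ := gmFn_surjective (X := 𝟙_ (Over S)) (a := (kapR R).symm r)
    ((r.isUnit).map (kapR R).symm)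
  refine ⟨ρp, HomExt.hom_ext_generic (gen R K) (range_gen R K) ?_⟩
  rw [Functor.map_comp, hψ, ← cancel_mono e.hom, Category.assoc, e.inv_hom_id, Category.comp_id]
  refine val_injective R K ?_
  rw [← secVal_apply, ← hr]
  show xi R K (Red.gmFn (toBase (gen R K) ((Over.pullback (gen R K)).map ρp))) = _
  rw [← Category.id_comp ((Over.pullback (gen R K)).map ρp), toBase_comp_map, gmFn_comp, hρp]
  exact (xi_pr R K _).trans (by rw [RingEquiv.apply_symm_apply])

include K e in
theorem exists_iso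
    (hk : ∀ M : ℕ, M.Prime → (M : IsLocalRing.ResidueField R) ≠ 0 →
      ∃ y : 𝟙_ (Over (Spec (CommRingCat.of (IsLocalRing.ResidueField R)))) ⟶ Red.bc (closedPt R) G,
        y ^ M = 1 ∧ y ≠ 1) :
    ConnectedSpace ↥(Red.bc (closedPt R) G).left ∧ ∃ e' : G ≅ Red.Gm S, IsMonHom e'.hom := by
  obtain ⟨ψ, hψ, hpts⟩ := exists_hom_points R K G e hk
  let b := gen R K
  let cp := closedPt R
  have hb := range_gen R K
  haveI : Smooth (Red.Gm S).hom := smooth_Gm S
  haveI : IsAffineHom (Red.diag (ULift.{u} ℤ) ℤ).hom := inferInstanceAs (IsAffineHom (Spec.map _))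
  haveI : IsAffineHom (Red.Gm S).hom := inferInstanceAs (IsAffineHom (pullback.snd _ _))
  haveI : IsSeparated (Red.Gm S).hom := inferInstance
  let k := IsLocalRing.ResidueField R
  haveI : LocallyOfFiniteType (Red.bc cp G).hom := inferInstanceAs (LocallyOfFiniteType (pullback.snd G.hom cp))
  -- the special fibre
  let ιk : Red.bc cp (Red.Gm S) ≅ Red.Gm (Spec (CommRingCat.of k)) :=
    ActBC.bcCompIso cp _ _ (IsTerminal.hom_ext specULiftZIsTerminal _ _)
  let ψk := (Over.pullback cp).map ψ
  have hclosed : closedPoints ↥(Red.bc cp G).left ⊆ Set.range ψk.left := by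
    intro c hc
    let x : 𝟙_ (Over (Spec (CommRingCat.of k))) ⟶ Red.bc cp G :=
      Over.homMk (pointOfClosedPoint (Red.bc cp G).hom c hc) (pointOfClosedPoint_comp _ _ _)
    obtain ⟨σ, hσ⟩ := exists_section_of_point R G x
    obtain ⟨ρ, hρ⟩ := hpts σ
    let y : 𝟙_ (Over (Spec (CommRingCat.of k))) ⟶ Red.bc cp (Red.Gm S) :=
      Over.homMk (pullback.lift (cp ≫ ρ.left) (𝟙 _) (by
        rw [Category.assoc, show ρ.left ≫ (Red.Gm S).hom = 𝟙 _ from Over.w ρ]
        exact (Category.comp_id _).trans (Category.id_comp _).symm)) (pullback.lift_snd _ _ _)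
    have hxy : y ≫ ψk = x := by
      apply Over.OverMorphism.ext
      refine pullback.hom_ext ?_ ?_
      · show (y.left ≫ ψk.left) ≫ _ = _
        rw [Category.assoc, show ψk.left ≫ pullback.fst G.hom cp = pullback.fst _ cp ≫ ψ.left from
          pullback.lift_fst _ _ _, ← Category.assoc,
          show y.left ≫ pullback.fst (Red.Gm S).hom cp = cp ≫ ρ.left from pullback.lift_fst _ _ _, Category.assoc,
          ← Over.comp_left, hρ, hσ]
      · exact (Over.w (y ≫ ψk)).trans (Over.w x).symm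
    refine ⟨y.left (IsLocalRing.closedPoint k), ?_⟩
    have h2 := congrArg (fun m => m.left (IsLocalRing.closedPoint k)) hxy
    exact h2.trans (pointOfClosedPoint_apply (Red.bc cp G).hom c hc _)
  haveI : ConnectedSpace ↥(Red.bc cp (Red.Gm S)).left := by
    haveI : ConnectedSpace ↥((Over.forget (Spec (CommRingCat.of k))).obj (Red.Gm (Spec (CommRingCat.of k)))) := by
      haveI := GmFun.irreducibleSpace_Gm k
      exact inferInstanceAs (ConnectedSpace ↥(Red.Gm (Spec (CommRingCat.of k))).left)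
    exact ((Over.forget _).mapIso ιk).hom.homeomorph.symm.surjective.connectedSpace
      ((Over.forget _).mapIso ιk).hom.homeomorph.symm.continuous
  haveI hconn : ConnectedSpace ↥(Red.bc cp G).left := by
    haveI : JacobsonSpace ↥(Red.bc cp G).left := LocallyOfFiniteType.jacobsonSpace (Red.bc cp G).hom
    rw [connectedSpace_iff_univ, ← Set.univ_subset_iff.1 ((closure_closedPoints (X := ↥(Red.bc cp G).left)).symm.subset.trans
      (closure_mono hclosed))]
    exact (isConnected_range ψk.left.continuous).closure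
  refine ⟨hconn, ?_⟩
  -- the character
  haveI : ConnectedSpace ↥(Red.bc b G).left := by
    let ιK : Red.bc b (Red.Gm S) ≅ Red.Gm (Spec (CommRingCat.of K)) :=
      ActBC.bcCompIso b _ _ (IsTerminal.hom_ext specULiftZIsTerminal _ _)
    haveI : ConnectedSpace ↥((Over.forget (Spec (CommRingCat.of K))).obj (Red.Gm (Spec (CommRingCat.of K)))) := by
      haveI := GmFun.irreducibleSpace_Gm K
      exact inferInstanceAs (ConnectedSpace ↥(Red.Gm (Spec (CommRingCat.of K))).left)
    exact ((Over.forget _).mapIso (e ≪≫ ιK)).hom.homeomorph.symm.surjective.connectedSpace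
      ((Over.forget _).mapIso (e ≪≫ ιK)).hom.homeomorph.symm.continuous
  have hfib : ∀ s : S, ConnectedSpace ↥(pullback G.hom ((S).fromSpecResidueField s)) := by
    intro s
    by_cases hs : (s : PrimeSpectrum R).asIdeal = ⊥
    · refine GmFun.connectedSpace_fibre_of_point G.hom b s ?_ ‹ConnectedSpace ↥(Red.bc b G).left›
      have : b (IsLocalRing.closedPoint K) ∈ Set.range b := ⟨_, rfl⟩
      rw [hb, Set.mem_singleton_iff, genericPoint_eq_bot_of_affine] at this
      exact this.trans (PrimeSpectrum.ext hs.symm)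
    · haveI : IsPreimmersion cp := inferInstance
      refine GmFun.connectedSpace_fibre_of_point G.hom cp s ((closedPt_apply _).trans ?_) hconn
      exact (PrimeSpectrum.ext (IsLocalRing.eq_maximalIdeal
        (((s : PrimeSpectrum R).isPrime).isMaximal hs))).symm
  obtain ⟨φ, hφ⟩ := HomExt.exists_ext_DS b hb (normal_base R) hfib ℤ e.hom (IsMonHom.one_hom e.hom)
  haveI : IsMonHom ((Over.pullback b).map φ) := by rw [hφ]; infer_instance
  haveI : IsMonHom φ := HomExt.isMonHom_of_generic b hb (normal_base R) φ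
  haveI : IsReduced G.left := HomExt.isReduced_of_smooth' (normal_base R) G
  haveI : IsReduced (Red.Gm S).left := HomExt.isReduced_of_smooth' (normal_base R) (Red.Gm S)
  refine ⟨⟨φ, ψ, HomExt.hom_ext_generic b hb ?_, HomExt.hom_ext_generic b hb ?_⟩, ‹IsMonHom φ›⟩
  · rw [Functor.map_comp, hφ, hψ, CategoryTheory.Functor.map_id, e.hom_inv_id]
  · rw [Functor.map_comp, hψ, hφ, CategoryTheory.Functor.map_id, e.inv_hom_id]

end Groth.Agent.NeronHD28.GmModel
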