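import Groth.Agent.S7976
import Groth.Agent.S11397
import Groth.Agent.AlgGrp33.Coord
import Groth.Agent.AlgGrp33.IsogSub
import Groth.Agent.Alb96.GeomInt
import Mathlib.AlgebraicGeometry.Group.Abelian
import Mathlib.Order.KrullDimension

/-! One-dimensional group varieties over an algebraically closed field. -/

set_option autoImplicit false
universe u

open CategoryTheory CategoryTheory.Limits MonoidalCategory CartesianMonoidalCategory MonObj AlgebraicGeometry

namespace Groth.Agent.NeronHD28

open GMod80 AlgGrp33

variable {k : Type u} [Field k] [IsAlgClosed k]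

/-- A closed subscheme of positive dimension of an integral curve is everything. -/
theorem surjective_of_pos_dim {X Y : Scheme.{u}} [IsIntegral X] (hX : topologicalKrullDim X = 1) (j : Y ⟶ X)
    [IsClosedImmersion j] (hY : 0 < topologicalKrullDim Y) : Surjective j := by
  constructor
  by_contra hns
  have hne : Set.range j.base ≠ Set.univ := fun h => hns (Set.range_eq_univ.1 h)
  obtain ⟨p⟩ : Nonempty { p : LTSeries (TopologicalSpace.IrreducibleCloseds Y) // p.length = 1 } := by
    have h1 : ((1 : ℕ) : WithBot ℕ∞) ≤ Order.krullDim (TopologicalSpace.IrreducibleCloseds Y) := by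
      change 0 < Order.krullDim _ at hY
      generalize Order.krullDim (TopologicalSpace.IrreducibleCloseds Y) = d at hY
      cases d with
      | bot => simp at hY
      | coe d =>
        rw [show ((1 : ℕ) : WithBot ℕ∞) = ((1 : ℕ∞) : WithBot ℕ∞) from rfl, WithBot.coe_le_coe,
          Order.one_le_iff_pos]
        exact_mod_cast hY
    obtain ⟨p, hp⟩ := Order.le_krullDim_iff.1 h1
    exact ⟨⟨p, hp⟩⟩
  let f : TopologicalSpace.IrreducibleCloseds Y → TopologicalSpace.IrreducibleCloseds X :=
    TopologicalSpace.IrreducibleCloseds.map j.base.hom.1 j.continuous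
  have hf : StrictMono f :=
    TopologicalSpace.IrreducibleCloseds.map_strictMono_of_isInducing j.isEmbedding.isInducing
  let q := p.1.map f hf
  let top : TopologicalSpace.IrreducibleCloseds X :=
    ⟨Set.univ, IrreducibleSpace.isIrreducible_univ X, isClosed_univ⟩
  have hlt : q.last < top := by
    refine lt_of_le_of_ne (fun x _ => trivial) fun he => hne (Set.univ_subset_iff.1 ?_)
    have h2 : (q.last : Set X) = Set.univ := congrArg (fun t : TopologicalSpace.IrreducibleCloseds X => (t : Set X)) he
    rw [← h2, LTSeries.last_map]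
    exact closure_minimal (Set.image_subset_range _ _) j.isClosedEmbedding.isClosed_range
  have hle := Order.LTSeries.length_le_krullDim (q.snoc top hlt)
  change _ ≤ topologicalKrullDim X at hle
  rw [hX, RelSeries.snoc_length, show q.length = 1 from p.2] at hle
  exact absurd hle (by decide)

/-- A one-dimensional group variety is `Ga`, `Gm` or proper and commutative. -/
theorem grp_dim_one (G : Over (Spec (CommRingCat.of k))) [GrpObj G] [IsIntegral G.left] [IsSeparated G.hom]
    [LocallyOfFiniteType G.hom] [QuasiCompact G.hom] (hdim : topologicalKrullDim ↥G.left = 1) :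
    Nonempty (Grp.mk G ≅ Grp.mk (Red.Ga (Spec (CommRingCat.of k)))) ∨
      Nonempty (Grp.mk G ≅ Grp.mk (Red.Gm (Spec (CommRingCat.of k)))) ∨
      (IsProper G.hom ∧ IsCommMonObj G) := by
  have : Smooth G.hom := IsogSub.smooth_of_reduced G
  by_cases hp : IsProper G.hom
  · have := IsogSub.geometricallyIntegral_of_smooth G
    exact Or.inr (Or.inr ⟨hp, isCommMonObj_of_isProper_of_geometricallyIntegral G⟩)
  obtain ⟨H, _, j, _, hj, -, hHaff, hH⟩ := S11397.result k G hp
  have := surjective_of_pos_dim hdim j.left hH
  have : IsIso j.left := isIso_of_isClosedImmersion_of_surjective j.left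
  have : IsAffine G.left := IsAffine.of_isIso (inv j.left)
  obtain ⟨A, _, _, ψ, _⟩ := exists_coord (k := k) G
  let ψl : Spec (CommRingCat.of A) ≅ G.left := (Over.forget _).mapIso ψ
  have : Nonempty (Spec (CommRingCat.of A)) := ⟨ψl.inv.base (genericPoint G.left)⟩
  have : IsIntegral (Spec (CommRingCat.of A)) := isIntegral_of_isOpenImmersion ψl.hom
  have : IsDomain A := (affine_isIntegral_iff (CommRingCat.of A)).1 inferInstance
  have hft : Algebra.FiniteType k A := by
    have h1 : LocallyOfFiniteType (Spec.map (CommRingCat.ofHom (algebraMap k A))) := by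
      have h2 : LocallyOfFiniteType (ψl.hom ≫ G.hom) := inferInstance
      have h3 : ψl.hom ≫ G.hom = Spec.map (CommRingCat.ofHom (algebraMap k A)) := Over.w ψ.hom
      rwa [h3] at h2
    exact RingHom.finiteType_algebraMap.1 ((HasRingHomProperty.Spec_iff (P := @LocallyOfFiniteType)).1 h1)
  have hd : ringKrullDim A = 1 := by
    rw [← PrimeSpectrum.topologicalKrullDim_eq_ringKrullDim, ← hdim]
    exact IsHomeomorph.topologicalKrullDim_eq _ ψl.hom.homeomorph.isHomeomorph
  have hconn : ∀ e : A, IsIdempotentElem e → e = 0 ∨ e = 1 := fun e he => IsIdempotentElem.iff_eq_zero_or_one.1 he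
  rcases S7976.result k A hconn hd with ⟨⟨E⟩⟩ | ⟨⟨E⟩⟩
  · obtain ⟨ψ', _, -⟩ := exists_coord_Gm (k := k)
    exact Or.inr (Or.inl (nonempty_grpIso ψ' ψ E.symm))
  · obtain ⟨ψ', _⟩ := exists_coord_Ga (k := k)
    exact Or.inl (nonempty_grpIso ψ' ψ E.symm)

end Groth.Agent.NeronHD28
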