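import Groth.Agent.SGA3a.DominantHom
import Groth.Agent.SGA3a.GrpTargetLocus
import Groth.Agent.SpPts86.LocPMore
import Groth.Agent.SpPts86.Props
import Groth.Agent.AlgGrp79.SepDense
import Mathlib.AlgebraicGeometry.Morphisms.UniversallyOpen

/-! Flat homomorphisms over a field and identity components. -/

set_option autoImplicit false
set_option linter.style.haveILetI false
universe u

open CategoryTheory CategoryTheory.Limits MonoidalCategory CartesianMonoidalCategory MonObj AlgebraicGeometry

namespace Groth.Agent.NeronHD28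

variable {K : Type u} [Field K] {G H : Over (Spec (CommRingCat.of K))} [GrpObj G] [GrpObj H]
  (f : G ⟶ H) [IsMonHom f]

/-- A homomorphism reaching every point of the identity component of a reduced group is flat. -/
theorem flat_of_component_subset [IsReduced H.left]
    (h : connectedComponent (Grp57.unitPt H) ⊆ Set.range f.left) : Flat f.left := by
  haveI : Subsingleton (Spec (CommRingCat.of K)) := inferInstanceAs (Subsingleton (PrimeSpectrum K))
  obtain ⟨η', hη'e, hη⟩ := SGA3a.exists_maximal_generalization (α := H.left) (Grp57.unitPt H)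
  have hmem : η' ∈ connectedComponent (Grp57.unitPt H) :=
    connectedComponent_eq (α := H.left) (x := η') (y := Grp57.unitPt H)
      (isClosed_connectedComponent.closure_subset_iff.2 (Set.singleton_subset_iff.2 mem_connectedComponent)
        hη'e.mem_closure) ▸ mem_connectedComponent
  obtain ⟨x, rfl⟩ := h hmem
  refine SGA3a.flat_hom_of_flat_at f x ?_
  let := (SGA3a.isField_stalk_maximal hη).toField
  algebraize [(f.left.stalkMap x).hom]
  show Module.Flat _ _
  infer_instance

theorem unitPt_map : f.left (Grp57.unitPt G) = Grp57.unitPt H := by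
  show (η[G] ≫ f).left _ = _
  rw [IsMonHom.one_hom]
  rfl

/-- A flat homomorphism maps the identity component onto the identity component. -/
theorem image_component_of_flat [LocallyOfFiniteType G.hom] [LocallyOfFiniteType H.hom] [IsReduced H.left]
    [QuasiCompact f.left] [Flat f.left] :
    f.left '' connectedComponent (Grp57.unitPt G) = connectedComponent (Grp57.unitPt H) := by
  haveI : LocallyOfFinitePresentation H.hom :=
    LocallyOfFinitePresentation.iff_locallyOfFiniteType.2 inferInstance
  haveI : LocallyOfFinitePresentation f.left := by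
    haveI : LocallyOfFinitePresentation (f.left ≫ H.hom) := by
      rw [Over.w]
      exact LocallyOfFinitePresentation.iff_locallyOfFiniteType.2 inferInstance
    exact SpPts86.lfp_of_comp f.left H.hom
  let G₀ := SGA3a.TargetLocus.neutral G
  let H₀ := SGA3a.TargetLocus.neutral H
  have hsub : f.left '' connectedComponent (Grp57.unitPt G) ⊆ connectedComponent (Grp57.unitPt H) :=
    (isPreconnected_connectedComponent.image _ f.left.continuous.continuousOn).subset_connectedComponent
      ⟨_, mem_connectedComponent, unitPt_map f⟩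
  let i := SGA3a.TargetLocus.preNeutralι (𝟙 G)
  let j := SGA3a.TargetLocus.preNeutralι (𝟙 H)
  obtain ⟨_, _⟩ := SGA3a.TargetLocus.exists_grpObj_preNeutral (𝟙 G)
  obtain ⟨_, _⟩ := SGA3a.TargetLocus.exists_grpObj_preNeutral (𝟙 H)
  haveI : Mono j.left := inferInstanceAs (Mono ((𝟙 H : H ⟶ H).left ⁻¹ᵁ SGA3a.TargetLocus.neutral H).ι)
  haveI : Mono j := Over.mono_of_mono_left _
  obtain ⟨g, hg⟩ := SGA3a.TargetLocus.exists_lift_preNeutral (𝟙 H) (i ≫ f) fun t => by
    rw [Category.comp_id]
    exact hsub ⟨i.left t, t.2, rfl⟩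
  haveI : IsMonHom g := by
    refine ⟨?_, ?_⟩
    · rw [← cancel_mono j, Category.assoc, hg, ← Category.assoc, IsMonHom.one_hom, IsMonHom.one_hom, IsMonHom.one_hom]
    · rw [← cancel_mono j, Category.assoc, hg, ← Category.assoc, IsMonHom.mul_hom, Category.assoc, IsMonHom.mul_hom,
        Category.assoc, IsMonHom.mul_hom, tensorHom_comp_tensorHom_assoc, tensorHom_comp_tensorHom_assoc, hg]
  haveI hiG : IrreducibleSpace ↥(SGA3a.TargetLocus.preNeutral (𝟙 H)).left := by
    refine Subtype.irreducibleSpace ?_
    exact (Grp57.connectedComponent_unit H).1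
  haveI : IsReduced (SGA3a.TargetLocus.preNeutral (𝟙 H)).left :=
    inferInstanceAs (IsReduced ((𝟙 H : H ⟶ H).left ⁻¹ᵁ SGA3a.TargetLocus.neutral H).toScheme)
  haveI hgo : UniversallyOpen (i ≫ f).left := by
    haveI : IsOpenImmersion i.left := inferInstanceAs (IsOpenImmersion ((𝟙 G : G ⟶ G).left ⁻¹ᵁ _).ι)
    rw [Over.comp_left]
    infer_instance
  have hgl : g.left ≫ j.left = (i ≫ f).left := by rw [← Over.comp_left, hg]
  haveI : QuasiCompact g.left := by
    haveI : QuasiCompact (𝟙 G : G ⟶ G).left := inferInstanceAs (QuasiCompact (𝟙 G.left))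
    haveI := SGA3a.TargetLocus.quasiCompact_preNeutral (𝟙 G)
    haveI : IsSeparated H.hom := Groth.Agent.AlgGrp79.isSeparated_grp H
    haveI : IsSeparated (SGA3a.TargetLocus.preNeutral (𝟙 H)).hom :=
      inferInstanceAs (IsSeparated (((𝟙 H : H ⟶ H).left ⁻¹ᵁ _).ι ≫ H.hom))
    haveI : QuasiCompact (g.left ≫ (SGA3a.TargetLocus.preNeutral (𝟙 H)).hom) := by
      rw [Over.w]
      infer_instance
    exact QuasiCompact.of_comp g.left (SGA3a.TargetLocus.preNeutral (𝟙 H)).hom
  have hopen : IsOpen (Set.range g.left) := by
    have h1 : IsOpen (Set.range (i ≫ f).left) := (i ≫ f).left.isOpenMap.isOpen_range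
    have h2 : Set.range g.left = j.left ⁻¹' Set.range (i ≫ f).left := by
      haveI : IsOpenImmersion j.left := inferInstanceAs (IsOpenImmersion ((𝟙 H : H ⟶ H).left ⁻¹ᵁ _).ι)
      rw [← hgl, Scheme.Hom.comp_base, TopCat.coe_comp, Set.range_comp,
        Set.preimage_image_eq _ j.left.isOpenEmbedding.injective]
    rw [h2]
    exact h1.preimage j.left.continuous
  have hd : DenseRange g.left :=
    hopen.dense ⟨_, η[SGA3a.TargetLocus.preNeutral (𝟙 G)].left (IsLocalRing.closedPoint K), rfl⟩
  have hs := SGA3a.surjective_of_dominant g hd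
  refine hsub.antisymm fun y hy => ?_
  obtain ⟨x, hx⟩ := hs.surj ⟨y, hy⟩
  exact ⟨i.left x, x.2, (congr($hgl x)).symm.trans (congrArg j.left hx)⟩

end Groth.Agent.NeronHD28

namespace Groth.Agent.NeronHD28

open CategoryTheory.Limits

/-- The map induced on fibres is the base change to the fibre of the target. -/
theorem isPullback_map_left {S S' : Scheme.{u}} (b : S' ⟶ S) {A B : Over S} (φ : A ⟶ B) :
    IsPullback (pullback.fst A.hom b) ((Over.pullback b).map φ).left φ.left (pullback.fst B.hom b) := by
  refine (IsPullback.of_right (h₁₂ := ((Over.pullback b).obj B).hom) (h₂₂ := B.hom) (v₁₃ := b) ?_ ?_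
    (IsPullback.of_hasPullback B.hom b).flip).flip
  · rw [Over.w, Over.w]
    exact (IsPullback.of_hasPullback A.hom b).flip
  · exact pullback.lift_fst _ _ _

/-- Flatness of a fibre may be tested on any field valued point over the point. -/
theorem flat_fibre_of_fieldPoint {S : Scheme.{u}} {A B : Over S} (φ : A ⟶ B) {k : Type u} [Field k]
    (b : Spec (CommRingCat.of k) ⟶ S) (h : Flat ((Over.pullback b).map φ).left) :
    Flat (pullback.snd φ.left (B.hom.fiberι (b (IsLocalRing.closedPoint k)))) := by
  let s := b (IsLocalRing.closedPoint k)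
  let ψ : Spec (CommRingCat.of k) ⟶ Spec (S.residueField s) :=
    Spec.map (S.descResidueField (Scheme.stalkClosedPointTo b))
  have hψ : ψ ≫ S.fromSpecResidueField s = b :=
    Scheme.descResidueField_stalkClosedPointTo_fromSpecResidueField k S b
  let l : pullback B.hom b ⟶ B.hom.fiber s :=
    pullback.map B.hom b B.hom (S.fromSpecResidueField s) (𝟙 _) ψ (𝟙 _) (by simp) (by simp [hψ])
  have hl : l ≫ B.hom.fiberι s = pullback.fst B.hom b := by
    show l ≫ pullback.fst B.hom (S.fromSpecResidueField s) = _
    exact (pullback.lift_fst _ _ _).trans (Category.comp_id _)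
  haveI : Flat ψ := inferInstance
  haveI : Surjective ψ := ⟨fun _ => ⟨IsLocalRing.closedPoint k, Subsingleton.elim _ _⟩⟩
  have hsq : IsPullback l (pullback.snd B.hom b) (B.hom.fiberToSpecResidueField s) ψ := by
    refine IsPullback.of_right (h₁₂ := B.hom.fiberι s) (v₁₃ := B.hom) (h₂₂ := S.fromSpecResidueField s)
      ?_ ?_ (IsPullback.of_hasPullback B.hom (S.fromSpecResidueField s))
    · rw [hψ, hl]
      exact IsPullback.of_hasPullback B.hom b
    · exact pullback.lift_snd _ _ _
  have hQl : Unr55.fpqc l := by
    haveI : Flat l := MorphismProperty.of_isPullback hsq.flip ‹Flat ψ›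
    haveI : Surjective l := MorphismProperty.of_isPullback hsq.flip ‹Surjective ψ›
    haveI : QuasiCompact l := MorphismProperty.of_isPullback hsq.flip (inferInstance : QuasiCompact ψ)
    exact ⟨⟨‹_›, ‹_›⟩, ‹_›⟩
  haveI := SpPts86.flat_fpqc.{u}
  have h2 : Flat (pullback.snd (pullback.snd φ.left (B.hom.fiberι s)) l) := by
    let e : pullback (pullback.snd φ.left (B.hom.fiberι s)) l ≅ pullback φ.left (pullback.fst B.hom b) :=
      pullbackLeftPullbackSndIso φ.left (B.hom.fiberι s) l ≪≫ pullback.congrHom rfl hl
    have he : e.hom ≫ pullback.snd φ.left (pullback.fst B.hom b) = pullback.snd _ _ := by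
      simp [e, pullback.lift_snd, pullback.lift_snd_assoc]
    rw [← he]
    haveI : Flat (pullback.snd φ.left (pullback.fst B.hom b)) := by
      rw [← (isPullback_map_left b φ).isoPullback_inv_snd]
      infer_instance
    infer_instance
  exact MorphismProperty.of_pullback_snd_of_descendsAlong (P := @Flat) (Q := Unr55.fpqc) hQl h2

end Groth.Agent.NeronHD28
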