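import Groth.Prelude
import Groth.Agent.LimTop61.BirationalZMT
import Groth.Agent.Fin57.FunctionField
import Mathlib.AlgebraicGeometry.AlgClosed.Basic

/-!
# Dominant morphisms injective on rational points are open immersions onto normal targets
-/

set_option autoImplicit false
set_option linter.style.haveILetI false
universe u

open CategoryTheory CategoryTheory.Limits AlgebraicGeometry Polynomial IntermediateField

namespace Groth.Agent.NeronHD28

/-- A finite extension of domains separating rational points, in characteristic zero, is birational. -/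
theorem exists_mul_eq_of_injective_points {k A B : Type u} [Field k] [IsAlgClosed k] [CharZero k]
    [CommRing A] [IsDomain A] [CommRing B] [IsDomain B] [Algebra k A] [Algebra A B] [Algebra k B]
    [IsScalarTower k A B] [Algebra.FiniteType k A] [Module.Finite A B]
    (hinj : Function.Injective (algebraMap A B))
    (hpts : ∀ φ₁ φ₂ : B →ₐ[k] k, φ₁.comp (IsScalarTower.toAlgHom k A B) = φ₂.comp (IsScalarTower.toAlgHom k A B) →
      φ₁ = φ₂) (b : B) :
    ∃ a s : A, s ≠ 0 ∧ algebraMap A B s * b = algebraMap A B a := by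
  classical
  let K := FractionRing A
  let L := FractionRing B
  haveI : FaithfulSMul A B := (faithfulSMul_iff_algebraMap_injective A B).2 hinj
  haveI : FaithfulSMul A L := (faithfulSMul_iff_algebraMap_injective A L).2 (by
    rw [IsScalarTower.algebraMap_eq A B L]; exact (IsFractionRing.injective B L).comp hinj)
  letI := FractionRing.liftAlgebra A L
  haveI : CharZero K := charZero_of_injective_ringHom
    (f := (algebraMap A K).comp (algebraMap k A)) (RingHom.injective _)
  have hint : ∀ y : B, IsIntegral A (algebraMap B L y) := fun y =>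
    (Algebra.IsIntegral.isIntegral y).map (IsScalarTower.toAlgHom A B L)
  haveI : Algebra.IsAlgebraic K L := by
    refine ⟨fun z => ?_⟩
    obtain ⟨x, y, -, rfl⟩ := IsFractionRing.div_surjective B z
    rw [div_eq_mul_inv]
    exact ((hint x).tower_top.mul (hint y).tower_top.inv).isAlgebraic
  obtain ⟨T, hT⟩ := Module.Finite.fg_top (R := A) (M := B)
  haveI : FiniteDimensional K (IntermediateField.adjoin K ((T.image (algebraMap B L)) : Set L)) :=
    IntermediateField.finiteDimensional_adjoin fun z _ => Algebra.IsIntegral.isIntegral z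
  have htop : IntermediateField.adjoin K ((T.image (algebraMap B L)) : Set L) = ⊤ := by
    refine eq_top_iff.2 fun z _ => ?_
    set F := IntermediateField.adjoin K ((T.image (algebraMap B L)) : Set L)
    have hB : ∀ y : B, algebraMap B L y ∈ F := fun y => by
      have hy : y ∈ Submodule.span A (T : Set B) := hT ▸ Submodule.mem_top
      induction hy using Submodule.span_induction with
      | mem y hy => exact IntermediateField.subset_adjoin _ _ (Finset.mem_image_of_mem _ hy)
      | zero => rw [map_zero]; exact zero_mem _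
      | add y y' _ _ h h' => rw [map_add]; exact add_mem h h'
      | smul a y _ h =>
        rw [Algebra.smul_def, map_mul, ← IsScalarTower.algebraMap_apply,
          IsScalarTower.algebraMap_apply A K L]
        exact mul_mem (F.algebraMap_mem _) h
    obtain ⟨x, y, -, rfl⟩ := IsFractionRing.div_surjective B z
    exact div_mem (hB x) (hB y)
  haveI : FiniteDimensional K L := by
    have := LinearEquiv.finiteDimensional
      ((IntermediateField.equivOfEq htop).trans IntermediateField.topEquiv).toLinearEquiv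
    exact this
  -- primitive element and a denominator
  obtain ⟨θ, hθ⟩ := Field.exists_primitive_element K L
  let g := minpoly K θ
  have hθint : IsIntegral K θ := Algebra.IsIntegral.isIntegral θ
  have hgen : ∀ z : L, ∃ P : K[X], aeval θ P = z := fun z => by
    have hz : z ∈ K⟮θ⟯.toSubalgebra := by rw [hθ]; trivial
    rw [IntermediateField.adjoin_simple_toSubalgebra_of_isAlgebraic hθint.isAlgebraic,
      Algebra.adjoin_singleton_eq_range_aeval] at hz
    exact hz
  choose Pt hPt using fun t : T => hgen (algebraMap B L t)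
  obtain ⟨u, v, huv⟩ : ∃ u v : K[X], u * g + v * derivative g = 1 :=
    (Algebra.IsSeparable.isSeparable K θ : (minpoly K θ).Separable)
  obtain ⟨Pθ, hPθ⟩ : ∃ P : K[X], P = X := ⟨X, rfl⟩
  -- one denominator for all coefficients
  obtain ⟨s₀, hs₀⟩ := IsLocalization.exist_integer_multiples_of_finset (nonZeroDivisors A)
    (g.coeffs ∪ u.coeffs ∪ v.coeffs ∪ Finset.univ.biUnion (fun t : T => (Pt t).coeffs))
  obtain ⟨s, hs0, hsb⟩ : ∃ s : A, s ≠ 0 ∧ ∃ (θn θd : B), θd ≠ 0 ∧ (∃ e : B, θd * e = algebraMap A B s) ∧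
      θ * algebraMap B L θd = algebraMap B L θn := by
    obtain ⟨θn, θd, hd, hθe⟩ := IsFractionRing.div_surjective B θ
    have hd0 : θd ≠ 0 := nonZeroDivisors.ne_zero hd
    haveI : Algebra.IsIntegral A B := inferInstance
    obtain ⟨a, ha0, ha⟩ := Submodule.exists_mem_ne_zero_of_ne_bot
      (Ideal.comap_ne_bot_of_integral_mem (R := A) hd0 (Ideal.mem_span_singleton_self θd)
        (Algebra.IsIntegral.isIntegral θd))
    obtain ⟨e, he⟩ := Ideal.mem_span_singleton.1 (Ideal.mem_comap.1 ha0)
    refine ⟨s₀ * a, mul_ne_zero (nonZeroDivisors.ne_zero s₀.2) ha, θn, θd, hd0, ⟨e * algebraMap A B s₀, ?_⟩, ?_⟩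
    · rw [← mul_assoc, ← he, map_mul, mul_comm]
    · rw [← hθe, div_mul_cancel₀ _ ((map_ne_zero_iff _ (IsFractionRing.injective B L)).2 hd0)]
  obtain ⟨θn, θd, hd0, ⟨e, he⟩, hθd⟩ := hsb
  let A' := Localization.Away (s * s₀)
  have hsU : (s * (s₀ : A)) ≠ 0 := mul_ne_zero hs0 (nonZeroDivisors.ne_zero s₀.2)
  let ιA : A' →ₐ[A] K := IsLocalization.liftAlgHom (M := Submonoid.powers (s * (s₀ : A)))
    (f := Algebra.ofId A K) (by
      rintro ⟨_, m, rfl⟩
      rw [map_pow]
      exact (isUnit_iff_ne_zero.2 ((map_ne_zero_iff _ (IsFractionRing.injective A K)).2 hsU)).pow m)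
  have hιA : Function.Injective ιA := by
    rw [injective_iff_map_eq_zero]
    intro z hz
    obtain ⟨a, m, rfl⟩ := IsLocalization.exists_mk'_eq (Submonoid.powers (s * (s₀ : A))) z
    have h1 : ιA (algebraMap A A' a) = 0 := by
      rw [← IsLocalization.mk'_spec A' a m, map_mul, hz, zero_mul]
    rw [ιA.commutes, map_eq_zero_iff _ (IsFractionRing.injective A K)] at h1
    rw [h1, IsLocalization.mk'_zero]
  have hlift : ∀ P : K[X], P.coeffs ⊆
      g.coeffs ∪ u.coeffs ∪ v.coeffs ∪ Finset.univ.biUnion (fun t : T => (Pt t).coeffs) →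
      ∃ P' : A'[X], P'.map ιA.toRingHom = P := by
    intro P hP
    refine (Polynomial.mem_lifts P).1 ((Polynomial.lifts_iff_coeff_lifts P).2 fun n => ?_)
    by_cases hn : P.coeff n = 0
    · exact ⟨0, by rw [map_zero, hn]⟩
    obtain ⟨a, ha⟩ := hs₀ _ (hP (Polynomial.coeff_mem_coeffs hn))
    have hu : IsUnit (algebraMap A A' s₀) :=
      isUnit_of_dvd_unit (map_dvd _ (dvd_mul_left (s₀ : A) s)) (IsLocalization.Away.algebraMap_isUnit _)
    refine ⟨algebraMap A A' a * ↑hu.unit⁻¹, ?_⟩
    have h1 : algebraMap A K a = algebraMap A K s₀ * P.coeff n := ha.trans (Algebra.smul_def _ _)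
    show ιA _ = _
    rw [map_mul, ιA.commutes, h1]
    have h2 : ιA (algebraMap A A' s₀) * ιA ↑hu.unit⁻¹ = 1 := by
      rw [← map_mul, IsUnit.mul_val_inv, map_one]
    rw [ιA.commutes] at h2
    linear_combination P.coeff n * h2
  obtain ⟨g₀, hg₀⟩ := hlift g (Finset.subset_union_left.trans (Finset.subset_union_left.trans Finset.subset_union_left))
  obtain ⟨u₀, hu₀⟩ := hlift u (Finset.subset_union_right.trans (Finset.subset_union_left.trans Finset.subset_union_left))
  obtain ⟨v₀, hv₀⟩ := hlift v (Finset.subset_union_right.trans Finset.subset_union_left)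
  choose P₀ hP₀ using fun t : T => hlift (Pt t)
    ((Finset.subset_biUnion_of_mem (fun t : T => (Pt t).coeffs) (Finset.mem_univ t)).trans Finset.subset_union_right)
  have hg₀m : g₀.Monic := Polynomial.monic_of_injective hιA (by rw [hg₀]; exact minpoly.monic hθint)
  have hmapinj := Polynomial.map_injective ιA.toRingHom hιA
  have huv₀ : u₀ * g₀ + v₀ * derivative g₀ = 1 := hmapinj (by
    rw [Polynomial.map_add, Polynomial.map_mul, Polynomial.map_mul, ← derivative_map, hu₀, hv₀, hg₀, huv,
      Polynomial.map_one])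
  -- a point of the base
  haveI : Algebra.FiniteType A A' := IsLocalization.finiteType_of_monoid_fg (Submonoid.powers (s * (s₀ : A))) A'
  haveI : Algebra.FiniteType k A' := Algebra.FiniteType.trans (R := k) (S := A) inferInstance inferInstance
  haveI : IsDomain A' := hιA.isDomain ιA.toRingHom
  obtain ⟨m, hm⟩ := Ideal.exists_maximal A'
  letI : Field (A' ⧸ m) := Ideal.Quotient.field m
  haveI : Algebra.FiniteType k (A' ⧸ m) :=
    Algebra.FiniteType.of_surjective (Ideal.Quotient.mkₐ k m) Ideal.Quotient.mk_surjective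
  haveI : Module.Finite k (A' ⧸ m) := finite_of_finite_type_of_isJacobsonRing _ _
  let ek : k ≃ₐ[k] (A' ⧸ m) := AlgEquiv.ofBijective (Algebra.ofId k _)
    IsAlgClosed.algebraMap_bijective_of_isIntegral
  let ψ : A' →ₐ[k] k := ek.symm.toAlgHom.comp (Ideal.Quotient.mkₐ k m)
  -- points of `B` over it
  have hpoint : ∀ r : k, (g₀.map ψ.toRingHom).eval r = 0 →
      ∃ φ : B →ₐ[k] k, φ.comp (IsScalarTower.toAlgHom k A B) = ψ.comp (IsScalarTower.toAlgHom k A A') ∧
        φ θn = r * φ θd := by
    intro r hr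
    let Q := AdjoinRoot g₀
    let toK : A' →+* K := ιA.toRingHom
    let toL : Q →+* L := AdjoinRoot.lift ((algebraMap K L).comp toK) θ (by
      rw [← eval₂_map, hg₀, ← aeval_def]; exact minpoly.aeval K θ)
    have htoL : ∀ P : A'[X], toL (AdjoinRoot.mk g₀ P) = aeval θ (P.map toK) := fun P => by
      show AdjoinRoot.lift _ _ _ (AdjoinRoot.mk g₀ P) = _
      rw [AdjoinRoot.lift_mk, aeval_def, eval₂_map]
    have htoLi : Function.Injective toL := by
      rw [injective_iff_map_eq_zero]
      intro z hz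
      obtain ⟨P, rfl⟩ := AdjoinRoot.mk_surjective z
      rw [htoL] at hz
      rw [AdjoinRoot.mk_eq_zero, ← Polynomial.modByMonic_eq_zero_iff_dvd hg₀m]
      refine hmapinj ?_
      rw [Polynomial.map_modByMonic _ hg₀m, hg₀, Polynomial.map_zero,
        Polynomial.modByMonic_eq_zero_iff_dvd (minpoly.monic hθint)]
      exact minpoly.dvd K θ hz
    let R := toL.range
    have hA : ∀ a : A, algebraMap A L a ∈ R := fun a => ⟨AdjoinRoot.mk g₀ (C (algebraMap A A' a)), by
      rw [htoL, map_C, aeval_C]
      show algebraMap K L (ιA (algebraMap A A' a)) = _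
      rw [ιA.commutes, ← IsScalarTower.algebraMap_apply]⟩
    have hB : ∀ y : B, algebraMap B L y ∈ R := fun y => by
      have hy : y ∈ Submodule.span A (T : Set B) := hT ▸ Submodule.mem_top
      induction hy using Submodule.span_induction with
      | mem y hy => exact ⟨AdjoinRoot.mk g₀ (P₀ ⟨y, hy⟩), by rw [htoL]; exact (hP₀ ⟨y, hy⟩) ▸ hPt ⟨y, hy⟩⟩
      | zero => rw [map_zero]; exact zero_mem _
      | add y y' _ _ h h' => rw [map_add]; exact add_mem h h'
      | smul a y _ h =>
        rw [Algebra.smul_def, map_mul, ← IsScalarTower.algebraMap_apply]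
        exact mul_mem (hA a) h
    let toQ : B →+* Q := (RingEquiv.ofBijective toL.rangeRestrict
      ⟨fun x y h => htoLi (congrArg Subtype.val h), toL.rangeRestrict_surjective⟩).symm.toRingHom.comp
        ((algebraMap B L).codRestrict R hB)
    have htoQ : ∀ y, toL (toQ y) = algebraMap B L y := fun y =>
      congrArg Subtype.val ((RingEquiv.ofBijective toL.rangeRestrict
        ⟨fun x y h => htoLi (congrArg Subtype.val h), toL.rangeRestrict_surjective⟩).apply_symm_apply
          ((algebraMap B L).codRestrict R hB y))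
    let ev : Q →+* k := AdjoinRoot.lift ψ.toRingHom r (by rw [← Polynomial.eval_map]; exact hr)
    have hcomm : ∀ a : A, ev (toQ (algebraMap A B a)) = ψ (algebraMap A A' a) := fun a => by
      have h1 : toQ (algebraMap A B a) = AdjoinRoot.of g₀ (algebraMap A A' a) := htoLi (by
        rw [htoQ, ← AdjoinRoot.mk_C, htoL, map_C, aeval_C, ← IsScalarTower.algebraMap_apply]
        show _ = algebraMap K L (ιA (algebraMap A A' a))
        rw [ιA.commutes, ← IsScalarTower.algebraMap_apply])
      rw [h1]
      exact AdjoinRoot.lift_of _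
    refine ⟨{ toRingHom := ev.comp toQ, commutes' := fun c => ?_ }, AlgHom.ext hcomm, ?_⟩
    · show ev (toQ (algebraMap k B c)) = _
      rw [IsScalarTower.algebraMap_apply k A B, hcomm, ← IsScalarTower.algebraMap_apply, ψ.commutes]
    · show ev (toQ θn) = r * ev (toQ θd)
      have h1 : toQ θn = AdjoinRoot.root g₀ * toQ θd := htoLi (by
        rw [map_mul, htoQ, htoQ, ← AdjoinRoot.mk_X, htoL, Polynomial.map_X, aeval_X, hθd])
      rw [h1, map_mul]
      congr 1
      exact AdjoinRoot.lift_root _
  -- the degree is one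
  have hdeg : g.natDegree = 1 := by
    by_contra hne
    have hsep : (g₀.map ψ.toRingHom).Separable :=
      ⟨u₀.map ψ.toRingHom, v₀.map ψ.toRingHom, by
        rw [derivative_map, ← Polynomial.map_mul, ← Polynomial.map_mul, ← Polynomial.map_add, huv₀,
          Polynomial.map_one]⟩
    have hcard : (g₀.map ψ.toRingHom).roots.toFinset.card = g.natDegree := by
      rw [Multiset.toFinset_card_of_nodup (nodup_roots hsep),
        IsAlgClosed.card_roots_eq_natDegree, hg₀m.natDegree_map, ← hg₀, hg₀m.natDegree_map]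
    have hpos := minpoly.natDegree_pos hθint
    obtain ⟨r₁, hr₁, r₂, hr₂, hr⟩ := Finset.one_lt_card.1 (show 1 < _ by rw [hcard]; change 0 < g.natDegree at hpos; omega)
    rw [Multiset.mem_toFinset] at hr₁ hr₂
    obtain ⟨φ₁, hφ₁, h1⟩ := hpoint r₁ (isRoot_of_mem_roots hr₁)
    obtain ⟨φ₂, hφ₂, h2⟩ := hpoint r₂ (isRoot_of_mem_roots hr₂)
    have hφ := hpts φ₁ φ₂ (hφ₁.trans hφ₂.symm)
    subst hφ
    have hdne : φ₁ θd ≠ 0 := fun h0 => by
      have hu : IsUnit (ψ (algebraMap A A' s)) :=
        (isUnit_of_dvd_unit (map_dvd _ (dvd_mul_right s (s₀ : A)))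
          (IsLocalization.Away.algebraMap_isUnit (S := A') _)).map ψ
      apply hu.ne_zero
      have h3 := DFunLike.congr_fun hφ₁ s
      change φ₁ (algebraMap A B s) = ψ (algebraMap A A' s) at h3
      rw [← h3, ← he, map_mul, h0, zero_mul]
    exact hr (mul_right_cancel₀ hdne (h1.symm.trans h2))
  -- conclusion
  obtain ⟨c, hc⟩ := (minpoly.natDegree_eq_one_iff.1 hdeg : θ ∈ (algebraMap K L).range)
  obtain ⟨P, hP⟩ := hgen (algebraMap B L b)
  have hbK : algebraMap B L b = algebraMap K L (P.eval c) := by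
    rw [← hP, ← hc, aeval_algebraMap_apply_eq_algebraMap_eval]
  obtain ⟨a, s', hs', hq⟩ := IsFractionRing.div_surjective A (P.eval c)
  refine ⟨a, s', nonZeroDivisors.ne_zero hs', IsFractionRing.injective B L ?_⟩
  rw [map_mul, ← IsScalarTower.algebraMap_apply, ← IsScalarTower.algebraMap_apply, hbK, ← hq,
    IsScalarTower.algebraMap_apply A K L, IsScalarTower.algebraMap_apply A K L, ← map_mul,
    mul_div_cancel₀ _ ((map_ne_zero_iff _ (IsFractionRing.injective A K)).2 (nonZeroDivisors.ne_zero hs'))]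

section Geometry

variable {k : Type u} [Field k] [IsAlgClosed k] {X Y : Scheme.{u}}
  (sX : X ⟶ Spec (CommRingCat.of k)) (sY : Y ⟶ Spec (CommRingCat.of k))
  [LocallyOfFiniteType sX] [LocallyOfFiniteType sY] [IsSeparated sY] [QuasiCompact sX]
  (f : X ⟶ Y) (hf : f ≫ sY = sX)

include sX sY hf in
theorem locallyQuasiFinite_of_injective_points
    (hinj : ∀ a b : Spec (CommRingCat.of k) ⟶ X, a ≫ sX = 𝟙 _ → b ≫ sX = 𝟙 _ → a ≫ f = b ≫ f → a = b) :
    LocallyQuasiFinite f := by
  haveI : LocallyOfFiniteType (f ≫ sY) := by rw [hf]; infer_instance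
  haveI : LocallyOfFiniteType f := locallyOfFiniteType_of_comp f sY
  haveI : JacobsonSpace X := LocallyOfFiniteType.jacobsonSpace sX
  have hclosed : ∀ x ∈ closedPoints X, f.QuasiFiniteAt x := by
    intro x hx
    let p := (pointEquivClosedPoint sX).symm ⟨x, hx⟩
    have hp : p.1.base (IsLocalRing.closedPoint k) = x :=
      congrArg Subtype.val ((pointEquivClosedPoint sX).apply_symm_apply ⟨x, hx⟩)
    have hpY : (p.1 ≫ f) ≫ sY = 𝟙 _ := by rw [Category.assoc, hf]; exact p.2
    have hy : IsClosed ({f.base x} : Set Y) := by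
      have := (pointEquivClosedPoint sY ⟨p.1 ≫ f, hpY⟩).2
      rwa [← hp]
    have hfib : f.base ⁻¹' {f.base x} = {x} := by
      refine Set.eq_singleton_iff_unique_mem.2 ⟨rfl, ?_⟩
      have hF : IsClosed (f.base ⁻¹' {f.base x}) := hy.preimage f.continuous
      have hsub : f.base ⁻¹' {f.base x} ∩ closedPoints X ⊆ {x} := by
        rintro z ⟨hz, hzc⟩
        let q := (pointEquivClosedPoint sX).symm ⟨z, hzc⟩
        have hq : q.1.base (IsLocalRing.closedPoint k) = z :=
          congrArg Subtype.val ((pointEquivClosedPoint sX).apply_symm_apply ⟨z, hzc⟩)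
        have hqY : (q.1 ≫ f) ≫ sY = 𝟙 _ := by rw [Category.assoc, hf]; exact q.2
        have hpq : q.1 = p.1 := hinj _ _ q.2 p.2 (ext_of_apply_closedPoint_eq sY hqY hpY (by
          show f.base (q.1.base _) = f.base (p.1.base _)
          rw [hq, hp]
          exact hz))
        show z = x
        rw [← hq, ← hp, hpq]
      intro z hz
      have h1 := JacobsonSpace.closure_inter_closedPoints_eq_closure hF.isLocallyClosed
      rw [hF.closure_eq] at h1
      have h2 : z ∈ closure ({x} : Set X) := closure_mono hsub (h1.ge hz)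
      have hx' : IsClosed ({x} : Set X) := hx
      rwa [hx'.closure_eq] at h2
    rw [Scheme.Hom.quasiFiniteAt_iff_isOpen_singleton_asFiber, ← (f.fiberHomeo (f x)).isOpen_image]
    haveI : Subsingleton (f.base ⁻¹' {f.base x}) := by rw [hfib]; infer_instance
    exact isOpen_discrete _
  have hall : ∀ x, f.QuasiFiniteAt x := by
    by_contra hcon
    push Not at hcon
    obtain ⟨x, hx⟩ := hcon
    obtain ⟨z, hz, hzc⟩ := nonempty_inter_closedPoints (Z := {x | f.QuasiFiniteAt x}ᶜ) ⟨x, hx⟩
      f.isOpen_quasiFiniteAt.isClosed_compl.isLocallyClosed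
    exact hz (hclosed z hzc)
  rw [locallyQuasiFinite_iff_isDiscrete_preimage_singleton]
  intro y
  refine ⟨discreteTopology_iff_isOpen_singleton.2 ?_⟩
  rintro ⟨x, rfl⟩
  have h1 := Scheme.Hom.quasiFiniteAt_iff_isOpen_singleton_asFiber.1 (hall x)
  rw [← (f.fiberHomeo (f x)).isOpen_image] at h1
  simpa [Scheme.Hom.asFiber] using h1

theorem eq_id_of_appLE {k : Type u} [Field k] {X : Scheme.{u}} (sX : X ⟶ Spec (CommRingCat.of k))
    {U : X.Opens} (hU : IsAffineOpen U) :
    hU.fromSpec ≫ sX =
      Spec.map (CommRingCat.ofHom ((sX.appLE ⊤ U le_top).hom.comp (Scheme.ΓSpecIso (CommRingCat.of k)).inv.hom)) := by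
  rw [← IsAffineOpen.SpecMap_appLE_fromSpec sX (isAffineOpen_top _) hU le_top]
  show _ = Spec.map ((Scheme.ΓSpecIso (CommRingCat.of k)).inv ≫ sX.appLE ⊤ U le_top)
  rw [Spec.map_comp]
  congr 1
  rw [IsAffineOpen.fromSpec_top, Scheme.isoSpec_Spec_inv]

variable [CharZero k] [IsIntegral X] [IsIntegral Y] [IsDominant f] [IsSeparated sX]

include sX sY hf in
set_option maxHeartbeats 1000000 in
theorem isOpenImmersion_of_injective_points (hY : Pi1.IsNormalScheme Y)
    (hinj : ∀ a b : Spec (CommRingCat.of k) ⟶ X, a ≫ sX = 𝟙 _ → b ≫ sX = 𝟙 _ → a ≫ f = b ≫ f → a = b) :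
    IsOpenImmersion f := by
  haveI := locallyQuasiFinite_of_injective_points sX sY f hf hinj
  haveI : LocallyOfFiniteType (f ≫ sY) := by rw [hf]; infer_instance
  haveI : LocallyOfFiniteType f := locallyOfFiniteType_of_comp f sY
  haveI : QuasiCompact (f ≫ sY) := by rw [hf]; infer_instance
  haveI : QuasiCompact f := QuasiCompact.of_comp f sY
  haveI : IsSeparated (f ≫ sY) := by rw [hf]; infer_instance
  haveI : IsSeparated f := IsSeparated.of_comp f sY
  have hgen := Fin57.apply_genericPoint_eq f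
  refine LimTop61.isOpenImmersion_of_birational f (fun y => (hY y).2) hgen ?_
  obtain ⟨U, V, hUV, hU, hV, hne, hfin⟩ := Fin57.exists_isFinite_resLE f fun x hx => by
    have hd := f.isDiscrete_preimage_singleton (genericPoint Y)
    haveI := hd.1
    let a : f.base ⁻¹' {genericPoint Y} := ⟨genericPoint X, hgen⟩
    let b : f.base ⁻¹' {genericPoint Y} := ⟨x, hx⟩
    have hsp : a ⤳ b :=
      Topology.IsInducing.subtypeVal.specializes_iff.1 (genericPoint_specializes x)
    exact (congrArg Subtype.val hsp.eq).symm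
  rw [Fin57.isFinite_resLE_iff f hU hV hUV] at hfin
  haveI : Nonempty (U : Scheme.{u}) := hne
  haveI : Nonempty U := hne
  haveI : Nonempty V := ⟨⟨f.base hne.some.1, hUV hne.some.2⟩⟩
  haveI : Nonempty (V : Scheme.{u}) := ⟨⟨f.base hne.some.1, hUV hne.some.2⟩⟩
  algebraize [(f.appLE V U hUV).hom]
  let αY : k →+* Γ(Y, V) := (sY.appLE ⊤ V le_top).hom.comp (Scheme.ΓSpecIso (CommRingCat.of k)).inv.hom
  letI : Algebra k Γ(Y, V) := αY.toAlgebra
  letI : Algebra k Γ(X, U) := ((f.appLE V U hUV).hom.comp αY).toAlgebra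
  haveI : IsScalarTower k Γ(Y, V) Γ(X, U) := IsScalarTower.of_algebraMap_eq fun _ => rfl
  haveI : Algebra.FiniteType k Γ(Y, V) := by
    rw [← RingHom.finiteType_algebraMap]
    exact (sY.finiteType_appLE (isAffineOpen_top _) hV le_top).comp
      (RingHom.FiniteType.of_surjective _ (Scheme.ΓSpecIso (CommRingCat.of k)).commRingCatIsoToRingEquiv.symm.surjective)
  haveI : Module.Finite Γ(Y, V) Γ(X, U) := hfin
  haveI := functionField_isFractionRing_of_isAffineOpen Y V hV
  haveI := functionField_isFractionRing_of_isAffineOpen X U hU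
  let φ : Y.functionField →+* X.functionField :=
    ((Y.presheaf.stalkCongr (.of_eq hgen.symm)).hom ≫ f.stalkMap (genericPoint X)).hom
  have hφ : ∀ a, φ (algebraMap Γ(Y, V) Y.functionField a) =
      algebraMap Γ(X, U) X.functionField (algebraMap Γ(Y, V) Γ(X, U) a) := by
    intro a
    have hξU : genericPoint X ∈ U := ((genericPoint_spec X).mem_open_set_iff U.isOpen).2 (by simpa using hne.elim fun z => ⟨z.1, z.2⟩)
    show (f.stalkMap (genericPoint X)).hom ((Y.presheaf.stalkCongr (.of_eq hgen.symm)).hom.hom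
      (Y.presheaf.germ V (genericPoint Y) _ a)) = X.presheaf.germ U (genericPoint X) hξU ((f.appLE V U hUV).hom a)
    rw [show (Y.presheaf.stalkCongr (.of_eq hgen.symm)).hom.hom (Y.presheaf.germ V (genericPoint Y) _ a) =
      Y.presheaf.germ V (f.base (genericPoint X)) (hUV hξU) a from
        TopCat.Presheaf.germ_stalkSpecializes_apply _ _ ((Inseparable.of_eq hgen.symm).ge) _]
    erw [Scheme.Hom.germ_stalkMap_apply]
    rw [Scheme.Hom.appLE]
    exact (TopCat.Presheaf.germ_res_apply _ _ _ _ _).symm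
  have hBinj : Function.Injective (algebraMap Γ(Y, V) Γ(X, U)) := fun a a' h => by
    refine IsFractionRing.injective Γ(Y, V) Y.functionField (φ.injective ?_)
    rw [hφ, hφ, h]
  have hpts : ∀ φ₁ φ₂ : Γ(X, U) →ₐ[k] k,
      φ₁.comp (IsScalarTower.toAlgHom k Γ(Y, V) Γ(X, U)) = φ₂.comp (IsScalarTower.toAlgHom k Γ(Y, V) Γ(X, U)) →
      φ₁ = φ₂ := by
    intro φ₁ φ₂ h
    have hsec : ∀ φ' : Γ(X, U) →ₐ[k] k,
        (Spec.map (CommRingCat.ofHom φ'.toRingHom) ≫ hU.fromSpec) ≫ sX = 𝟙 _ := fun φ' => by
      rw [Category.assoc, eq_id_of_appLE sX hU, ← Spec.map_comp, ← Spec.map_id]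
      congr 1
      refine CommRingCat.hom_ext (RingHom.ext fun c => ?_)
      show φ' ((sX.appLE ⊤ U le_top).hom ((Scheme.ΓSpecIso (CommRingCat.of k)).inv.hom c)) = c
      have : (sX.appLE ⊤ U le_top) = sY.appLE ⊤ V le_top ≫ f.appLE V U hUV := by
        have hg : ∀ (g : X ⟶ Spec (CommRingCat.of k)), g = sX →
            g.appLE ⊤ U le_top = sX.appLE ⊤ U le_top := by rintro g rfl; rfl
        rw [← hg _ hf]
        exact (Scheme.Hom.appLE_comp_appLE f sY ⊤ V U le_top hUV).symm
      rw [this]
      exact φ'.commutes c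
    have hcomp : ∀ φ' : Γ(X, U) →ₐ[k] k, (Spec.map (CommRingCat.ofHom φ'.toRingHom) ≫ hU.fromSpec) ≫ f =
        Spec.map (CommRingCat.ofHom (φ'.toRingHom.comp (algebraMap Γ(Y, V) Γ(X, U)))) ≫ hV.fromSpec := fun φ' => by
      rw [Category.assoc, ← IsAffineOpen.SpecMap_appLE_fromSpec f hV hU hUV, ← Spec.map_comp_assoc]
      rfl
    have hcomp' : φ₁.toRingHom.comp (algebraMap Γ(Y, V) Γ(X, U)) = φ₂.toRingHom.comp (algebraMap Γ(Y, V) Γ(X, U)) :=
      RingHom.ext fun a => DFunLike.congr_fun h a
    have := hinj _ _ (hsec φ₁) (hsec φ₂) (by rw [hcomp, hcomp, hcomp'])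
    exact AlgHom.ext fun z => congr(CommRingCat.Hom.hom $(Spec.map_injective ((cancel_mono hU.fromSpec).1 this)) z)
  haveI : IsDomain Γ(Y, V) := inferInstance
  have hbij : Function.Bijective φ := ⟨φ.injective, fun z => by
    obtain ⟨x, y, hy, rfl⟩ := IsFractionRing.div_surjective Γ(X, U) z
    obtain ⟨a, s, hs, has⟩ := exists_mul_eq_of_injective_points hBinj hpts x
    obtain ⟨a', s', hs', has'⟩ := exists_mul_eq_of_injective_points hBinj hpts y
    have hq : ∀ (x : Γ(X, U)) (a s : Γ(Y, V)), s ≠ 0 → algebraMap _ Γ(X, U) s * x = algebraMap _ _ a →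
        φ (algebraMap Γ(Y, V) Y.functionField a / algebraMap Γ(Y, V) Y.functionField s) =
          algebraMap Γ(X, U) X.functionField x := by
      intro x a s hs has
      rw [map_div₀, hφ, hφ, ← has, map_mul, mul_div_cancel_left₀]
      exact (map_ne_zero_iff _ (IsFractionRing.injective Γ(X, U) X.functionField)).2
        ((map_ne_zero_iff _ hBinj).2 hs)
    exact ⟨_ / _, (map_div₀ φ _ _).trans (congrArg₂ (· / ·) (hq x a s hs has) (hq y a' s' hs' has'))⟩⟩
  haveI : IsIso ((Y.presheaf.stalkCongr (.of_eq hgen.symm)).hom ≫ f.stalkMap (genericPoint X)) :=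
    (ConcreteCategory.isIso_iff_bijective _).2 hbij
  exact IsIso.of_isIso_comp_left (Y.presheaf.stalkCongr (.of_eq hgen.symm)).hom _

end Geometry

end Groth.Agent.NeronHD28
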