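import Groth.Agent.NeronHD28.LocalExt
import Groth.Agent.SGA3a.SchemDense

/-! The mapping property can be checked on spectra of local rings. -/

set_option autoImplicit false
set_option linter.style.haveILetI false
universe u

open CategoryTheory CategoryTheory.Limits AlgebraicGeometry TopologicalSpace

namespace Groth.Agent.NeronHD28

variable {S : Scheme.{u}}

theorem uniqProp_of_separated {N : Over S} [IsSeparated N.hom] {U : S.Opens} {Y : Scheme.{u}} (z : Y ⟶ S)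
    (hd : CInt.IsSchematicallyDense (z ⁻¹ᵁ U)) : UniqProp N U z := fun g₁ g₂ h₁ h₂ he =>
  SGA3a.eq_of_eqOn_schemDense N.hom (z ⁻¹ᵁ U) hd g₁ g₂ (h₁.trans h₂.symm) he

theorem uniqProp_of_opens {N : Over S} {U : S.Opens} {Y : Scheme.{u}} (z : Y ⟶ S)
    (hu : ∀ V : Y.Opens, UniqProp N U (V.ι ≫ z)) : UniqProp N U z := fun g₁ g₂ h₁ h₂ he => by
  have hi : IsIso (⊤ : Y.Opens).ι := inferInstanceAs (IsIso Y.topIso.hom)
  rw [← cancel_epi (⊤ : Y.Opens).ι]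
  refine hu ⊤ _ _ (by rw [Category.assoc, h₁]) (by rw [Category.assoc, h₂]) ?_
  rw [← Scheme.Hom.resLE_comp_ι_assoc (⊤ : Y.Opens).ι (U := z ⁻¹ᵁ U) (V := ((⊤ : Y.Opens).ι ≫ z) ⁻¹ᵁ U) le_rfl,
    ← Scheme.Hom.resLE_comp_ι_assoc (⊤ : Y.Opens).ι (U := z ⁻¹ᵁ U) (V := ((⊤ : Y.Opens).ι ≫ z) ⁻¹ᵁ U) le_rfl, he]

/-- Existence of extensions can be checked at the local rings of the source, given uniqueness on opens. -/
theorem extProp_of_local_uniq {N : Over S} [LocallyOfFiniteType N.hom] {U : S.Opens}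
    {Y : Scheme.{u}} [IsLocallyNoetherian Y] (z : Y ⟶ S) (hu : ∀ V : Y.Opens, UniqProp N U (V.ι ≫ z))
    (hloc : ∀ h : ((z ⁻¹ᵁ U : Y.Opens) : Scheme.{u}) ⟶ N.left, h ≫ N.hom = (z ⁻¹ᵁ U).ι ≫ z → ∀ y : Y,
      ∃ φ : Spec (Y.presheaf.stalk y) ⟶ N.left, φ ≫ N.hom = Y.fromSpecStalk y ≫ z ∧
        (genIn y (z ⁻¹ᵁ U)).ι ≫ φ = Scheme.Hom.resLE (Y.fromSpecStalk y) (z ⁻¹ᵁ U) (genIn y (z ⁻¹ᵁ U)) le_rfl ≫ h) :
    ExtProp N U z := by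
  intro h hh
  have key : ∀ y : Y, ∃ (W : Y.Opens) (g : (W : Scheme.{u}) ⟶ N.left), y ∈ W ∧ g ≫ N.hom = W.ι ≫ z ∧
      Y.homOfLE (inf_le_left : W ⊓ z ⁻¹ᵁ U ≤ W) ≫ g = Y.homOfLE (inf_le_right : W ⊓ z ⁻¹ᵁ U ≤ z ⁻¹ᵁ U) ≫ h := by
    intro y
    obtain ⟨φ, hφ, hφh⟩ := hloc h hh y
    obtain ⟨W₁, hyW₁, g, hg, hgq⟩ := spread_out_of_isGermInjective' z N.hom (x := y) φ hφ
    obtain ⟨W₂, hyW₂, hW₂⟩ := exists_eq_nhd (W₁ ⊓ z ⁻¹ᵁ U) (Y.homOfLE inf_le_left ≫ g)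
      (Y.homOfLE inf_le_right ≫ h) y fun x hx hxy => by
        obtain ⟨t, ht⟩ := exists_germ_lift hxy (show x ∈ z ⁻¹ᵁ U from hx.2)
        have e1 : (W₁ ⊓ z ⁻¹ᵁ U).fromSpecStalkOfMem x hx ≫ Y.homOfLE inf_le_left =
            (t ≫ (genIn y (z ⁻¹ᵁ U)).ι) ≫ W₁.fromSpecStalkOfMem y hyW₁ := by
          rw [← cancel_mono W₁.ι]
          simp only [Category.assoc, Scheme.homOfLE_ι, Scheme.Opens.fromSpecStalkOfMem_ι]
          exact ht.symm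
        have e2 : (W₁ ⊓ z ⁻¹ᵁ U).fromSpecStalkOfMem x hx ≫ Y.homOfLE inf_le_right =
            t ≫ Scheme.Hom.resLE (Y.fromSpecStalk y) (z ⁻¹ᵁ U) (genIn y (z ⁻¹ᵁ U)) le_rfl := by
          rw [← cancel_mono (z ⁻¹ᵁ U).ι]
          simp only [Category.assoc, Scheme.homOfLE_ι, Scheme.Opens.fromSpecStalkOfMem_ι, Scheme.Hom.resLE_comp_ι]
          exact ht.symm
        rw [reassoc_of% e1, reassoc_of% e2, ← hg, hφh]
    refine ⟨W₁ ⊓ W₂, Y.homOfLE inf_le_left ≫ g, ⟨hyW₁, hyW₂⟩, ?_, ?_⟩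
    · rw [Category.assoc, hgq, Scheme.homOfLE_ι_assoc]
    · have hr : Set.range ((W₁ ⊓ W₂) ⊓ z ⁻¹ᵁ U).ι ⊆
          Set.range (((W₁ ⊓ z ⁻¹ᵁ U).ι ⁻¹ᵁ W₂).ι ≫ (W₁ ⊓ z ⁻¹ᵁ U).ι) := by
        rintro _ ⟨t, rfl⟩
        exact ⟨⟨⟨t.1, t.2.1.1, t.2.2⟩, t.2.1.2⟩, rfl⟩
      let c := IsOpenImmersion.lift _ ((W₁ ⊓ W₂) ⊓ z ⁻¹ᵁ U).ι hr
      have hc : c ≫ ((W₁ ⊓ z ⁻¹ᵁ U).ι ⁻¹ᵁ W₂).ι ≫ (W₁ ⊓ z ⁻¹ᵁ U).ι = ((W₁ ⊓ W₂) ⊓ z ⁻¹ᵁ U).ι :=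
        IsOpenImmersion.lift_fac _ _ hr
      have h1 : Y.homOfLE (inf_le_left : (W₁ ⊓ W₂) ⊓ z ⁻¹ᵁ U ≤ W₁ ⊓ W₂) ≫ Y.homOfLE inf_le_left =
          c ≫ ((W₁ ⊓ z ⁻¹ᵁ U).ι ⁻¹ᵁ W₂).ι ≫ Y.homOfLE inf_le_left := by
        rw [← cancel_mono W₁.ι]
        simp only [Category.assoc, Scheme.homOfLE_ι]
        exact hc.symm
      have h2 : Y.homOfLE (inf_le_right : (W₁ ⊓ W₂) ⊓ z ⁻¹ᵁ U ≤ z ⁻¹ᵁ U) =
          c ≫ ((W₁ ⊓ z ⁻¹ᵁ U).ι ⁻¹ᵁ W₂).ι ≫ Y.homOfLE inf_le_right := by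
        rw [← cancel_mono (z ⁻¹ᵁ U).ι]
        simp only [Category.assoc, Scheme.homOfLE_ι]
        exact hc.symm
      rw [reassoc_of% h1, h2, hW₂, Category.assoc, Category.assoc]
  choose W g hyW hgq hgh using key
  obtain ⟨g', hg'⟩ := EGA73.exists_glue_opens W g fun i j T a b hab himm => by
    haveI := himm
    let V := (a ≫ (W i).ι).opensRange
    have hVi : V ≤ W i := by rintro _ ⟨t, rfl⟩; exact (a t).2
    have hVj : V ≤ W j := by rintro _ ⟨t, rfl⟩; rw [hab]; exact (b t).2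
    let e := (a ≫ (W i).ι).isoOpensRange
    have ea : a = e.hom ≫ Y.homOfLE hVi := by
      rw [← cancel_mono (W i).ι, Category.assoc, Scheme.homOfLE_ι]
      exact (Scheme.Hom.isoOpensRange_hom_ι _).symm
    have eb : b = e.hom ≫ Y.homOfLE hVj := by
      rw [← cancel_mono (W j).ι, Category.assoc, Scheme.homOfLE_ι, ← hab]
      exact (Scheme.Hom.isoOpensRange_hom_ι _).symm
    have res : ∀ k (hk : V ≤ W k), ((V.ι ≫ z) ⁻¹ᵁ U).ι ≫ Y.homOfLE hk ≫ g k =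
        Scheme.Hom.resLE V.ι (z ⁻¹ᵁ U) ((V.ι ≫ z) ⁻¹ᵁ U) le_rfl ≫ h := fun k hk => by
      have hr : Set.range (((V.ι ≫ z) ⁻¹ᵁ U).ι ≫ V.ι) ⊆ Set.range (W k ⊓ z ⁻¹ᵁ U).ι := by
        rw [Scheme.Opens.range_ι]
        rintro _ ⟨t, rfl⟩
        exact ⟨hk t.1.2, t.2⟩
      have h1 : ((V.ι ≫ z) ⁻¹ᵁ U).ι ≫ Y.homOfLE hk = IsOpenImmersion.lift _ _ hr ≫ Y.homOfLE inf_le_left := by
        rw [← cancel_mono (W k).ι, Category.assoc, Category.assoc, Scheme.homOfLE_ι, Scheme.homOfLE_ι, IsOpenImmersion.lift_fac]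
      have h2 : Scheme.Hom.resLE V.ι (z ⁻¹ᵁ U) ((V.ι ≫ z) ⁻¹ᵁ U) le_rfl =
          IsOpenImmersion.lift _ _ hr ≫ Y.homOfLE inf_le_right := by
        rw [← cancel_mono (z ⁻¹ᵁ U).ι, Category.assoc, Scheme.homOfLE_ι, IsOpenImmersion.lift_fac,
          Scheme.Hom.resLE_comp_ι]
      rw [reassoc_of% h1, hgh, h2, Category.assoc]
    have h' := hu V (Y.homOfLE hVi ≫ g i) (Y.homOfLE hVj ≫ g j)
      (by rw [Category.assoc, hgq, Scheme.homOfLE_ι_assoc])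
      (by rw [Category.assoc, hgq, Scheme.homOfLE_ι_assoc]) ((res i hVi).trans (res j hVj).symm)
    rw [ea, eb, Category.assoc, Category.assoc, h']
  have htop : (⊤ : Y.Opens) ≤ ⨆ i, W i := fun y _ => TopologicalSpace.Opens.mem_iSup.2 ⟨y, hyW y⟩
  let G : Y ⟶ N.left := Y.topIso.inv ≫ Y.homOfLE htop ≫ g'
  have hι : ∀ y, (W y).ι ≫ Y.topIso.inv ≫ Y.homOfLE htop = Y.homOfLE (le_iSup W y) := fun y => by
    rw [← cancel_mono (⨆ i, W i : Y.Opens).ι]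
    simp only [Category.assoc, Scheme.homOfLE_ι]
    show (W y).ι ≫ Y.topIso.inv ≫ Y.topIso.hom = _
    rw [Iso.inv_hom_id, Category.comp_id]
  have hG : ∀ y, (W y).ι ≫ G = g y := fun y => by
    rw [show (W y).ι ≫ G = ((W y).ι ≫ Y.topIso.inv ≫ Y.homOfLE htop) ≫ g' by simp only [G, Category.assoc],
      hι, hg']
  have hC : TopologicalSpace.IsOpenCover W := by
    rw [TopologicalSpace.IsOpenCover, eq_top_iff]
    exact htop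
  have hGq : G ≫ N.hom = z := (Y.openCoverOfIsOpenCover W hC).hom_ext _ _ fun y => by
    rw [← Category.assoc]
    exact (congrArg (· ≫ N.hom) (hG y)).trans (hgq y)
  refine ⟨G, ⟨hGq, ?_⟩, fun G' hG' => uniqProp_of_opens z hu G' G hG'.1 hGq (hG'.2.trans ?_)⟩
  all_goals
    refine Scheme.Cover.hom_ext ((z ⁻¹ᵁ U : Y.Opens).toScheme.openCoverOfIsOpenCover
      (fun y => (z ⁻¹ᵁ U).ι ⁻¹ᵁ W y) (by
      rw [TopologicalSpace.IsOpenCover, eq_top_iff]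
      exact fun v _ => TopologicalSpace.Opens.mem_iSup.2 ⟨v.1, hyW v.1⟩)) _ _ fun y => ?_
    let P := (z ⁻¹ᵁ U).ι ⁻¹ᵁ W y
    have hr : Set.range (P.ι ≫ (z ⁻¹ᵁ U).ι) ⊆ Set.range (W y ⊓ z ⁻¹ᵁ U).ι := by
      rw [Scheme.Opens.range_ι]
      rintro _ ⟨t, rfl⟩
      exact ⟨t.2, t.1.2⟩
    have h1 : P.ι ≫ (z ⁻¹ᵁ U).ι = IsOpenImmersion.lift _ _ hr ≫ Y.homOfLE inf_le_left ≫ (W y).ι := by
      rw [Scheme.homOfLE_ι, IsOpenImmersion.lift_fac]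
    have h2 : P.ι = IsOpenImmersion.lift _ _ hr ≫ Y.homOfLE inf_le_right := by
      rw [← cancel_mono (z ⁻¹ᵁ U).ι, Category.assoc, Scheme.homOfLE_ι, IsOpenImmersion.lift_fac]
    have h3 : P.ι ≫ (z ⁻¹ᵁ U).ι ≫ G = P.ι ≫ h := by
      rw [reassoc_of% h1, hG, hgh]
      conv_rhs => rw [h2, Category.assoc]
    first
      | exact h3
      | exact h3.symm

/-- Existence of extensions can be checked at the local rings of the source. -/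
theorem extProp_of_local {N : Over S} [IsSeparated N.hom] [LocallyOfFiniteType N.hom] {U : S.Opens}
    {Y : Scheme.{u}} [IsLocallyNoetherian Y] (z : Y ⟶ S) (hd : CInt.IsSchematicallyDense (z ⁻¹ᵁ U))
    (hloc : ∀ h : ((z ⁻¹ᵁ U : Y.Opens) : Scheme.{u}) ⟶ N.left, h ≫ N.hom = (z ⁻¹ᵁ U).ι ≫ z → ∀ y : Y,
      ∃ φ : Spec (Y.presheaf.stalk y) ⟶ N.left, φ ≫ N.hom = Y.fromSpecStalk y ≫ z ∧
        (genIn y (z ⁻¹ᵁ U)).ι ≫ φ = Scheme.Hom.resLE (Y.fromSpecStalk y) (z ⁻¹ᵁ U) (genIn y (z ⁻¹ᵁ U)) le_rfl ≫ h) :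
    ExtProp N U z :=
  extProp_of_local_uniq z (fun V => uniqProp_of_separated (V.ι ≫ z)
    (by rw [Scheme.Hom.comp_preimage]; exact An92.Rat.schDense_preimage_of_flat V.ι hd)) hloc

end Groth.Agent.NeronHD28
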