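import Groth.Prelude
import Groth.Agent.E4O.GenOpen
import Groth.Agent.EGA73.ExtendCodimOne
import Groth.Agent.An92.Rat.SectionExt
import Groth.Agent.FlatMor67.GenericFibre
import Groth.Agent.NeronHD28.Ext
import Groth.Agent.NeronHD28.NormalExtend

/-! Spreading out morphisms defined over the generisations of a point in an open. -/

set_option autoImplicit false
set_option linter.style.haveILetI false
universe u

open CategoryTheory CategoryTheory.Limits AlgebraicGeometry TopologicalSpace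

namespace Groth.Agent.NeronHD28

variable {Y N : Scheme.{u}}

/-- The generisations of `y` in `O`, as an open of the spectrum of the local ring. -/
noncomputable abbrev genIn (y : Y) (O : Y.Opens) : (Spec (Y.presheaf.stalk y)).Opens :=
  Y.fromSpecStalk y ⁻¹ᵁ O

theorem mono_genIn (y : Y) (O : Y.Opens) : Mono ((genIn y O).ι ≫ Y.fromSpecStalk y) := inferInstance

theorem exists_germ_lift {x y : Y} (h : x ⤳ y) {O : Y.Opens} (hx : x ∈ O) :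
    ∃ t : Spec (Y.presheaf.stalk x) ⟶ (genIn y O : Scheme.{u}),
      t ≫ (genIn y O).ι ≫ Y.fromSpecStalk y = Y.fromSpecStalk x := by
  have hm : Spec.map (Y.presheaf.stalkSpecializes h) ≫ Y.fromSpecStalk y = Y.fromSpecStalk x :=
    Scheme.SpecMap_stalkSpecializes_fromSpecStalk h
  refine ⟨IsOpenImmersion.lift (genIn y O).ι (Spec.map (Y.presheaf.stalkSpecializes h)) ?_, by
    rw [IsOpenImmersion.lift_fac_assoc, hm]⟩
  rw [Scheme.Opens.range_ι]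
  rintro _ ⟨p, rfl⟩
  show (Spec.map (Y.presheaf.stalkSpecializes h) ≫ Y.fromSpecStalk y) p ∈ O
  rw [hm]
  have : Y.fromSpecStalk x p ∈ Set.range (Y.fromSpecStalk x) := ⟨p, rfl⟩
  rw [Scheme.range_fromSpecStalk] at this
  exact (show Y.fromSpecStalk x p ⤳ x from this).mem_open O.2 hx

theorem fromSpecStalk_eq_of_mono {Q : Scheme.{u}} (m : Q ⟶ Y) [Mono m] (p : Q)
    (t : Spec (Y.presheaf.stalk (m p)) ⟶ Q) (ht : t ≫ m = Y.fromSpecStalk (m p)) :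
    Q.fromSpecStalk p = Spec.map (m.stalkMap p) ≫ t := by
  rw [← cancel_mono m, Category.assoc, ht, Scheme.SpecMap_stalkMap_fromSpecStalk]

theorem spread_unique_of_mono {Q : Scheme.{u}} (m : Q ⟶ Y) [Mono m] [IsLocallyNoetherian Q] {p : Q} {x : Y}
    (hx : m p = x) (t : Spec (Y.presheaf.stalk x) ⟶ Q) (ht : t ≫ m = Y.fromSpecStalk x)
    (α β : Q ⟶ N) (h : t ≫ α = t ≫ β) : ∃ U : Q.Opens, p ∈ U ∧ U.ι ≫ α = U.ι ≫ β := by
  subst hx
  refine spread_out_unique_of_isGermInjective' (x := p) α β ?_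
  rw [fromSpecStalk_eq_of_mono m p t ht, Category.assoc, Category.assoc, h]

/-- Two morphisms agreeing at the generisations of `y` agree near `y`. -/
theorem exists_eq_nhd [IsLocallyNoetherian Y] (O : Y.Opens) (a b : (O : Scheme.{u}) ⟶ N) (y : Y)
    (h : ∀ z : Y, ∀ hz : z ∈ O, z ⤳ y →
      O.fromSpecStalkOfMem z hz ≫ a = O.fromSpecStalkOfMem z hz ≫ b) :
    ∃ W : Y.Opens, y ∈ W ∧ (O.ι ⁻¹ᵁ W).ι ≫ a = (O.ι ⁻¹ᵁ W).ι ≫ b := by
  have key : ∀ z : {z : (O : Scheme.{u}) // z.1 ⤳ y},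
      ∃ V : (O : Scheme.{u}).Opens, z.1 ∈ V ∧ V.ι ≫ a = V.ι ≫ b := by
    intro z
    haveI : Mono O.ι := inferInstance
    refine spread_out_unique_of_isGermInjective' (x := z.1) a b ?_
    rw [fromSpecStalk_eq_of_mono O.ι z.1 (O.fromSpecStalkOfMem z.1.1 z.1.2)
      (O.fromSpecStalkOfMem_ι z.1.1 z.1.2), Category.assoc, Category.assoc]
    exact congrArg (fun e => Spec.map (O.ι.stalkMap z.1) ≫ e) (h z.1.1 z.1.2 z.2)
  choose V hV hVe using key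
  let G : (O : Scheme.{u}).Opens := ⨆ z, V z
  have hG : G.ι ≫ a = G.ι ≫ b := by
    refine Scheme.Cover.hom_ext (Scheme.Opens.iSupOpenCover V) _ _ fun z => ?_
    show Scheme.homOfLE _ (le_iSup V z) ≫ G.ι ≫ a = Scheme.homOfLE _ (le_iSup V z) ≫ G.ι ≫ b
    rw [Scheme.homOfLE_ι_assoc, Scheme.homOfLE_ι_assoc]
    exact hVe z
  let C : Set Y := (O : Set Y) ∩ ((O.ι ''ᵁ G : Y.Opens) : Set Y)ᶜ
  have hC : Topology.IsLocallyConstructible C := by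
    refine (An92.Rat.isLocallyConstructible_of_isOpen O.2).inter ?_
    intro z
    obtain ⟨U, h1, h2, h3⟩ := An92.Rat.isLocallyConstructible_of_isOpen (O.ι ''ᵁ G).2 z
    exact ⟨U, h1, h2, by rw [Set.preimage_compl]; exact h3.compl⟩
  have hy : y ∉ closure C := fun hy => by
    obtain ⟨z, ⟨hzO, hzG⟩, hzy⟩ := E4O.exists_specializes_of_mem_closure_isLocallyConstructible hC hy
    exact hzG ⟨⟨z, hzO⟩, TopologicalSpace.Opens.mem_iSup.2 ⟨⟨⟨z, hzO⟩, hzy⟩, hV _⟩, rfl⟩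
  refine ⟨⟨(closure C)ᶜ, isClosed_closure.isOpen_compl⟩, hy, ?_⟩
  have hle : O.ι ⁻¹ᵁ ⟨(closure C)ᶜ, isClosed_closure.isOpen_compl⟩ ≤ G := fun w hw => by
    by_contra hwG
    refine hw (subset_closure ⟨w.2, fun hwI => hwG ?_⟩)
    obtain ⟨w', hw', e⟩ := hwI
    have : w' = w := O.ι.isOpenEmbedding.injective e
    exact this ▸ hw'
  rw [← Scheme.homOfLE_ι _ hle, Category.assoc, Category.assoc, hG]

/-- Restriction of a morphism on the generisations to a smaller open. -/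
theorem germ_comp_eq {S : Scheme.{u}} {y : Y} {O V : Y.Opens} (hVO : V ≤ O)
    (ψ : (genIn y O : Scheme.{u}) ⟶ N) (g : (V : Scheme.{u}) ⟶ N)
    (hg : Scheme.Hom.resLE (Y.fromSpecStalk y) V (genIn y V) le_rfl ≫ g =
      Scheme.homOfLE _ (Y.fromSpecStalk y |>.preimage_mono hVO : genIn y V ≤ genIn y O) ≫ ψ)
    {x : Y} (h : x ⤳ y) (hx : x ∈ V) (t : Spec (Y.presheaf.stalk x) ⟶ (genIn y O : Scheme.{u}))
    (ht : t ≫ (genIn y O).ι ≫ Y.fromSpecStalk y = Y.fromSpecStalk x) :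
    V.fromSpecStalkOfMem x hx ≫ g = t ≫ ψ := by
  obtain ⟨t', ht'⟩ := exists_germ_lift h hx
  have e1 : V.fromSpecStalkOfMem x hx = t' ≫ Scheme.Hom.resLE (Y.fromSpecStalk y) V (genIn y V) le_rfl := by
    rw [← cancel_mono V.ι, Category.assoc, Scheme.Hom.resLE_comp_ι, Scheme.Opens.fromSpecStalkOfMem_ι, ht']
  have e2 : t' ≫ Scheme.homOfLE _ (Y.fromSpecStalk y |>.preimage_mono hVO : genIn y V ≤ genIn y O) = t := by
    haveI := mono_genIn y O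
    rw [← cancel_mono ((genIn y O).ι ≫ Y.fromSpecStalk y), ht, Category.assoc, Scheme.homOfLE_ι_assoc, ht']
  rw [e1, Category.assoc, hg, ← Category.assoc, e2]

/-- A morphism on the generisations of `y` in `O` spreads out near each of them. -/
theorem exists_spread_germ [IsLocallyNoetherian Y] {S : Scheme.{u}} (q : N ⟶ S) [LocallyOfFiniteType q]
    (zY : Y ⟶ S) (y : Y) (O : Y.Opens) (ψ : (genIn y O : Scheme.{u}) ⟶ N)
    (hψ : ψ ≫ q = (genIn y O).ι ≫ Y.fromSpecStalk y ≫ zY) (p : Spec (Y.presheaf.stalk y))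
    (hp : p ∈ genIn y O) :
    ∃ (V : Y.Opens) (hVO : V ≤ O) (g : (V : Scheme.{u}) ⟶ N), p ∈ genIn y V ∧ g ≫ q = V.ι ≫ zY ∧
      Scheme.Hom.resLE (Y.fromSpecStalk y) V (genIn y V) le_rfl ≫ g =
        Scheme.homOfLE _ (Y.fromSpecStalk y |>.preimage_mono hVO : genIn y V ≤ genIn y O) ≫ ψ := by
  let x := Y.fromSpecStalk y p
  have hxy : x ⤳ y := by
    have : x ∈ Set.range (Y.fromSpecStalk y) := ⟨p, rfl⟩
    rw [Scheme.range_fromSpecStalk] at this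
    exact this
  obtain ⟨t, ht⟩ := exists_germ_lift hxy (show x ∈ O from hp)
  obtain ⟨V₀, hxV₀, g₀, hg₀, hg₀q⟩ := spread_out_of_isGermInjective' zY q (x := x) (t ≫ ψ) (by
    rw [Category.assoc, hψ, reassoc_of% ht])
  let V₁ := V₀ ⊓ O
  let g₁ : (V₁ : Scheme.{u}) ⟶ N := Y.homOfLE inf_le_left ≫ g₀
  have hxV₁ : x ∈ V₁ := ⟨hxV₀, hp⟩
  let Q := genIn y V₁
  let α : (Q : Scheme.{u}) ⟶ N :=
    Scheme.homOfLE _ (Y.fromSpecStalk y |>.preimage_mono inf_le_right : Q ≤ genIn y O) ≫ ψ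
  let β : (Q : Scheme.{u}) ⟶ N := Scheme.Hom.resLE (Y.fromSpecStalk y) V₁ Q le_rfl ≫ g₁
  obtain ⟨t', ht'⟩ := exists_germ_lift (O := V₁) hxy hxV₁
  haveI := mono_genIn y V₁
  haveI := mono_genIn y O
  haveI : IsLocallyNoetherian (Spec (Y.presheaf.stalk y)) := inferInstance
  haveI : IsLocallyNoetherian (Q : Scheme.{u}) := inferInstance
  have hba : t' ≫ β = t' ≫ α := by
    have e1 : t' ≫ Scheme.homOfLE _ (Y.fromSpecStalk y |>.preimage_mono inf_le_right : Q ≤ genIn y O) = t := by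
      rw [← cancel_mono ((genIn y O).ι ≫ Y.fromSpecStalk y), ht, Category.assoc, Scheme.homOfLE_ι_assoc, ht']
    have e2 : t' ≫ Scheme.Hom.resLE (Y.fromSpecStalk y) V₁ Q le_rfl ≫ Y.homOfLE inf_le_left =
        V₀.fromSpecStalkOfMem x hxV₀ := by
      rw [← cancel_mono V₀.ι, Category.assoc, Category.assoc, Scheme.homOfLE_ι, Scheme.Hom.resLE_comp_ι,
        Scheme.Opens.fromSpecStalkOfMem_ι, ht']
    simp only [α, β, g₁]
    rw [reassoc_of% e1, reassoc_of% e2]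
    exact hg₀.symm
  obtain ⟨U', hpU', hU'⟩ := spread_unique_of_mono (Q.ι ≫ Y.fromSpecStalk y) (p := (⟨p, hxV₁⟩ : (Q : Scheme.{u})))
    (x := x) (Scheme.Hom.comp_apply _ _ _) t' ht' β α hba
  obtain ⟨O', hO', hO'e⟩ := (Y.fromSpecStalk y).isEmbedding.isInducing.isOpen_iff.1 (Q.ι ''ᵁ U').2
  let V : Y.Opens := V₁ ⊓ ⟨O', hO'⟩
  have hmem : ∀ q : Spec (Y.presheaf.stalk y), Y.fromSpecStalk y q ∈ O' ↔ q ∈ Q.ι ''ᵁ U' := fun q =>
    Set.ext_iff.1 hO'e q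
  refine ⟨V, inf_le_left.trans inf_le_right, Y.homOfLE inf_le_left ≫ g₁,
    ⟨hxV₁, (hmem p).2 ⟨_, hpU', rfl⟩⟩, ?_, ?_⟩
  · simp only [g₁, Category.assoc, hg₀q, Scheme.homOfLE_ι_assoc]
  · have hle : genIn y V ≤ Q := Y.fromSpecStalk y |>.preimage_mono inf_le_left
    have hU'' : Scheme.homOfLE _ hle ≫ α = Scheme.homOfLE _ hle ≫ β := by
      have hr : Set.range (Scheme.homOfLE _ hle) ⊆ Set.range U'.ι := by
        rw [Scheme.Opens.range_ι]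
        rintro _ ⟨w, rfl⟩
        obtain ⟨w', hw', e⟩ := (hmem w.1).1 w.2.2
        have : w' = Scheme.homOfLE _ hle w := Q.ι.isOpenEmbedding.injective (e.trans (by
          rw [← Scheme.Hom.comp_apply, Scheme.homOfLE_ι]; rfl))
        exact this ▸ hw'
      rw [← IsOpenImmersion.lift_fac U'.ι (Scheme.homOfLE _ hle) hr, Category.assoc, Category.assoc, hU']
    simp only [α, β, Scheme.homOfLE_homOfLE_assoc, Scheme.Hom.map_resLE_assoc] at hU''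
    rw [hU'']
    simp only [Scheme.Hom.resLE_map_assoc]

/-- A morphism on the generisations of `y` in `O` spreads out to a neighbourhood of `y`. -/
theorem exists_spread_open [IsLocallyNoetherian Y] {S : Scheme.{u}} (q : N ⟶ S) [LocallyOfFiniteType q]
    (zY : Y ⟶ S) (y : Y) (O : Y.Opens) (ψ : (genIn y O : Scheme.{u}) ⟶ N)
    (hψ : ψ ≫ q = (genIn y O).ι ≫ Y.fromSpecStalk y ≫ zY) :
    ∃ (W : Y.Opens) (a : ((O.ι ⁻¹ᵁ W : _) : Scheme.{u}) ⟶ N), y ∈ W ∧ a ≫ q = (O.ι ⁻¹ᵁ W).ι ≫ O.ι ≫ zY ∧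
      ∀ (T : Scheme.{u}) (c : T ⟶ (genIn y O : Scheme.{u})) (d : T ⟶ ((O.ι ⁻¹ᵁ W : _) : Scheme.{u})),
        c ≫ (genIn y O).ι ≫ Y.fromSpecStalk y = d ≫ (O.ι ⁻¹ᵁ W).ι ≫ O.ι → c ≫ ψ = d ≫ a := by
  classical
  choose V hVO g hpV hgq hg using fun p : {p // p ∈ genIn y O} => exists_spread_germ q zY y O ψ hψ p.1 p.2
  haveI : NoetherianSpace (Spec (Y.presheaf.stalk y)) := inferInstance
  have hcomp : IsCompact ((genIn y O : _) : Set (Spec (Y.presheaf.stalk y))) := NoetherianSpace.isCompact _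
  obtain ⟨s, hs⟩ := hcomp.elim_finite_subcover
    (fun p : {p // p ∈ genIn y O} => ((genIn y (V p) : (Spec (Y.presheaf.stalk y)).Opens) : Set (Spec (Y.presheaf.stalk y))))
    (fun p => (genIn y (V p)).2) fun p hp => Set.mem_iUnion.2 ⟨⟨p, hp⟩, hpV _⟩
  have hpair : ∀ i j : {p // p ∈ genIn y O}, ∃ W : Y.Opens, y ∈ W ∧
      ((V i ⊓ V j).ι ⁻¹ᵁ W).ι ≫ Y.homOfLE inf_le_left ≫ g i =
        ((V i ⊓ V j).ι ⁻¹ᵁ W).ι ≫ Y.homOfLE inf_le_right ≫ g j := by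
    intro i j
    refine exists_eq_nhd (V i ⊓ V j) (Y.homOfLE inf_le_left ≫ g i) (Y.homOfLE inf_le_right ≫ g j) y
      fun z hz hzy => ?_
    obtain ⟨t, ht⟩ := exists_germ_lift hzy (hVO i hz.1)
    have e1 : (V i ⊓ V j).fromSpecStalkOfMem z hz ≫ Y.homOfLE inf_le_left = (V i).fromSpecStalkOfMem z hz.1 := by
      rw [← cancel_mono (V i).ι, Category.assoc, Scheme.homOfLE_ι, Scheme.Opens.fromSpecStalkOfMem_ι,
        Scheme.Opens.fromSpecStalkOfMem_ι]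
    have e2 : (V i ⊓ V j).fromSpecStalkOfMem z hz ≫ Y.homOfLE inf_le_right = (V j).fromSpecStalkOfMem z hz.2 := by
      rw [← cancel_mono (V j).ι, Category.assoc, Scheme.homOfLE_ι, Scheme.Opens.fromSpecStalkOfMem_ι,
        Scheme.Opens.fromSpecStalkOfMem_ι]
    rw [reassoc_of% e1, reassoc_of% e2, germ_comp_eq (S := S) (hVO i) ψ (g i) (hg i) hzy hz.1 t ht,
      germ_comp_eq (S := S) (hVO j) ψ (g j) (hg j) hzy hz.2 t ht]
  choose W₂ hyW₂ hW₂ using hpair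
  let G : Y.Opens := ⨆ i : s, V i.1
  let C : Set Y := (O : Set Y) ∩ ((G : Y.Opens) : Set Y)ᶜ
  have hC : Topology.IsLocallyConstructible C := by
    refine (An92.Rat.isLocallyConstructible_of_isOpen O.2).inter ?_
    intro z
    obtain ⟨U, h1, h2, h3⟩ := An92.Rat.isLocallyConstructible_of_isOpen G.2 z
    exact ⟨U, h1, h2, by rw [Set.preimage_compl]; exact h3.compl⟩
  have hy : y ∉ closure C := fun hy => by
    obtain ⟨z, ⟨hzO, hzG⟩, hzy⟩ := E4O.exists_specializes_of_mem_closure_isLocallyConstructible hC hy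
    obtain ⟨p, rfl⟩ : z ∈ Set.range (Y.fromSpecStalk y) := by rw [Scheme.range_fromSpecStalk]; exact hzy
    obtain ⟨i, hi, hpi⟩ := Set.mem_iUnion₂.1 (hs hzO)
    exact hzG (TopologicalSpace.Opens.mem_iSup.2 ⟨⟨i, hi⟩, hpi⟩)
  let W : Y.Opens := (Finset.inf (s ×ˢ s) fun ij => W₂ ij.1 ij.2) ⊓ ⟨(closure C)ᶜ, isClosed_closure.isOpen_compl⟩
  have hWle : ∀ i ∈ s, ∀ j ∈ s, W ≤ W₂ i j := fun i hi j hj =>
    inf_le_left.trans (Finset.inf_le (f := fun ij => W₂ ij.1 ij.2) (b := (i, j)) (Finset.mem_product.2 ⟨hi, hj⟩))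
  have hyW : y ∈ W := by
    refine ⟨?_, hy⟩
    suffices ∀ t : Finset ({p // p ∈ genIn y O} × {p // p ∈ genIn y O}),
        y ∈ t.inf (fun ij => W₂ ij.1 ij.2) from this _
    intro t
    induction t using Finset.induction with
    | empty => simp
    | insert a t ha ih => rw [Finset.inf_insert]; exact ⟨hyW₂ a.1 a.2, ih⟩
  let Wf : s → Y.Opens := fun i => V i.1 ⊓ W
  let gf : ∀ i : s, (Wf i : Scheme.{u}) ⟶ N := fun i => Y.homOfLE inf_le_left ≫ g i.1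
  obtain ⟨g', hg'⟩ := EGA73.exists_glue_opens Wf gf fun i j T a b hab _ => by
    have hr : Set.range (a ≫ (Wf i).ι) ⊆ Set.range (((V i.1 ⊓ V j.1).ι ⁻¹ᵁ W₂ i.1 j.1).ι ≫ (V i.1 ⊓ V j.1).ι) := by
      rintro _ ⟨t, rfl⟩
      have h2 : (a ≫ (Wf i).ι) t ∈ Wf j := by rw [hab]; exact (b t).2
      exact ⟨⟨⟨(a t).1, (a t).2.1, h2.1⟩, hWle _ i.2 _ j.2 (a t).2.2⟩, rfl⟩
    let c := IsOpenImmersion.lift _ (a ≫ (Wf i).ι) hr
    have hc : c ≫ ((V i.1 ⊓ V j.1).ι ⁻¹ᵁ W₂ i.1 j.1).ι ≫ (V i.1 ⊓ V j.1).ι = a ≫ (Wf i).ι :=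
      IsOpenImmersion.lift_fac _ _ hr
    have h1 : a ≫ Y.homOfLE (inf_le_left : Wf i ≤ V i.1) =
        c ≫ ((V i.1 ⊓ V j.1).ι ⁻¹ᵁ W₂ i.1 j.1).ι ≫ Y.homOfLE inf_le_left := by
      rw [← cancel_mono (V i.1).ι]
      simp only [Category.assoc, Scheme.homOfLE_ι]
      exact hc.symm
    have h2 : b ≫ Y.homOfLE (inf_le_left : Wf j ≤ V j.1) =
        c ≫ ((V i.1 ⊓ V j.1).ι ⁻¹ᵁ W₂ i.1 j.1).ι ≫ Y.homOfLE inf_le_right := by
      rw [← cancel_mono (V j.1).ι]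
      simp only [Category.assoc, Scheme.homOfLE_ι]
      exact hab.symm.trans hc.symm
    simp only [gf]
    rw [reassoc_of% h1, reassoc_of% h2, hW₂]
  have hcov : ∀ w : ((O.ι ⁻¹ᵁ W : _) : Scheme.{u}), ((O.ι ⁻¹ᵁ W).ι ≫ O.ι) w ∈ ⨆ i, Wf i := fun w => by
    have hwC : w.1.1 ∉ C := fun h => w.2.2 (subset_closure h)
    obtain ⟨i, hi⟩ := TopologicalSpace.Opens.mem_iSup.1 (of_not_not fun hG => hwC ⟨w.1.2, hG⟩ : w.1.1 ∈ G)
    exact TopologicalSpace.Opens.mem_iSup.2 ⟨i, hi, w.2⟩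
  let l : ((O.ι ⁻¹ᵁ W : _) : Scheme.{u}) ⟶ ((⨆ i, Wf i : Y.Opens) : Scheme.{u}) :=
    IsOpenImmersion.lift (⨆ i, Wf i : Y.Opens).ι ((O.ι ⁻¹ᵁ W).ι ≫ O.ι) (by
      rw [Scheme.Opens.range_ι]
      rintro _ ⟨w, rfl⟩
      exact hcov w)
  have hl : l ≫ (⨆ i, Wf i : Y.Opens).ι = (O.ι ⁻¹ᵁ W).ι ≫ O.ι := IsOpenImmersion.lift_fac _ _ _
  have hg'q : g' ≫ q = (⨆ i, Wf i : Y.Opens).ι ≫ zY := by
    refine Scheme.Cover.hom_ext (Scheme.Opens.iSupOpenCover Wf) _ _ fun i => ?_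
    show Y.homOfLE (le_iSup Wf i) ≫ g' ≫ q = Y.homOfLE (le_iSup Wf i) ≫ _ ≫ zY
    rw [reassoc_of% (hg' i), Scheme.homOfLE_ι_assoc]
    simp only [gf, Category.assoc, hgq, Scheme.homOfLE_ι_assoc]
  refine ⟨W, l ≫ g', hyW, by rw [Category.assoc, hg'q, reassoc_of% hl], fun T c d hcd => ?_⟩
  have hTcov : ∀ t : T, (d ≫ l ≫ (⨆ i, Wf i : Y.Opens).ι) t ∈ ⨆ i, Wf i := fun t => by
    rw [hl]; exact hcov (d t)
  refine Scheme.Cover.hom_ext (T.openCoverOfIsOpenCover (fun i => (d ≫ l ≫ (⨆ i, Wf i : Y.Opens).ι) ⁻¹ᵁ Wf i) (by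
    rw [TopologicalSpace.IsOpenCover, eq_top_iff]
    intro t _
    obtain ⟨i, hi⟩ := TopologicalSpace.Opens.mem_iSup.1 (hTcov t)
    exact TopologicalSpace.Opens.mem_iSup.2 ⟨i, hi⟩)) _ _ fun i => ?_
  let P := (d ≫ l ≫ (⨆ i, Wf i : Y.Opens).ι) ⁻¹ᵁ Wf i
  show P.ι ≫ c ≫ ψ = P.ι ≫ d ≫ l ≫ g'
  let r : (P : Scheme.{u}) ⟶ (Wf i : Scheme.{u}) := Scheme.Hom.resLE _ (Wf i) P le_rfl
  have hr : P.ι ≫ d ≫ l = r ≫ Y.homOfLE (le_iSup Wf i) := by
    rw [← cancel_mono (⨆ i, Wf i : Y.Opens).ι]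
    simp only [r, Category.assoc, Scheme.homOfLE_ι, Scheme.Hom.resLE_comp_ι]
  rw [reassoc_of% hr, hg']
  haveI := mono_genIn y O
  have hcV : ∀ t, (P.ι ≫ c) t ∈ ((genIn y O).ι ⁻¹ᵁ genIn y (V i.1)) := fun t => by
    show ((P.ι ≫ c) ≫ (genIn y O).ι ≫ Y.fromSpecStalk y) t ∈ V i.1
    rw [Category.assoc, hcd, ← hl, ← Category.assoc]
    exact t.2.1
  have hc'r : Set.range (P.ι ≫ c ≫ (genIn y O).ι) ⊆ Set.range (genIn y (V i.1)).ι := by
    rw [Scheme.Opens.range_ι]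
    rintro _ ⟨t, rfl⟩
    exact hcV t
  let c' := IsOpenImmersion.lift (genIn y (V i.1)).ι (P.ι ≫ c ≫ (genIn y O).ι) hc'r
  have hc' : c' ≫ (genIn y (V i.1)).ι = P.ι ≫ c ≫ (genIn y O).ι := IsOpenImmersion.lift_fac _ _ _
  have h1 : P.ι ≫ c = c' ≫ Scheme.homOfLE _ (Y.fromSpecStalk y |>.preimage_mono (hVO i.1) :
      genIn y (V i.1) ≤ genIn y O) := by
    rw [← cancel_mono (genIn y O).ι, Category.assoc, Category.assoc, Scheme.homOfLE_ι, hc']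
  have h2 : r ≫ Y.homOfLE (inf_le_left : Wf i ≤ V i.1) =
      c' ≫ Scheme.Hom.resLE (Y.fromSpecStalk y) (V i.1) (genIn y (V i.1)) le_rfl := by
    rw [← cancel_mono (V i.1).ι]
    simp only [r, Category.assoc, Scheme.homOfLE_ι, Scheme.Hom.resLE_comp_ι]
    rw [reassoc_of% hc', hcd, hl]
  simp only [gf]
  rw [reassoc_of% h1, reassoc_of% h2, hg]

end Groth.Agent.NeronHD28
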