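import Groth.Agent.NeronHD28.LocalCrit

/-! The mapping property extends to schemes whose local rings occur in smooth schemes. -/

set_option autoImplicit false
set_option linter.style.haveILetI false
universe u

open CategoryTheory CategoryTheory.Limits AlgebraicGeometry TopologicalSpace

namespace Groth.Agent.NeronHD28

variable {S : Scheme.{u}}

/-- The local ring at `y` occurs as local ring of a smooth `S`-scheme, compatibly with the maps to `S`. -/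
def HasSmoothModel {Y : Scheme.{u}} (z : Y ⟶ S) (y : Y) : Prop :=
  ∃ (Y₁ : Scheme.{u}) (z₁ : Y₁ ⟶ S) (y₁ : Y₁) (θ : Spec (Y₁.presheaf.stalk y₁) ⟶ Spec (Y.presheaf.stalk y)),
    Smooth z₁ ∧ IsIso θ ∧ θ ≫ Y.fromSpecStalk y ≫ z = Y₁.fromSpecStalk y₁ ≫ z₁

variable [IsLocallyNoetherian S] {N : Over S} [LocallyOfFiniteType N.hom] {U : S.Opens}

theorem eq_germ_of_model (hN : ∀ Z : Over S, Smooth Z.hom → ExtProp N U Z.hom) {Y : Scheme.{u}}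
    {z : Y ⟶ S} {y : Y} (hy : HasSmoothModel z y) (φ φ' : Spec (Y.presheaf.stalk y) ⟶ N.left)
    (hφ : φ ≫ N.hom = Y.fromSpecStalk y ≫ z) (hφ' : φ' ≫ N.hom = Y.fromSpecStalk y ≫ z)
    (h : (genIn y (z ⁻¹ᵁ U)).ι ≫ φ = (genIn y (z ⁻¹ᵁ U)).ι ≫ φ') : φ = φ' := by
  obtain ⟨Y₁, z₁, y₁, θ, hz₁, hθi, hθ⟩ := hy
  haveI : IsLocallyNoetherian Y₁ := LocallyOfFiniteType.isLocallyNoetherian z₁
  obtain ⟨W₁, hW₁, g₁, hg₁, hg₁q⟩ := spread_out_of_isGermInjective' z₁ N.hom (x := y₁) (θ ≫ φ)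
    (by rw [Category.assoc, hφ, hθ])
  obtain ⟨W₂, hW₂, g₂, hg₂, hg₂q⟩ := spread_out_of_isGermInjective' z₁ N.hom (x := y₁) (θ ≫ φ')
    (by rw [Category.assoc, hφ', hθ])
  let D := (W₁ ⊓ W₂) ⊓ z₁ ⁻¹ᵁ U
  let a := Y₁.homOfLE (inf_le_left.trans inf_le_left : D ≤ W₁) ≫ g₁
  let b := Y₁.homOfLE (inf_le_left.trans inf_le_right : D ≤ W₂) ≫ g₂
  obtain ⟨W₃, hW₃, hW₃e⟩ := exists_eq_nhd D a b y₁ fun x hx hxy => by
    obtain ⟨t, ht⟩ := exists_germ_lift hxy (show x ∈ z₁ ⁻¹ᵁ U from hx.2)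
    have e1 : D.fromSpecStalkOfMem x hx ≫ Y₁.homOfLE (inf_le_left.trans inf_le_left : D ≤ W₁) =
        (t ≫ (genIn y₁ (z₁ ⁻¹ᵁ U)).ι) ≫ W₁.fromSpecStalkOfMem y₁ hW₁ := by
      rw [← cancel_mono W₁.ι]
      simp only [Category.assoc, Scheme.homOfLE_ι, Scheme.Opens.fromSpecStalkOfMem_ι]
      exact ht.symm
    have e2 : D.fromSpecStalkOfMem x hx ≫ Y₁.homOfLE (inf_le_left.trans inf_le_right : D ≤ W₂) =
        (t ≫ (genIn y₁ (z₁ ⁻¹ᵁ U)).ι) ≫ W₂.fromSpecStalkOfMem y₁ hW₂ := by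
      rw [← cancel_mono W₂.ι]
      simp only [Category.assoc, Scheme.homOfLE_ι, Scheme.Opens.fromSpecStalkOfMem_ι]
      exact ht.symm
    simp only [a, b]
    rw [reassoc_of% e1, reassoc_of% e2, ← hg₁, ← hg₂]
    have hr : Set.range (t ≫ (genIn y₁ (z₁ ⁻¹ᵁ U)).ι ≫ θ) ⊆ Set.range (genIn y (z ⁻¹ᵁ U)).ι := by
      rw [Scheme.Opens.range_ι]
      rintro _ ⟨p, rfl⟩
      show (t ≫ (genIn y₁ (z₁ ⁻¹ᵁ U)).ι ≫ θ ≫ Y.fromSpecStalk y ≫ z) p ∈ U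
      rw [hθ]
      exact (t p).2
    have hkey : (t ≫ (genIn y₁ (z₁ ⁻¹ᵁ U)).ι ≫ θ) ≫ φ = (t ≫ (genIn y₁ (z₁ ⁻¹ᵁ U)).ι ≫ θ) ≫ φ' := by
      rw [← IsOpenImmersion.lift_fac (genIn y (z ⁻¹ᵁ U)).ι (t ≫ (genIn y₁ (z₁ ⁻¹ᵁ U)).ι ≫ θ) hr,
        Category.assoc, Category.assoc, h]
    simpa only [Category.assoc] using hkey
  let W := (W₁ ⊓ W₂) ⊓ W₃
  have key : Y₁.homOfLE (inf_le_left.trans inf_le_left : W ≤ W₁) ≫ g₁ =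
      Y₁.homOfLE (inf_le_left.trans inf_le_right : W ≤ W₂) ≫ g₂ := by
    haveI := hz₁
    refine (hN (Over.mk (W.ι ≫ z₁)) (inferInstanceAs (Smooth (W.ι ≫ z₁)))).uniq _ _ ?_ ?_ ?_
    · show (_ ≫ g₁) ≫ N.hom = W.ι ≫ z₁
      rw [Category.assoc, hg₁q, Scheme.homOfLE_ι_assoc]
    · show (_ ≫ g₂) ≫ N.hom = W.ι ≫ z₁
      rw [Category.assoc, hg₂q, Scheme.homOfLE_ι_assoc]
    · have hr : Set.range (((W.ι ≫ z₁) ⁻¹ᵁ U).ι ≫ W.ι) ⊆ Set.range ((D.ι ⁻¹ᵁ W₃).ι ≫ D.ι) := by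
        rintro _ ⟨p, rfl⟩
        exact ⟨⟨⟨p.1.1, ⟨p.1.2.1, p.2⟩⟩, p.1.2.2⟩, rfl⟩
      let c := IsOpenImmersion.lift _ _ hr
      have hc : c ≫ (D.ι ⁻¹ᵁ W₃).ι ≫ D.ι = ((W.ι ≫ z₁) ⁻¹ᵁ U).ι ≫ W.ι := IsOpenImmersion.lift_fac _ _ hr
      have h1 : ((W.ι ≫ z₁) ⁻¹ᵁ U).ι ≫ Y₁.homOfLE (inf_le_left.trans inf_le_left : W ≤ W₁) =
          c ≫ (D.ι ⁻¹ᵁ W₃).ι ≫ Y₁.homOfLE (inf_le_left.trans inf_le_left : D ≤ W₁) := by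
        rw [← cancel_mono W₁.ι]
        simp only [Category.assoc, Scheme.homOfLE_ι]
        exact hc.symm
      have h2 : ((W.ι ≫ z₁) ⁻¹ᵁ U).ι ≫ Y₁.homOfLE (inf_le_left.trans inf_le_right : W ≤ W₂) =
          c ≫ (D.ι ⁻¹ᵁ W₃).ι ≫ Y₁.homOfLE (inf_le_left.trans inf_le_right : D ≤ W₂) := by
        rw [← cancel_mono W₂.ι]
        simp only [Category.assoc, Scheme.homOfLE_ι]
        exact hc.symm
      show ((W.ι ≫ z₁) ⁻¹ᵁ U).ι ≫ _ ≫ g₁ = ((W.ι ≫ z₁) ⁻¹ᵁ U).ι ≫ _ ≫ g₂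
      rw [reassoc_of% h1, reassoc_of% h2]
      exact congrArg (fun m => c ≫ m) hW₃e
  have hyW : y₁ ∈ W := ⟨⟨hW₁, hW₂⟩, hW₃⟩
  have f1 : W.fromSpecStalkOfMem y₁ hyW ≫ Y₁.homOfLE (inf_le_left.trans inf_le_left : W ≤ W₁) =
      W₁.fromSpecStalkOfMem y₁ hW₁ := by
    rw [← cancel_mono W₁.ι]
    simp only [Category.assoc, Scheme.homOfLE_ι, Scheme.Opens.fromSpecStalkOfMem_ι]
  have f2 : W.fromSpecStalkOfMem y₁ hyW ≫ Y₁.homOfLE (inf_le_left.trans inf_le_right : W ≤ W₂) =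
      W₂.fromSpecStalkOfMem y₁ hW₂ := by
    rw [← cancel_mono W₂.ι]
    simp only [Category.assoc, Scheme.homOfLE_ι, Scheme.Opens.fromSpecStalkOfMem_ι]
  rw [← cancel_epi θ, hg₁, hg₂, ← f1, ← f2, Category.assoc, Category.assoc, key]

set_option backward.isDefEq.respectTransparency false in
theorem uniqProp_of_models (hN : ∀ Z : Over S, Smooth Z.hom → ExtProp N U Z.hom) {Y : Scheme.{u}}
    [IsLocallyNoetherian Y] (z : Y ⟶ S) (hy : ∀ y, HasSmoothModel z y) (V : Y.Opens) :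
    UniqProp N U (V.ι ≫ z) := by
  intro g₁ g₂ h₁ h₂ he
  haveI : IsLocallyNoetherian (V : Scheme.{u}) := inferInstance
  have key : ∀ v : (V : Scheme.{u}), ∃ W : (V : Scheme.{u}).Opens, v ∈ W ∧ W.ι ≫ g₁ = W.ι ≫ g₂ := by
    intro v
    refine spread_out_unique_of_isGermInjective' (x := v) g₁ g₂ ?_
    rw [fromSpecStalk_eq_of_mono V.ι v (V.fromSpecStalkOfMem v.1 v.2) (V.fromSpecStalkOfMem_ι v.1 v.2),
      Category.assoc, Category.assoc]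
    refine congrArg (fun m => Spec.map (V.ι.stalkMap v) ≫ m) ?_
    refine eq_germ_of_model hN (hy v.1) _ _ ?_ ?_ ?_
    · rw [Category.assoc, h₁, Scheme.Opens.fromSpecStalkOfMem_ι_assoc]
    · rw [Category.assoc, h₂, Scheme.Opens.fromSpecStalkOfMem_ι_assoc]
    · have hr : Set.range ((genIn v.1 (z ⁻¹ᵁ U)).ι ≫ V.fromSpecStalkOfMem v.1 v.2) ⊆
          Set.range ((V.ι ≫ z) ⁻¹ᵁ U).ι := by
        rw [Scheme.Opens.range_ι]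
        rintro _ ⟨p, rfl⟩
        show ((genIn v.1 (z ⁻¹ᵁ U)).ι ≫ V.fromSpecStalkOfMem v.1 v.2 ≫ V.ι ≫ z) p ∈ U
        rw [Scheme.Opens.fromSpecStalkOfMem_ι_assoc]
        exact p.2
      rw [← Category.assoc, ← Category.assoc, ← IsOpenImmersion.lift_fac ((V.ι ≫ z) ⁻¹ᵁ U).ι
        ((genIn v.1 (z ⁻¹ᵁ U)).ι ≫ V.fromSpecStalkOfMem v.1 v.2) hr, Category.assoc, Category.assoc, he]
  choose W hW hWe using key
  exact ((V : Scheme.{u}).openCoverOfIsOpenCover W (by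
    rw [TopologicalSpace.IsOpenCover, eq_top_iff]
    exact fun v _ => TopologicalSpace.Opens.mem_iSup.2 ⟨v, hW v⟩)).hom_ext _ _ hWe

theorem exists_germ_of_model (hN : ∀ Z : Over S, Smooth Z.hom → ExtProp N U Z.hom) {Y : Scheme.{u}}
    (z : Y ⟶ S) {y : Y} (hy : HasSmoothModel z y) (h : ((z ⁻¹ᵁ U : Y.Opens) : Scheme.{u}) ⟶ N.left)
    (hh : h ≫ N.hom = (z ⁻¹ᵁ U).ι ≫ z) :
    ∃ φ : Spec (Y.presheaf.stalk y) ⟶ N.left, φ ≫ N.hom = Y.fromSpecStalk y ≫ z ∧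
      (genIn y (z ⁻¹ᵁ U)).ι ≫ φ = Scheme.Hom.resLE (Y.fromSpecStalk y) (z ⁻¹ᵁ U) (genIn y (z ⁻¹ᵁ U)) le_rfl ≫ h := by
  obtain ⟨Y₁, z₁, y₁, θ, hz₁, hθi, hθ⟩ := hy
  haveI : IsLocallyNoetherian Y₁ := LocallyOfFiniteType.isLocallyNoetherian z₁
  let O := z₁ ⁻¹ᵁ U
  have hr : Set.range ((genIn y₁ O).ι ≫ θ ≫ Y.fromSpecStalk y) ⊆ Set.range (z ⁻¹ᵁ U).ι := by
    rw [Scheme.Opens.range_ι]
    rintro _ ⟨p, rfl⟩
    show ((genIn y₁ O).ι ≫ θ ≫ Y.fromSpecStalk y ≫ z) p ∈ U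
    rw [hθ]
    exact p.2
  let r := IsOpenImmersion.lift (z ⁻¹ᵁ U).ι ((genIn y₁ O).ι ≫ θ ≫ Y.fromSpecStalk y) hr
  have hrι : r ≫ (z ⁻¹ᵁ U).ι = (genIn y₁ O).ι ≫ θ ≫ Y.fromSpecStalk y := IsOpenImmersion.lift_fac _ _ hr
  obtain ⟨W, a, hyW, haq, hac⟩ := exists_spread_open N.hom z₁ y₁ O (r ≫ h)
    (by rw [Category.assoc, hh, reassoc_of% hrι, hθ])
  have hr' : Set.range (((W.ι ≫ z₁) ⁻¹ᵁ U).ι ≫ W.ι) ⊆ Set.range ((O.ι ⁻¹ᵁ W).ι ≫ O.ι) := by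
    rintro _ ⟨p, rfl⟩
    exact ⟨⟨⟨p.1.1, p.2⟩, p.1.2⟩, rfl⟩
  let l := IsOpenImmersion.lift _ _ hr'
  have hl : l ≫ (O.ι ⁻¹ᵁ W).ι ≫ O.ι = ((W.ι ≫ z₁) ⁻¹ᵁ U).ι ≫ W.ι := IsOpenImmersion.lift_fac _ _ hr'
  haveI := hz₁
  obtain ⟨g, ⟨hg, hgl⟩, -⟩ := hN (Over.mk (W.ι ≫ z₁)) (inferInstanceAs (Smooth (W.ι ≫ z₁))) (l ≫ a) (by
    show (l ≫ a) ≫ N.hom = ((W.ι ≫ z₁) ⁻¹ᵁ U).ι ≫ W.ι ≫ z₁
    rw [Category.assoc, haq, reassoc_of% hl])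
  change g ≫ N.hom = W.ι ≫ z₁ at hg
  change ((W.ι ≫ z₁) ⁻¹ᵁ U).ι ≫ g = l ≫ a at hgl
  refine ⟨inv θ ≫ W.fromSpecStalkOfMem y₁ hyW ≫ g, ?_, ?_⟩
  · rw [Category.assoc, Category.assoc, hg, Scheme.Opens.fromSpecStalkOfMem_ι_assoc, ← hθ, IsIso.inv_hom_id_assoc]
  · let V := genIn y (z ⁻¹ᵁ U)
    have hz : inv θ ≫ Y₁.fromSpecStalk y₁ ≫ z₁ = Y.fromSpecStalk y ≫ z := by
      rw [← hθ, IsIso.inv_hom_id_assoc]
    have hq : Set.range (V.ι ≫ inv θ) ⊆ Set.range (genIn y₁ O).ι := by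
      rw [Scheme.Opens.range_ι]
      rintro _ ⟨p, rfl⟩
      show (V.ι ≫ inv θ ≫ Y₁.fromSpecStalk y₁ ≫ z₁) p ∈ U
      rw [hz]
      exact p.2
    let c := IsOpenImmersion.lift (genIn y₁ O).ι (V.ι ≫ inv θ) hq
    have hcι : c ≫ (genIn y₁ O).ι = V.ι ≫ inv θ := IsOpenImmersion.lift_fac _ _ hq
    have hq' : Set.range (V.ι ≫ inv θ ≫ W.fromSpecStalkOfMem y₁ hyW) ⊆ Set.range ((W.ι ≫ z₁) ⁻¹ᵁ U).ι := by
      rw [Scheme.Opens.range_ι]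
      rintro _ ⟨p, rfl⟩
      show (V.ι ≫ inv θ ≫ W.fromSpecStalkOfMem y₁ hyW ≫ W.ι ≫ z₁) p ∈ U
      rw [Scheme.Opens.fromSpecStalkOfMem_ι_assoc, hz]
      exact p.2
    let e := IsOpenImmersion.lift ((W.ι ≫ z₁) ⁻¹ᵁ U).ι _ hq'
    have heι : e ≫ ((W.ι ≫ z₁) ⁻¹ᵁ U).ι = V.ι ≫ inv θ ≫ W.fromSpecStalkOfMem y₁ hyW :=
      IsOpenImmersion.lift_fac _ _ hq'
    have hcd : c ≫ r ≫ h = (e ≫ l) ≫ a := hac _ c (e ≫ l) (by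
      rw [reassoc_of% hcι, Category.assoc, hl, reassoc_of% heι, Scheme.Opens.fromSpecStalkOfMem_ι])
    have hcr : c ≫ r = Scheme.Hom.resLE (Y.fromSpecStalk y) (z ⁻¹ᵁ U) V le_rfl := by
      rw [← cancel_mono (z ⁻¹ᵁ U).ι, Category.assoc, hrι, Scheme.Hom.resLE_comp_ι, reassoc_of% hcι,
        IsIso.inv_hom_id_assoc]
    show V.ι ≫ inv θ ≫ W.fromSpecStalkOfMem y₁ hyW ≫ g = _
    rw [← reassoc_of% heι, hgl, ← Category.assoc, ← hcd, reassoc_of% hcr]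

/-- The mapping property holds for schemes with smooth local models. -/
theorem extProp_of_models (hN : ∀ Z : Over S, Smooth Z.hom → ExtProp N U Z.hom) {Y : Scheme.{u}}
    [IsLocallyNoetherian Y] (z : Y ⟶ S) (hy : ∀ y, HasSmoothModel z y) : ExtProp N U z :=
  extProp_of_local_uniq z (uniqProp_of_models hN z hy) fun h hh y => exists_germ_of_model hN z (hy y) h hh

end Groth.Agent.NeronHD28
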