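import Groth.Agent.NeronHD28.SmoothLocusNMP
import Groth.Agent.SchBasics.EtaleQF

/-! The largest open in the smooth locus restricting to a given open. -/

set_option autoImplicit false
set_option linter.style.haveILetI false
universe u

open CategoryTheory CategoryTheory.Limits AlgebraicGeometry

namespace Groth.Agent.NeronHD28

variable {S T : Scheme.{u}} (π : T ⟶ S) [LocallyOfFinitePresentation π] (U : S.Opens) (W : T.Opens)

/-- The largest open of the smooth locus meeting the preimage of `U` inside `W`. -/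
noncomputable def neronOpen : T.Opens :=
  π.smoothLocus ⊓ ⟨interior ((W : Set T) ∪ ((π ⁻¹ᵁ U : T.Opens) : Set T)ᶜ), isOpen_interior⟩

theorem mem_of_mem_neronOpen {t : T} (ht : t ∈ neronOpen π U W) (htU : π t ∈ U) : t ∈ W :=
  (interior_subset ht.2).resolve_right fun h => h htU

theorem le_neronOpen (hW : W ≤ π.smoothLocus) : W ≤ neronOpen π U W := fun _ ht =>
  ⟨hW ht, interior_maximal Set.subset_union_left W.2 ht⟩

theorem etale_smoothLocus [LocallyQuasiFinite π] : Etale (π.smoothLocus.ι ≫ π) :=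
  (SchBasics.etale_iff_smooth_and_locallyQuasiFinite _).2 ⟨SchBasics.smooth_smoothLocus_ι π, inferInstance⟩

theorem etale_neronOpen [LocallyQuasiFinite π] : Etale ((neronOpen π U W).ι ≫ π) := by
  haveI := etale_smoothLocus π
  have hle : neronOpen π U W ≤ π.smoothLocus := fun _ h => h.1
  rw [← T.homOfLE_ι hle, Category.assoc]
  infer_instance

/-- A morphism from a smooth scheme sending the part over `U` into `W` lands in the open. -/
theorem mem_neronOpen [LocallyQuasiFinite π] (hT : Pi1.IsNormalScheme T) (hS : Pi1.IsNormalScheme S)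
    {Z : Scheme.{u}} (z : Z ⟶ S) [Smooth z] (g : Z ⟶ T) (hg : g ≫ π = z)
    (hgW : ∀ v, z v ∈ U → g v ∈ W) (v : Z) : g v ∈ neronOpen π U W := by
  have hsm := mem_smoothLocus_of_smooth_source π hT hS z g hg
  refine ⟨hsm v, ?_⟩
  haveI := etale_smoothLocus π
  have hr : Set.range g ⊆ Set.range π.smoothLocus.ι := by
    rw [Scheme.Opens.range_ι]
    rintro _ ⟨w, rfl⟩
    exact hsm w
  let g' := IsOpenImmersion.lift π.smoothLocus.ι g hr
  have hg' : g' ≫ π.smoothLocus.ι = g := IsOpenImmersion.lift_fac _ _ _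
  haveI : Smooth g' := smooth_of_comp_etale g' (π.smoothLocus.ι ≫ π) (by
    rw [← Category.assoc, hg', hg]; infer_instance)
  haveI : UniversallyOpen g' := inferInstance
  have hop : IsOpen (Set.range g) := by
    have h1 : IsOpen (Set.range g') := g'.isOpenMap.isOpen_range
    have h2 := π.smoothLocus.ι.isOpenEmbedding.isOpenMap _ h1
    rwa [← Set.range_comp, ← show ⇑g = ⇑π.smoothLocus.ι ∘ ⇑g' from funext fun w => by
      rw [Function.comp_apply, ← Scheme.Hom.comp_apply, hg']] at h2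
  refine interior_maximal ?_ hop ⟨v, rfl⟩
  rintro _ ⟨w, rfl⟩
  by_cases h : z w ∈ U
  · exact Or.inl (hgW w h)
  · refine Or.inr fun h' => h ?_
    rw [← hg]
    exact h'

/-- The open has the mapping property. -/
theorem extProp_neronOpen [IsLocallyNoetherian S] (hS : Pi1.IsNormalScheme S) [IsFinite π]
    (hT : Pi1.IsNormalScheme T) (hU : CInt.IsSchematicallyDense U) {Z : Scheme.{u}} (z : Z ⟶ S) [Smooth z] :
    ExtProp (Over.mk ((neronOpen π U W).ι ≫ π)) U z := by
  intro h hh
  haveI : IsLocallyNoetherian Z := LocallyOfFiniteType.isLocallyNoetherian z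
  have hd := An92.Rat.schDense_preimage_of_flat z hU
  obtain ⟨g, hgq, hgO⟩ := exists_ext_of_normal (isNormalScheme_of_smooth z hS) hd z π
    (h ≫ (neronOpen π U W).ι) ((Category.assoc _ _ _).trans hh)
  have hgW : ∀ v, z v ∈ U → g v ∈ W := fun v hv => by
    have e : g v = (neronOpen π U W).ι (h ⟨v, hv⟩) :=
      congrArg (fun (k : ((z ⁻¹ᵁ U : Z.Opens) : Scheme.{u}) ⟶ T) => k ⟨v, hv⟩) hgO
    rw [e]
    refine mem_of_mem_neronOpen π U W (h ⟨v, hv⟩).2 ?_
    show (h ≫ (neronOpen π U W).ι ≫ π) ⟨v, hv⟩ ∈ U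
    rw [show h ≫ (neronOpen π U W).ι ≫ π = (z ⁻¹ᵁ U).ι ≫ z from hh]
    exact hv
  have hr : Set.range g ⊆ Set.range (neronOpen π U W).ι := by
    rw [Scheme.Opens.range_ι]
    rintro _ ⟨v, rfl⟩
    exact mem_neronOpen π U W hT hS z g hgq hgW v
  refine ⟨IsOpenImmersion.lift (neronOpen π U W).ι g hr, ⟨?_, ?_⟩, fun g' hg' => ?_⟩
  · show IsOpenImmersion.lift (neronOpen π U W).ι g hr ≫ (neronOpen π U W).ι ≫ π = z
    rw [IsOpenImmersion.lift_fac_assoc, hgq]
  · rw [← cancel_mono (neronOpen π U W).ι, Category.assoc]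
    exact (congrArg (_ ≫ ·) (IsOpenImmersion.lift_fac _ _ hr)).trans hgO
  · haveI : IsSeparated ((neronOpen π U W).ι ≫ π) := inferInstance
    refine SGA3a.eq_of_eqOn_schemDense ((neronOpen π U W).ι ≫ π) (z ⁻¹ᵁ U) hd _ _ ?_ ?_
    · rw [IsOpenImmersion.lift_fac_assoc, hgq]
      exact hg'.1
    · rw [← cancel_mono (neronOpen π U W).ι]
      refine (congrArg (· ≫ (neronOpen π U W).ι) hg'.2).trans (hgO.symm.trans ?_)
      exact ((Category.assoc _ _ _).trans (congrArg (_ ≫ ·) (IsOpenImmersion.lift_fac _ _ hr))).symm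

end Groth.Agent.NeronHD28
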