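import Groth.Agent.NeronHD28.GmGeneric
import Groth.Agent.NeronHD28.Torsion
import Groth.Agent.NeronHD28.KPoints
import Groth.Agent.NeronHD28.IdentityComponent
import Groth.Agent.SGA3a.SubGrpOfMono
import Mathlib.AlgebraicGeometry.Morphisms.ClosedImmersion

/-! The open subgroup with connected special fibre of an affine group over a discrete valuation ring. -/

set_option autoImplicit false
set_option linter.style.haveILetI false
universe u

open CategoryTheory CategoryTheory.Limits MonoidalCategory CartesianMonoidalCategory MonObj AlgebraicGeometry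

namespace Groth.Agent.NeronHD28.Neutral

variable {R : Type u} [CommRing R] [IsDomain R] [IsDiscreteValuationRing R]
  (G : Over (Spec (CommRingCat.of R))) [GrpObj G] [LocallyOfFiniteType G.hom]

/-- The special fibre. -/
noncomputable abbrev sp : Over (Spec (CommRingCat.of (IsLocalRing.ResidueField R))) := Red.bc (closedPt R) G

/-- An element of the base as a function on an object. -/
noncomputable def fn {X : Over (Spec (CommRingCat.of R))} (r : R) : Γ(X.left, ⊤) :=
  X.hom.appTop ((Scheme.ΓSpecIso (CommRingCat.of R)).inv r)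

instance lft_special : LocallyOfFiniteType ((sp G)).hom :=
  inferInstanceAs (LocallyOfFiniteType (pullback.snd G.hom (closedPt R)))

omit [IsDomain R] [IsDiscreteValuationRing R] [GrpObj G] [LocallyOfFiniteType G.hom] in
theorem mem_basicOpen_fn (r : R) (x : G.left) :
    x ∈ G.left.basicOpen (fn (X := G) r) ↔ r ∉ (G.hom x : PrimeSpectrum R).asIdeal := by
  show x ∈ G.left.basicOpen (G.hom.appTop _) ↔ _
  rw [← Scheme.preimage_basicOpen_top]
  show G.hom x ∈ (Spec (CommRingCat.of R)).basicOpen _ ↔ _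
  rw [basicOpen_eq_of_affine]
  rfl

omit [IsDomain R] [IsDiscreteValuationRing R] in
/-- An open subscheme of a group whose points are stable under the group operations. -/
theorem exists_grpObj_opens (U : G.left.Opens)
    (h1 : ∀ (T : Over (Spec (CommRingCat.of R))) (t : T.left), (1 : T ⟶ G).left t ∈ U)
    (hmul : ∀ (T : Over (Spec (CommRingCat.of R))) (a b : T ⟶ G) (t : T.left),
      a.left t ∈ U → b.left t ∈ U → (a * b).left t ∈ U)
    (hinv : ∀ (T : Over (Spec (CommRingCat.of R))) (a : T ⟶ G) (t : T.left), a.left t ∈ U → a⁻¹.left t ∈ U) :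
    ∃ _ : GrpObj (Over.mk (U.ι ≫ G.hom)), IsMonHom (Over.homMk U.ι rfl : Over.mk (U.ι ≫ G.hom) ⟶ G) := by
  let V := Over.mk (U.ι ≫ G.hom)
  let j : V ⟶ G := Over.homMk U.ι rfl
  have : Mono j.left := inferInstanceAs (Mono U.ι)
  have : Mono j := Over.mono_of_mono_left _
  have hlift : ∀ {T : Over (Spec (CommRingCat.of R))} (g : T ⟶ G), (∀ t, g.left t ∈ U) →
      ∃ g' : T ⟶ V, g' ≫ j = g := by
    intro T g hg
    let l : T.left ⟶ _ := IsOpenImmersion.lift U.ι g.left (by
      rw [Scheme.Opens.range_ι]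
      rintro _ ⟨t, rfl⟩
      exact hg t)
    refine ⟨Over.homMk l ?_, Over.OverMorphism.ext (IsOpenImmersion.lift_fac _ _ _)⟩
    show l ≫ U.ι ≫ G.hom = T.hom
    rw [IsOpenImmersion.lift_fac_assoc, Over.w]
  have e1 : ∃ k : 𝟙_ _ ⟶ V, k ≫ j = (1 : 𝟙_ _ ⟶ G) := hlift _ fun t => h1 _ t
  have e2 : ∃ m : V ⊗ V ⟶ V, m ≫ j = (fst V V ≫ j) * (snd V V ≫ j) :=
    hlift _ fun t => hmul _ _ _ t ((fst V V).left t).2 ((snd V V).left t).2
  have e3 : ∃ k : V ⟶ V, k ≫ j = j⁻¹ := hlift _ fun t => hinv _ _ t t.2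
  exact ⟨SGA3a.grpObjOfMono j e1 e2 e3, SGA3a.isMonHom_grpObjOfMono j e1 e2 e3⟩

variable [IsAffineHom G.hom]

/-- A function cutting out the identity component of the special fibre. -/
theorem exists_eps : ∃ ε : Γ(G.left, ⊤), ∀ x : ((sp G)).left,
    pullback.fst G.hom (closedPt R) x ∈ G.left.basicOpen ε ↔ x ∈ connectedComponent (Grp57.unitPt (sp G)) := by
  haveI : IsAffine G.left := isAffine_of_isAffineHom G.hom
  haveI : IsAffineHom ((sp G)).hom := inferInstanceAs (IsAffineHom (pullback.snd G.hom (closedPt R)))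
  haveI : IsAffine ((sp G)).left := isAffine_of_isAffineHom ((sp G)).hom
  haveI : IsClosedImmersion (closedPt R) :=
    IsClosedImmersion.spec_of_surjective _ IsLocalRing.residue_surjective
  let Z := ((sp G)).left
  have hC : IsClopen (connectedComponent (Grp57.unitPt (sp G))) :=
    ⟨isClosed_connectedComponent, SGA3a.isOpen_connectedComponent_unit ((sp G))⟩
  have hC' : IsClopen (Z.isoSpec.inv ⁻¹' connectedComponent (Grp57.unitPt (sp G))) :=
    hC.preimage Z.isoSpec.inv.continuous
  obtain ⟨e₀, -, he₀⟩ := PrimeSpectrum.isClopen_iff.1 hC'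
  obtain ⟨ε, hε⟩ := (pullback.fst G.hom (closedPt R)).app_surjective ⊤ (isAffineOpen_top G.left) e₀
  refine ⟨ε, fun x => ?_⟩
  show x ∈ pullback.fst G.hom (closedPt R) ⁻¹ᵁ G.left.basicOpen ε ↔ _
  rw [Scheme.preimage_basicOpen_top, show (pullback.fst G.hom (closedPt R)).appTop ε = e₀ from hε]
  have h1 : (Z.isoSpec.hom ≫ Z.isoSpec.inv) x = x := by rw [Iso.hom_inv_id]; rfl
  rw [← h1, Scheme.Hom.comp_apply]
  show _ ↔ Z.isoSpec.hom x ∈ Z.isoSpec.inv ⁻¹' connectedComponent (Grp57.unitPt (sp G))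
  rw [he₀, ← Scheme.Hom.comp_apply, Iso.hom_inv_id]
  show x ∈ Z.basicOpen e₀ ↔ Z.isoSpec.hom x ∈ PrimeSpectrum.basicOpen e₀
  rw [← Scheme.toSpecΓ_preimage_basicOpen]
  rfl

variable (ϖ : R) (ε : Γ(G.left, ⊤))

/-- The generic fibre together with a basic open of the identity component. -/
noncomputable def nbhd : G.left.Opens := G.left.basicOpen (fn (X := G) ϖ) ⊔ G.left.basicOpen ε

variable {G ϖ ε} (hϖ : IsLocalRing.maximalIdeal R = Ideal.span {ϖ})
  (hε : ∀ x : ((sp G)).left,
    pullback.fst G.hom (closedPt R) x ∈ G.left.basicOpen ε ↔ x ∈ connectedComponent (Grp57.unitPt (sp G)))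

omit [GrpObj G] [LocallyOfFiniteType G.hom] [IsAffineHom G.hom] in
include hϖ in
theorem notMem_basicOpen_iff (x : G.left) :
    x ∉ G.left.basicOpen (fn (X := G) ϖ) ↔ G.hom x = IsLocalRing.closedPoint R := by
  rw [mem_basicOpen_fn, not_not]
  refine ⟨fun h => PrimeSpectrum.ext ?_, fun h => ?_⟩
  · have hle : IsLocalRing.maximalIdeal R ≤ (G.hom x : PrimeSpectrum R).asIdeal := by
      rw [hϖ, Ideal.span_le, Set.singleton_subset_iff]
      exact h
    exact ((IsLocalRing.maximalIdeal.isMaximal R).eq_of_le (G.hom x : PrimeSpectrum R).isPrime.ne_top hle).symm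
  · rw [h]
    show ϖ ∈ IsLocalRing.maximalIdeal R
    rw [hϖ]
    exact Ideal.mem_span_singleton_self ϖ

include hϖ hε in
theorem fst_mem_nbhd_iff (x : ((sp G)).left) :
    pullback.fst G.hom (closedPt R) x ∈ nbhd G ϖ ε ↔ x ∈ connectedComponent (Grp57.unitPt (sp G)) := by
  have h0 : pullback.fst G.hom (closedPt R) x ∉ G.left.basicOpen (fn (X := G) ϖ) := by
    refine (notMem_basicOpen_iff (G := G) hϖ _).2 ?_
    have e := congr($(pullback.condition (f := G.hom) (g := closedPt R)) x)
    rw [Scheme.Hom.comp_apply, Scheme.Hom.comp_apply] at e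
    exact e.trans (closedPt_apply _)
  exact ⟨fun h => (hε x).1 (h.resolve_left h0), fun h => Or.inr ((hε x).2 h)⟩

omit [GrpObj G] [LocallyOfFiniteType G.hom] [IsAffineHom G.hom] in
theorem exists_special_point {T : Over (Spec (CommRingCat.of R))} (t : T.left)
    (ht : T.hom t = IsLocalRing.closedPoint R) :
    ∃ t' : ((Over.pullback (closedPt R)).obj T).left, pullback.fst T.hom (closedPt R) t' = t := by
  have hm : t ∈ Set.range (pullback.fst T.hom (closedPt R)) := by
    rw [Scheme.Pullback.range_fst]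
    exact ⟨IsLocalRing.closedPoint _, (closedPt_apply _).trans ht.symm⟩
  exact hm

include hϖ hε in
theorem mem_nbhd_special {T : Over (Spec (CommRingCat.of R))} (c : T ⟶ G)
    (t' : ((Over.pullback (closedPt R)).obj T).left) :
    c.left (pullback.fst T.hom (closedPt R) t') ∈ nbhd G ϖ ε ↔
      (show (Over.pullback (closedPt R)).obj T ⟶ (sp G) from (Over.pullback (closedPt R)).map c).left t' ∈
        connectedComponent (Grp57.unitPt (sp G)) := by
  have h : pullback.fst T.hom (closedPt R) ≫ c.left =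
      (show (Over.pullback (closedPt R)).obj T ⟶ (sp G) from (Over.pullback (closedPt R)).map c).left ≫
        pullback.fst G.hom (closedPt R) := (pullback.lift_fst _ _ _).symm
  rw [← Scheme.Hom.comp_apply, h, Scheme.Hom.comp_apply]
  exact fst_mem_nbhd_iff hϖ hε _

include hϖ in
theorem mem_nbhd_generic {T : Over (Spec (CommRingCat.of R))} (c : T ⟶ G) (t : T.left)
    (ht : T.hom t ≠ IsLocalRing.closedPoint R) : c.left t ∈ nbhd G ϖ ε := by
  refine Or.inl ?_
  by_contra h
  have h1 := (notMem_basicOpen_iff hϖ (c.left t)).1 h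
  rw [← Scheme.Hom.comp_apply, Over.w c] at h1
  exact ht h1

include hϖ hε in
theorem exists_grpObj_nbhd :
    ∃ _ : GrpObj (Over.mk ((nbhd G ϖ ε).ι ≫ G.hom)),
      IsMonHom (Over.homMk (nbhd G ϖ ε).ι rfl : Over.mk ((nbhd G ϖ ε).ι ≫ G.hom) ⟶ G) := by
  refine exists_grpObj_opens G _ (fun T t => ?_) (fun T a b t ha hb => ?_) (fun T a t ha => ?_)
  · by_cases ht : T.hom t = IsLocalRing.closedPoint R
    · obtain ⟨t', rfl⟩ := exists_special_point t ht
      rw [mem_nbhd_special hϖ hε,
        show (show (Over.pullback (closedPt R)).obj T ⟶ (sp G) from (Over.pullback (closedPt R)).map (1 : T ⟶ G)) = 1 from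
          map_one (Over.pullback (closedPt R)).homMonoidHom]
      exact SGA3a.TargetLocus.one_mem_neutral t'
    · exact mem_nbhd_generic hϖ _ t ht
  · by_cases ht : T.hom t = IsLocalRing.closedPoint R
    · obtain ⟨t', rfl⟩ := exists_special_point t ht
      rw [mem_nbhd_special hϖ hε] at ha hb ⊢
      rw [show (show (Over.pullback (closedPt R)).obj T ⟶ (sp G) from (Over.pullback (closedPt R)).map (a * b)) =
        (show (Over.pullback (closedPt R)).obj T ⟶ (sp G) from (Over.pullback (closedPt R)).map a) *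
        (show (Over.pullback (closedPt R)).obj T ⟶ (sp G) from (Over.pullback (closedPt R)).map b) from
        map_mul (Over.pullback (closedPt R)).homMonoidHom a b]
      have h := SGA3a.mul_inv_mem_neutral
        (show (Over.pullback (closedPt R)).obj T ⟶ (sp G) from (Over.pullback (closedPt R)).map a)
        (show (Over.pullback (closedPt R)).obj T ⟶ (sp G) from (Over.pullback (closedPt R)).map b)⁻¹ t' ha
        (SGA3a.inv_mem_neutral _ t' hb)
      rwa [_root_.inv_inv] at h
    · exact mem_nbhd_generic hϖ _ t ht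
  · by_cases ht : T.hom t = IsLocalRing.closedPoint R
    · obtain ⟨t', rfl⟩ := exists_special_point t ht
      rw [mem_nbhd_special hϖ hε] at ha ⊢
      rw [show (show (Over.pullback (closedPt R)).obj T ⟶ (sp G) from (Over.pullback (closedPt R)).map a⁻¹) =
        (show (Over.pullback (closedPt R)).obj T ⟶ (sp G) from (Over.pullback (closedPt R)).map a)⁻¹ from
        map_inv (Over.pullback (closedPt R)).homMonoidHom a]
      exact SGA3a.inv_mem_neutral _ t' ha
    · exact mem_nbhd_generic hϖ _ t ht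

include hϖ hε in
theorem range_special_nbhd :
    Set.range ((Over.pullback (closedPt R)).map
      (Over.homMk (nbhd G ϖ ε).ι rfl : Over.mk ((nbhd G ϖ ε).ι ≫ G.hom) ⟶ G)).left =
      connectedComponent (Grp57.unitPt (sp G)) := by
  let j : Over.mk ((nbhd G ϖ ε).ι ≫ G.hom) ⟶ G := Over.homMk (nbhd G ϖ ε).ι rfl
  have hsq := isPullback_map_left (closedPt R) j
  refine Set.Subset.antisymm ?_ fun x hx => ?_
  · rintro _ ⟨z, rfl⟩
    rw [← fst_mem_nbhd_iff hϖ hε, ← Scheme.Hom.comp_apply]
    rw [show ((Over.pullback (closedPt R)).map j).left ≫ pullback.fst G.hom (closedPt R) =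
      pullback.fst (Over.mk ((nbhd G ϖ ε).ι ≫ G.hom)).hom (closedPt R) ≫ (nbhd G ϖ ε).ι from pullback.lift_fst _ _ _,
      Scheme.Hom.comp_apply]
    exact Subtype.mem _
  · obtain ⟨w, hw⟩ : ∃ w, (nbhd G ϖ ε).ι w = pullback.fst G.hom (closedPt R) x :=
      ⟨⟨_, (fst_mem_nbhd_iff hϖ hε x).2 hx⟩, rfl⟩
    obtain ⟨z, -, hz⟩ := Scheme.Pullback.exists_preimage_pullback (f := j.left)
      (g := pullback.fst G.hom (closedPt R)) w x hw
    refine ⟨hsq.isoPullback.inv z, ?_⟩
    rw [← Scheme.Hom.comp_apply, hsq.isoPullback_inv_snd]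
    exact hz

end Groth.Agent.NeronHD28.Neutral
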