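import Groth.Agent.Grp57.PowEtale
import Groth.Agent.FlatMor67.FibreCrit

/-! Powers invertible on the base are etale on a smooth commutative group scheme. -/

set_option autoImplicit false
universe u

open CategoryTheory CategoryTheory.Limits AlgebraicGeometry MonoidalCategory CartesianMonoidalCategory MonObj

namespace Groth.Agent.NeronHD28

theorem etale_pullback_pow {S : Scheme.{u}} {K : Type u} [Field K] (b : Spec (CommRingCat.of K) ⟶ S)
    (G : Over S) [GrpObj G] [IsCommMonObj G] [Smooth G.hom] (N : ℕ) (hN : (N : K) ≠ 0) :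
    Etale (pullback.snd ((𝟙 G : G ⟶ G) ^ N).left (pullback.fst G.hom b)) := by
  let F := Over.pullback b
  let GK : Over (Spec (CommRingCat.of K)) := F.obj G
  let : GrpObj GK := Functor.grpObjObj
  have : IsCommMonObj GK := Functor.isCommMonObj_obj
  have : Smooth GK.hom := inferInstanceAs (Smooth (pullback.snd G.hom b))
  have hz : ((N : ℤ) : K) ≠ 0 := by exact_mod_cast hN
  have he := Grp57.etale_zpow GK (N : ℤ) hz
  rw [zpow_natCast] at he
  have hmap : F.map ((𝟙 G : G ⟶ G) ^ N) = (𝟙 GK : GK ⟶ GK) ^ N := by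
    have := map_pow (F.homMonoidHom (X := G) (M := G)) (𝟙 G) N
    exact this.trans (congrArg (fun m : GK ⟶ GK => m ^ N) (F.map_id G))
  rw [← hmap] at he
  have hpb : IsPullback (F.map ((𝟙 G : G ⟶ G) ^ N)).left (pullback.fst G.hom b) (pullback.fst G.hom b)
      ((𝟙 G : G ⟶ G) ^ N).left := by
    refine IsPullback.of_right (h₁₂ := (F.obj G).hom) (h₂₂ := G.hom) (v₁₃ := b) ?_ ?_
      (IsPullback.of_hasPullback G.hom b).flip
    · rw [Over.w, Over.w]
      exact (IsPullback.of_hasPullback G.hom b).flip
    · exact pullback.lift_fst _ _ _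
  rw [← hpb.flip.isoPullback_inv_snd]
  infer_instance

/-- The power by an integer invertible at every point is etale. -/
theorem etale_pow {S : Scheme.{u}} (G : Over S) [GrpObj G] [IsCommMonObj G] [Smooth G.hom] (N : ℕ)
    (hN : ∀ s : S, (N : S.residueField s) ≠ 0) : Etale ((𝟙 G : G ⟶ G) ^ N).left := by
  have : Smooth (((𝟙 G : G ⟶ G) ^ N).left ≫ G.hom) := by rw [Over.w]; infer_instance
  exact FlatMor67.FibreCrit.etale_of_fibres _ G.hom fun s =>
    etale_pullback_pow (K := S.residueField s) (S.fromSpecResidueField s) G N (hN s)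

theorem natCast_residueField_ne_zero {R : Type u} [CommRing R] (N : ℕ) (hN : IsUnit (N : R))
    (s : Spec (CommRingCat.of R)) : (N : (Spec (CommRingCat.of R)).residueField s) ≠ 0 := by
  obtain ⟨ψ, -⟩ := Spec.map_surjective ((Spec (CommRingCat.of R)).fromSpecResidueField s)
  have := hN.map ψ.hom
  rw [map_natCast] at this
  exact this.ne_zero

end Groth.Agent.NeronHD28
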