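import Groth.Agent.NeronHD28.DimTwo
import Groth.Agent.CAlg1.Regular
import Groth.Agent.CAlg1.Serre
import Groth.Agent.RegUFD52.Basic
import Groth.Agent.EGA73.ExtendCodimOne
import Mathlib.AlgebraicGeometry.ValuativeCriterion

/-!
Points of proper schemes without rational curves with values in the fraction field of a regular local ring extend.
-/

set_option autoImplicit false
universe u

open CategoryTheory CategoryTheory.Limits AlgebraicGeometry IsLocalRing

namespace Groth.Agent.NeronHD28

/-- The fraction point of a localisation. -/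
noncomputable abbrev fracLoc (R : Type u) [CommRing R] [IsDomain R] (p : Ideal R) [p.IsPrime] :
    Spec (CommRingCat.of (FractionRing R)) ⟶ Spec (CommRingCat.of (Localization.AtPrime p)) :=
  Spec.map (CommRingCat.ofHom (IsLocalization.lift (M := p.primeCompl) (g := algebraMap R (FractionRing R))
    fun t => isUnit_iff_ne_zero.2 (IsFractionRing.to_map_ne_zero_of_mem_nonZeroDivisors
      (p.primeCompl_le_nonZeroDivisors t.2))))

theorem fracLoc_comp (R : Type u) [CommRing R] [IsDomain R] (p : Ideal R) [p.IsPrime] :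
    fracLoc R p ≫ Spec.map (CommRingCat.ofHom (algebraMap R (Localization.AtPrime p))) =
      fracPt (CommRingCat.of R) := by
  rw [← Spec.map_comp]
  congr 1
  exact CommRingCat.hom_ext (IsLocalization.lift_comp _)

theorem isDominant_specMap_of_injective {R K : CommRingCat.{u}} [IsDomain R] (f : R ⟶ K)
    (hf : Function.Injective f.hom) : IsDominant (Spec.map f) :=
  ⟨(PrimeSpectrum.denseRange_comap_iff_ker_le_nilRadical _).2 (by
    rw [(RingHom.injective_iff_ker_eq_bot _).1 hf]
    exact bot_le)⟩

theorem ext_of_injective {S A : Scheme.{u}} (pA : A ⟶ S) [IsSeparated pA] {R K : CommRingCat.{u}} [IsDomain R]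
    (f : R ⟶ K) (hf : Function.Injective f.hom) (a b : Spec R ⟶ A) (hab : a ≫ pA = b ≫ pA)
    (h : Spec.map f ≫ a = Spec.map f ≫ b) : a = b := by
  have := isDominant_specMap_of_injective f hf
  exact ext_of_isDominant_of_isSeparated pA hab (Spec.map f) h

variable {S A : Scheme.{u}} (pA : A ⟶ S) [IsProper pA]

/-- Extension of a point with values in any fraction field of a regular local ring. -/
def ExtPt (R : Type u) [CommRing R] : Prop :=
  ∀ (K : Type u) [Field K] [Algebra R K] [IsFractionRing R K] (s : Spec (CommRingCat.of R) ⟶ S)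
    (x : Spec (CommRingCat.of K) ⟶ A), x ≫ pA = Spec.map (CommRingCat.ofHom (algebraMap R K)) ≫ s →
    ∃ l : Spec (CommRingCat.of R) ⟶ A, l ≫ pA = s ∧ Spec.map (CommRingCat.ofHom (algebraMap R K)) ≫ l = x

theorem extPt_of_fractionRing (R : Type u) [CommRing R] [IsDomain R]
    (h : ∀ (s : Spec (CommRingCat.of R) ⟶ S) (x : Spec (CommRingCat.of (FractionRing R)) ⟶ A),
      x ≫ pA = fracPt (CommRingCat.of R) ≫ s →
      ∃ l : Spec (CommRingCat.of R) ⟶ A, l ≫ pA = s ∧ fracPt (CommRingCat.of R) ≫ l = x) :
    ExtPt pA R := by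
  intro K _ _ _ s x hx
  let e := (FractionRing.algEquiv R K)
  let E : Spec (CommRingCat.of K) ⟶ Spec (CommRingCat.of (FractionRing R)) :=
    Spec.map (CommRingCat.ofHom e.toRingEquiv.toRingHom)
  have : IsIso E := inferInstanceAs (IsIso (Spec.map e.toRingEquiv.toCommRingCatIso.hom))
  have hE : E ≫ fracPt (CommRingCat.of R) = Spec.map (CommRingCat.ofHom (algebraMap R K)) := by
    rw [← Spec.map_comp]
    congr 1
    exact CommRingCat.hom_ext (RingHom.ext e.commutes)
  obtain ⟨l, hl, hlx⟩ := h s (inv E ≫ x) (by rw [Category.assoc, hx, ← hE, Category.assoc, IsIso.inv_hom_id_assoc])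
  exact ⟨l, hl, by rw [← hE, Category.assoc, hlx, IsIso.hom_inv_id_assoc]⟩

theorem extPt_of_dim_le_one (R : Type u) [CommRing R] [IsDomain R] [IsRegularLocalRing R]
    (h : ringKrullDim R ≤ 1) : ExtPt pA R := by
  intro K _ _ _ s x hx
  have := EGA73.valuationRing_of_regular R h
  have hex : ValuativeCriterion.Existence pA := by
    have h1 : (ValuativeCriterion.Existence ⊓ @QuasiCompact : MorphismProperty Scheme) pA := by
      rw [← UniversallyClosed.eq_valuativeCriterion]
      infer_instance
    exact h1.1
  obtain ⟨⟨l⟩⟩ := hex ⟨R, K, x, s, ⟨hx⟩⟩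
  exact ⟨l.l, l.fac_right, l.fac_left⟩

/-- The slice step: in dimension at least three. -/
theorem extPt_step (R : Type u) [CommRing R] [IsDomain R] [IsRegularLocalRing R]
    (h3 : (3 : WithBot ℕ∞) ≤ ringKrullDim R)
    (hloc : ∀ (p : Ideal R) [p.IsPrime], p ≠ maximalIdeal R → ExtPt pA (Localization.AtPrime p))
    (hquot : ∀ t ∈ maximalIdeal R, t ∉ maximalIdeal R ^ 2 → ExtPt pA (R ⧸ Ideal.span ({t} : Set R))) :
    ExtPt pA R := by
  refine extPt_of_fractionRing pA R fun s xK hx => ?_
  let RC := CommRingCat.of R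
  let K := FractionRing R
  let X := pullback pA s
  let π := pullback.snd pA s
  let xR := genSec pA RC s xK hx
  have : UniqueFactorizationMonoid R := RegUFD52.ufm_of_regular R
  -- lifts at the non-closed points
  have hq : ∀ (q : Ideal R) [q.IsPrime], q ≠ maximalIdeal R →
      ∃ l : Spec (CommRingCat.of (Localization.AtPrime q)) ⟶ X,
        l ≫ π = Spec.map (CommRingCat.ofHom (algebraMap R _)) ∧ fracLoc R q ≫ l = xR := by
    intro q _ hqm
    let gen := IsLocalization.lift (M := q.primeCompl) (g := algebraMap R K) (S := Localization.AtPrime q)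
      fun t => isUnit_iff_ne_zero.2 (IsFractionRing.to_map_ne_zero_of_mem_nonZeroDivisors
        (q.primeCompl_le_nonZeroDivisors t.2))
    let := gen.toAlgebra
    have : IsScalarTower R (Localization.AtPrime q) K :=
      IsScalarTower.of_algebraMap_eq' (IsLocalization.lift_comp _).symm
    have : IsFractionRing (Localization.AtPrime q) K :=
      IsFractionRing.isFractionRing_of_isDomain_of_isLocalization q.primeCompl _ _
    obtain ⟨l, hl, hlx⟩ := hloc q hqm K (Spec.map (CommRingCat.ofHom (algebraMap R _)) ≫ s) xK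
      (by rw [hx, ← fracLoc_comp R q, Category.assoc]; try rfl)
    refine ⟨pullback.lift l (Spec.map (CommRingCat.ofHom (algebraMap R _))) hl, pullback.lift_snd _ _ _, ?_⟩
    apply pullback.hom_ext
    · simp only [Category.assoc, pullback.lift_fst, xR, genSec]
      exact hlx
    · simp only [Category.assoc, pullback.lift_snd, xR, genSec]
      exact fracLoc_comp R q
  -- the slice
  obtain ⟨t, htm, ht2, -⟩ := CAlg1.exists_notMem_sq_notMem_minimal (R := R) (by
    intro h0
    rw [h0] at h3
    exact absurd h3 (by decide))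
  let P : Ideal R := Ideal.span {t}
  obtain ⟨hreg, hdim⟩ := CAlg1.regular_quotient_singleton htm ht2
  have := hreg
  have : IsDomain (R ⧸ P) := CAlg1.isDomain_regular _
  have hP : P.IsPrime := (Ideal.Quotient.isDomain_iff_prime P).1 ‹_›
  have hPm : P ≠ maximalIdeal R := by
    intro hc
    have h1 : ringKrullDim R ≤ 1 := by
      rw [← IsRegularLocalRing.spanFinrank_maximalIdeal (R := R), ← hc]
      exact_mod_cast (Submodule.spanFinrank_span_le_ncard_of_finite (R := R) (Set.finite_singleton t)).trans
        (Set.ncard_singleton t).le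
    exact absurd (h3.trans h1) (by decide)
  obtain ⟨lP, hlP, hlPx⟩ := hq P hPm
  let K' := FractionRing (R ⧸ P)
  let γ : R →+* K' := (algebraMap (R ⧸ P) K').comp (Ideal.Quotient.mk P)
  have hγ : ∀ r : P.primeCompl, IsUnit (γ r) := fun r => isUnit_iff_ne_zero.2 fun h => r.2 <| by
    exact Ideal.Quotient.eq_zero_iff_mem.1 (IsFractionRing.injective (R ⧸ P) K' (h.trans (map_zero _).symm))
  let γP : Localization.AtPrime P →+* K' := IsLocalization.lift hγ
  let mk : Spec (CommRingCat.of (R ⧸ P)) ⟶ Spec RC := Spec.map (CommRingCat.ofHom (Ideal.Quotient.mk P))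
  let xP : Spec (CommRingCat.of K') ⟶ X := Spec.map (CommRingCat.ofHom γP) ≫ lP
  have hxP : xP ≫ π = Spec.map (CommRingCat.ofHom γ) := by
    rw [Category.assoc, hlP, ← Spec.map_comp]
    congr 1
    exact CommRingCat.hom_ext (IsLocalization.lift_comp _)
  obtain ⟨lb, hlb, hlbx⟩ := hquot t htm ht2 K' (mk ≫ s) (xP ≫ pullback.fst pA s) (by
    rw [Category.assoc, pullback.condition, ← Category.assoc, hxP, ← Category.assoc, ← Spec.map_comp]
    rfl)
  let lbX : Spec (CommRingCat.of (R ⧸ P)) ⟶ X := pullback.lift lb mk hlb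
  have hlbX : Spec.map (CommRingCat.ofHom (algebraMap (R ⧸ P) K')) ≫ lbX = xP := by
    apply pullback.hom_ext
    · simp only [lbX, Category.assoc, pullback.lift_fst]
      exact hlbx
    · simp only [lbX, Category.assoc, pullback.lift_snd]
      rw [hxP, ← Spec.map_comp]
      rfl
  obtain ⟨H, hH, hcH, -⟩ := exists_isAffineOpen_mem_and_subset (U := (⊤ : X.Opens))
    (x := lbX.base (closedPoint (R ⧸ P))) trivial
  have hlbH : Set.range lbX ⊆ (H : Set X) := range_subset_of_closedPoint_mem lbX H hcH
  -- lifts at the points of the slice land in the chart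
  have hqH : ∀ (q : Ideal R) [q.IsPrime], q ≠ maximalIdeal R → P ≤ q →
      ∃ l : Spec (CommRingCat.of (Localization.AtPrime q)) ⟶ X,
        Set.range l ⊆ (H : Set X) ∧ fracLoc R q ≫ l = xR := by
    intro q hqp hqm hPq
    obtain ⟨l, hl, hlx⟩ := hq q hqm
    refine ⟨l, range_subset_of_closedPoint_mem l H ?_, hlx⟩
    -- compare with the section over the slice
    let qb : Ideal (R ⧸ P) := q.map (Ideal.Quotient.mk P)
    have hqbp : qb.IsPrime := Ideal.map_isPrime_of_surjective Ideal.Quotient.mk_surjective (by rwa [Ideal.mk_ker])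
    have hcomap : qb.comap (Ideal.Quotient.mk P) = q := by
      rw [Ideal.comap_map_of_surjective' _ Ideal.Quotient.mk_surjective, Ideal.mk_ker]
      exact sup_eq_left.2 hPq
    let B := Localization.AtPrime qb
    let θ : Localization.AtPrime q →+* B := Localization.localRingHom q qb (Ideal.Quotient.mk P) hcomap.symm
    let toB : Spec (CommRingCat.of B) ⟶ Spec (CommRingCat.of (Localization.AtPrime q)) :=
      Spec.map (CommRingCat.ofHom θ)
    let toRP : Spec (CommRingCat.of B) ⟶ Spec (CommRingCat.of (R ⧸ P)) :=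
      Spec.map (CommRingCat.ofHom (algebraMap (R ⧸ P) B))
    let β : B →+* K' := IsLocalization.lift (M := qb.primeCompl) (g := algebraMap (R ⧸ P) K') fun r =>
      isUnit_iff_ne_zero.2 (IsFractionRing.to_map_ne_zero_of_mem_nonZeroDivisors (qb.primeCompl_le_nonZeroDivisors r.2))
    have hβinj : Function.Injective β := (IsLocalization.lift_injective_iff _).2 fun a b =>
      ⟨fun h => congrArg (algebraMap (R ⧸ P) K') (IsLocalization.injective B qb.primeCompl_le_nonZeroDivisors h),
       fun h => congrArg (algebraMap (R ⧸ P) B) (IsFractionRing.injective (R ⧸ P) K' h)⟩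
    let σ : Localization.AtPrime q →+* Localization.AtPrime P :=
      IsLocalization.lift (M := q.primeCompl) (g := algebraMap R (Localization.AtPrime P)) fun r =>
        IsLocalization.map_units (M := P.primeCompl) (Localization.AtPrime P) ⟨r, fun hr => r.2 (hPq hr)⟩
    have hσ : Spec.map (CommRingCat.ofHom σ) ≫ l = lP := by
      let gP : CommRingCat.of (Localization.AtPrime P) ⟶ CommRingCat.of K :=
        CommRingCat.ofHom (IsLocalization.lift (M := P.primeCompl) (g := algebraMap R K) fun r =>
          isUnit_iff_ne_zero.2 (IsFractionRing.to_map_ne_zero_of_mem_nonZeroDivisors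
            (P.primeCompl_le_nonZeroDivisors r.2)))
      refine ext_of_injective π gP ?_ _ _ ?_ ?_
      · exact (IsLocalization.lift_injective_iff _).2 fun a b =>
          ⟨fun h => congrArg (algebraMap R K) (IsLocalization.injective _ P.primeCompl_le_nonZeroDivisors h),
           fun h => congrArg (algebraMap R _) (IsFractionRing.injective R K h)⟩
      · rw [Category.assoc, hl, hlP, ← Spec.map_comp]
        congr 1
        exact CommRingCat.hom_ext (IsLocalization.lift_comp _)
      · rw [show Spec.map gP ≫ lP = xR from hlPx, ← Category.assoc, ← Spec.map_comp]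
        refine Eq.trans ?_ hlx
        congr 1
        congr 1
        refine CommRingCat.hom_ext (IsLocalization.ringHom_ext q.primeCompl (RingHom.ext fun r => ?_))
        simp only [gP, σ, CommRingCat.hom_comp, CommRingCat.hom_ofHom, RingHom.comp_apply, IsLocalization.lift_eq]
        rfl
    have heq : toB ≫ l = toRP ≫ lbX := by
      refine ext_of_injective π (CommRingCat.ofHom β) hβinj _ _ ?_ ?_
      · rw [Category.assoc, hl, Category.assoc, pullback.lift_snd, ← Spec.map_comp, ← Spec.map_comp]
        congr 1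
        exact CommRingCat.hom_ext (RingHom.ext fun r => Localization.localRingHom_to_map q qb (Ideal.Quotient.mk P) hcomap.symm r)
      · have h1 : Spec.map (CommRingCat.ofHom β) ≫ toRP = Spec.map (CommRingCat.ofHom (algebraMap (R ⧸ P) K')) := by
          rw [← Spec.map_comp]
          congr 1
          exact CommRingCat.hom_ext (IsLocalization.lift_comp _)
        have h2 : Spec.map (CommRingCat.ofHom β) ≫ toB =
            Spec.map (CommRingCat.ofHom γP) ≫ Spec.map (CommRingCat.ofHom σ) := by
          rw [← Spec.map_comp, ← Spec.map_comp]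
          congr 1
          refine CommRingCat.hom_ext (IsLocalization.ringHom_ext q.primeCompl (RingHom.ext fun r => ?_))
          simp only [γP, σ, β, θ, CommRingCat.hom_comp, CommRingCat.hom_ofHom, RingHom.comp_apply,
            IsLocalization.lift_eq]
          erw [Localization.localRingHom_to_map q qb (Ideal.Quotient.mk P) hcomap.symm, IsLocalization.lift_eq]
          rfl
        rw [← Category.assoc, h2, Category.assoc, hσ, ← Category.assoc, h1, hlbX]
    have hcl : (toB ≫ l).base (closedPoint B) = l.base (closedPoint _) := by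
      rw [Scheme.Hom.comp_apply]
      congr 1
      have : IsLocalHom θ := Localization.isLocalHom_localRingHom q qb _ _
      exact PrimeSpectrum.ext (((IsLocalRing.local_hom_TFAE θ).out 0 4).mp this)
    rw [← hcl, heq, Scheme.Hom.comp_apply]
    exact hlbH ⟨_, rfl⟩
  have hxH : xR.base (closedPoint K) ∈ H := by
    obtain ⟨l, hlH, hlx⟩ := hqH P hPm le_rfl
    rw [← hlx, Scheme.Hom.comp_apply]
    exact hlH ⟨_, rfl⟩
  obtain ⟨l, hl, hlx⟩ := exists_lift_of_forall_mem_range π RC (𝟙 _) xR
    (by rw [genSec_snd, Category.comp_id]) hH hxH fun ρ hρ h => by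
    -- algebraic Hartogs
    obtain ⟨a, b, hab, hc⟩ := IsFractionRing.exists_reduced_fraction R (ρ h)
    by_cases hb : IsUnit (b : R)
    · obtain ⟨v, hv⟩ := hb
      refine ⟨a * (v⁻¹ : Rˣ), ?_⟩
      rw [← hc, IsLocalization.eq_mk'_iff_mul_eq, ← map_mul, ← hv, mul_assoc, Units.inv_mul, mul_one]
    exfalso
    obtain ⟨π₀, hirr, hπb⟩ := WfDvdMonoid.exists_irreducible_factor hb (nonZeroDivisors.ne_zero b.2)
    have hne : Ideal.span ({π₀, t} : Set R) ≠ ⊤ := fun htop => by
      have : Ideal.span ({π₀, t} : Set R) ≤ maximalIdeal R := Ideal.span_le.2 (by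
        rintro _ (rfl | rfl)
        · exact fun hu => hirr.not_isUnit hu
        · exact htm)
      exact (maximalIdeal.isMaximal R).ne_top (top_le_iff.1 (htop ▸ this))
    obtain ⟨q, hqmin⟩ := Ideal.nonempty_minimalPrimes hne
    have : q.IsPrime := hqmin.1.1
    have hqm : q ≠ maximalIdeal R := by
      intro hc
      have h1 := Ideal.height_le_card_of_mem_minimalPrimes_span (Set.toFinite _) hqmin
      have h2 : ((({π₀, t} : Set R).ncard : ℕ∞)) ≤ 2 := by
        have := Set.ncard_insert_le π₀ ({t} : Set R)
        rw [Set.ncard_singleton] at this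
        exact_mod_cast this
      have h4 : ringKrullDim R ≤ 2 := by
        rw [← IsLocalRing.maximalIdeal_height_eq_ringKrullDim, ← hc]
        exact WithBot.coe_le_coe.2 (h1.trans h2)
      exact absurd (h3.trans h4) (by decide)
    have hPq : P ≤ q := Ideal.span_le.2 (Set.singleton_subset_iff.2 (hqmin.1.2 (Ideal.subset_span (Or.inr rfl))))
    have hπq : π₀ ∈ q := hqmin.1.2 (Ideal.subset_span (Or.inl rfl))
    obtain ⟨lq, hlqH, hlqx⟩ := hqH q hqm hPq
    obtain ⟨ρ', hρ'⟩ := chart_eq_of_lift _ lq hH hlqH xR hlqx ρ hρ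
    obtain ⟨⟨a', d⟩, hd⟩ := IsLocalization.surj q.primeCompl (ρ' h)
    have h5 : ρ h * algebraMap R K d = algebraMap R K a' := by
      have h6 := congrArg (IsLocalization.lift (M := q.primeCompl) (g := algebraMap R K) (S := Localization.AtPrime q)
        fun r => isUnit_iff_ne_zero.2 (IsFractionRing.to_map_ne_zero_of_mem_nonZeroDivisors
          (q.primeCompl_le_nonZeroDivisors r.2))) hd
      rw [map_mul, IsLocalization.lift_eq, IsLocalization.lift_eq] at h6
      rw [hρ']
      exact h6
    have h7 : ρ h * algebraMap R K (b : R) = algebraMap R K a := by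
      rw [← hc, IsLocalization.mk'_spec]
    have h8 : a * d = a' * b := IsFractionRing.injective R K (by rw [map_mul, map_mul, ← h5, ← h7]; ring)
    have hdvd : (b : R) ∣ d := hab.symm.dvd_of_dvd_mul_left ⟨a', by rw [h8, mul_comm]⟩
    exact d.2 (q.mem_of_dvd (hπb.trans hdvd) hπq)
  refine ⟨l ≫ pullback.fst pA s, ?_, ?_⟩
  · rw [Category.assoc, pullback.condition, ← Category.assoc, hl, Category.id_comp]
  · rw [← Category.assoc, hlx, genSec_fst]

theorem ringKrullDim_atPrime_add_one_le (R : Type u) [CommRing R] [IsLocalRing R] [IsNoetherianRing R]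
    (p : Ideal R) [p.IsPrime] (hp : p ≠ maximalIdeal R) :
    ringKrullDim (Localization.AtPrime p) + 1 ≤ ringKrullDim R := by
  rw [IsLocalization.AtPrime.ringKrullDim_eq_height p, ← IsLocalRing.maximalIdeal_height_eq_ringKrullDim]
  have h1 : p < maximalIdeal R := lt_of_le_of_ne (IsLocalRing.le_maximalIdeal (Ideal.IsPrime.ne_top inferInstance)) hp
  exact_mod_cast Order.add_one_le_of_lt (Ideal.height_strict_mono_of_isPrime h1)

/-- Points of proper schemes without rational curves extend over regular local rings. -/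
theorem extPt_of_regular (hA : NoRat pA) (n : ℕ) : ∀ (R : Type u) [CommRing R] [IsDomain R] [IsRegularLocalRing R],
    ringKrullDim R ≤ n → ExtPt pA R := by
  induction n using Nat.strong_induction_on with
  | _ n ih =>
  intro R _ _ _ hn
  obtain ⟨d, hd⟩ : ∃ d : ℕ, ringKrullDim R = d := ⟨_, (IsRegularLocalRing.spanFinrank_maximalIdeal (R := R)).symm⟩
  by_cases h1 : d ≤ 1
  · exact extPt_of_dim_le_one pA R (by rw [hd]; exact_mod_cast h1)
  have hdn : d ≤ n := by rw [hd] at hn; exact_mod_cast hn
  have hloc : ∀ (p : Ideal R) [p.IsPrime], p ≠ maximalIdeal R → ExtPt pA (Localization.AtPrime p) := by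
    intro p _ hp
    have := CAlg1.regular_localization R p
    refine ih (d - 1) (by omega) _ ?_
    have h2 := ringKrullDim_atPrime_add_one_le R p hp
    obtain ⟨e, he⟩ : ∃ e : ℕ, ringKrullDim (Localization.AtPrime p) = e :=
      ⟨_, (IsRegularLocalRing.spanFinrank_maximalIdeal (R := Localization.AtPrime p)).symm⟩
    rw [he, hd] at h2
    have h3 : e + 1 ≤ d := by exact_mod_cast h2
    rw [he]
    exact_mod_cast (show e ≤ d - 1 by omega)
  by_cases h2 : d = 2
  · refine extPt_of_fractionRing pA R fun s xK hx => ?_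
    have : UniqueFactorizationMonoid R := RegUFD52.ufm_of_regular R
    have hsf : (maximalIdeal R).spanFinrank = 2 := by
      have := IsRegularLocalRing.spanFinrank_maximalIdeal (R := R)
      rw [hd, h2] at this
      exact_mod_cast this
    have hnf : ¬ IsField R := fun hf => by
      have h4 := ringKrullDim_eq_zero_of_isField hf
      rw [hd, h2] at h4
      exact absurd h4 (by decide)
    obtain ⟨F, hFc, hF⟩ := Submodule.FG.exists_span_finset_card_eq_spanFinrank
      (IsNoetherian.noetherian (maximalIdeal R))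
    classical
    obtain ⟨u, v, -, huv⟩ := Finset.card_eq_two.1 (hFc.trans hsf)
    have hm : ∃ u v, maximalIdeal R = Ideal.span {u, v} := ⟨u, v, by
      rw [← hF, huv, Finset.coe_pair]⟩
    refine exists_lift_dim_two pA (CommRingCat.of R) s xK hx hA hm hnf fun p hp => ?_
    have hpm : p.asIdeal ≠ maximalIdeal R := fun h => hp (PrimeSpectrum.ext h)
    let gen := IsLocalization.lift (M := p.asIdeal.primeCompl) (g := algebraMap R (FractionRing R))
      (S := Localization.AtPrime p.asIdeal) fun t => isUnit_iff_ne_zero.2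
        (IsFractionRing.to_map_ne_zero_of_mem_nonZeroDivisors (p.asIdeal.primeCompl_le_nonZeroDivisors t.2))
    let := gen.toAlgebra
    have : IsScalarTower R (Localization.AtPrime p.asIdeal) (FractionRing R) :=
      IsScalarTower.of_algebraMap_eq' (IsLocalization.lift_comp _).symm
    have : IsFractionRing (Localization.AtPrime p.asIdeal) (FractionRing R) :=
      IsFractionRing.isFractionRing_of_isDomain_of_isLocalization p.asIdeal.primeCompl _ _
    exact hloc p.asIdeal hpm (FractionRing R) (Spec.map (CommRingCat.ofHom (algebraMap R _)) ≫ s) xK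
      (by rw [hx, ← fracLoc_comp R p.asIdeal, Category.assoc]; try rfl)
  refine extPt_step pA R (by rw [hd]; exact_mod_cast (show 3 ≤ d by omega)) hloc fun t ht ht2 => ?_
  obtain ⟨hreg, hdim⟩ := CAlg1.regular_quotient_singleton ht ht2
  have := hreg
  have : IsDomain (R ⧸ Ideal.span ({t} : Set R)) := CAlg1.isDomain_regular _
  obtain ⟨e, he⟩ : ∃ e : ℕ, ringKrullDim (R ⧸ Ideal.span ({t} : Set R)) = e :=
    ⟨_, (IsRegularLocalRing.spanFinrank_maximalIdeal (R := R ⧸ Ideal.span ({t} : Set R))).symm⟩
  refine ih (d - 1) (by omega) _ ?_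
  rw [he, hd] at hdim
  have h3 : e + 1 = d := by exact_mod_cast hdim
  rw [he]
  exact_mod_cast (show e ≤ d - 1 by omega)

end Groth.Agent.NeronHD28
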