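import Groth.Prelude
import Groth.Agent.NeronHD28.SmoothReg
import Groth.Agent.Sep12.Basic
import Groth.Agent.Cohen12.GeomRegular
import Groth.Agent.Cohen12.CohenFS
import Groth.Agent.CAlg1.Regular

/-! Local rings of smooth schemes at codimension one points of the closed fibre. -/

set_option autoImplicit false
set_option linter.style.haveILetI false
universe u

open CategoryTheory AlgebraicGeometry IsLocalRing TensorProduct

namespace Groth.Agent.NeronHD28

theorem formallySmooth_toStalk {R : CommRingCat.{u}} {X : Scheme.{u}} (q : X ⟶ Spec R) [Smooth q] (x : X)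
    (φ : R ⟶ X.presheaf.stalk x) (hφ : Spec.map φ = X.fromSpecStalk x ≫ q) : φ.hom.FormallySmooth := by
  let e : R ⟶ (Spec R).presheaf.stalk (q x) :=
    (Scheme.ΓSpecIso R).inv ≫ (Spec R).presheaf.germ ⊤ (q x) trivial
  have h1 : φ = e ≫ q.stalkMap x := by
    apply Spec.map_injective
    rw [Spec.map_comp, hφ, ← Scheme.SpecMap_stalkMap_fromSpecStalk]
    congr 1
    rw [Spec.map_comp, ← Scheme.fromSpecStalk_toSpecΓ, ← AlgebraicGeometry.SpecMap_ΓSpecIso_hom, Category.assoc,
      ← Spec.map_comp, Iso.inv_hom_id, Spec.map_id, Category.comp_id]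
  have h2 : e.hom.FormallySmooth := by
    letI := e.hom.toAlgebra
    haveI : (q x).asIdeal.IsPrime := (q x).isPrime
    haveI : IsLocalization.AtPrime ((Spec R).presheaf.stalk (q x)) (q x).asIdeal :=
      StructureSheaf.IsLocalization.to_stalk R (q x)
    exact Algebra.FormallySmooth.of_isLocalization (q x).asIdeal.primeCompl
  rw [h1]
  exact h2.comp (Scheme.Hom.mem_smoothLocus.1 (by rw [q.smoothLocus_eq_top]; trivial))

/-- A local algebra, formally smooth over a discrete valuation ring, of dimension at most one. -/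
theorem map_maximalIdeal_of_formallySmooth {R O : Type u} [CommRing R] [IsDomain R] [IsDiscreteValuationRing R]
    [CommRing O] [IsDomain O] [IsNoetherianRing O] [IsLocalRing O] [Algebra R O] [IsLocalHom (algebraMap R O)]
    [Algebra.FormallySmooth R O] (hinj : Function.Injective (algebraMap R O)) (hd : ringKrullDim O ≤ 1) :
    (maximalIdeal R).map (algebraMap R O) = maximalIdeal O ∧
      Algebra.IsGeometricallyReduced (ResidueField R) (ResidueField O) := by
  let k := ResidueField R
  let I := (maximalIdeal R).map (algebraMap R O)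
  have hI : I ≤ maximalIdeal O := map_maximalIdeal_le _
  let B := k ⊗[R] O
  let e : B ≃ₐ[R] O ⧸ I :=
    ((Algebra.TensorProduct.comm R k O).trans
      ((Algebra.TensorProduct.quotIdealMapEquivTensorQuot O (maximalIdeal R)).symm.restrictScalars R))
  haveI : Nontrivial (O ⧸ I) := Ideal.Quotient.nontrivial_iff.2 fun h =>
    (maximalIdeal.isMaximal O).ne_top (top_le_iff.1 (h ▸ hI))
  haveI : IsLocalRing (O ⧸ I) := IsLocalRing.of_surjective' (Ideal.Quotient.mk I) Ideal.Quotient.mk_surjective
  haveI : IsLocalRing B := e.symm.toRingEquiv.isLocalRing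
  haveI : IsNoetherianRing B := isNoetherianRing_of_ringEquiv _ e.symm.toRingEquiv
  haveI : Algebra.FormallySmooth k B := inferInstance
  have hreg := (Cohen12.regular_of_formallySmooth_field
    (Cohen12.isAdicFormallySmooth_of_formallySmooth (k := k) (B := B) (maximalIdeal B))).1
  haveI : IsDomain B := CAlg1.isDomain_regular B
  haveI : IsDomain (O ⧸ I) := e.toRingEquiv.symm.toMulEquiv.isDomain B
  haveI hIp : I.IsPrime := (Ideal.Quotient.isDomain_iff_prime I).1 inferInstance
  have hI0 : I ≠ ⊥ := by
    obtain ⟨ϖ, hϖ⟩ := IsDiscreteValuationRing.exists_irreducible R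
    intro h
    exact hϖ.ne_zero (hinj (by
      rw [map_zero, ← Ideal.mem_bot, ← h]
      exact Ideal.mem_map_of_mem _ (hϖ.maximalIdeal_eq ▸ Ideal.mem_span_singleton_self _)))
  haveI : Ring.KrullDimLE 1 O := Ring.krullDimLE_iff.2 hd
  have hImax : I = maximalIdeal O :=
    eq_maximalIdeal (Ring.krullDimLE_one_iff_of_noZeroDivisors.1 ‹_› _ hI0 hIp)
  refine ⟨hImax, ?_⟩
  haveI : I.IsMaximal := hImax ▸ maximalIdeal.isMaximal O
  have hBf : IsField B := MulEquiv.isField ((Ideal.Quotient.maximal_ideal_iff_isField_quotient I).1 ‹_›)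
    e.toRingEquiv.toMulEquiv
  letI := hBf.toField
  haveI : Algebra.IsGeometricallyReduced k B := Sep12.formallySmooth_iff_isGeometricallyReduced.mp inferInstance
  let u : (O ⧸ I) ≃+* ResidueField O := Ideal.quotEquivOfEq hImax
  let h : B ≃+* ResidueField O := e.toRingEquiv.trans u
  let a : ResidueField O →ₐ[k] B := { h.symm.toRingHom with
    commutes' := fun c => by
      show h.symm (algebraMap k (ResidueField O) c) = algebraMap k B c
      rw [RingEquiv.symm_apply_eq]
      obtain ⟨c, rfl⟩ := residue_surjective c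
      have : algebraMap k B (residue R c) = algebraMap R B c := (IsScalarTower.algebraMap_apply R k B c).symm
      rw [this]
      show _ = u (e (algebraMap R B c))
      rw [AlgEquiv.commutes]
      rfl }
  exact Algebra.IsGeometricallyReduced.of_injective a h.symm.injective

end Groth.Agent.NeronHD28
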