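import Groth.Agent.NeronHD28.PointsNMP
import Groth.Agent.NeronHD28.DvrSHExt
import Groth.Agent.NeronHD28.SpecialCodimOne
import Groth.Agent.An92.Rat.SchDenseOps
import Groth.Agent.FlatMor67.GenericFibre
import Groth.Agent.SGA3a.SchemDense

/-! The mapping property from the extension of points over extensions of ramification index one. -/

set_option autoImplicit false
set_option linter.style.haveILetI false
universe u

open CategoryTheory CategoryTheory.Limits AlgebraicGeometry IsLocalRing

namespace Groth.Agent.NeronHD28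

variable {R : Type u} [CommRing R] [IsDomain R] [IsDiscreteValuationRing R]

/-- Descent along a faithfully flat extension of an extension of a generic point. -/
theorem exists_lift_descend {X : Scheme.{u}} (pX : X ⟶ Spec (CommRingCat.of R)) [IsSeparated pX]
    {O C : Type u} [CommRing O] [IsDomain O] [IsDiscreteValuationRing O]
    [CommRing C] [IsDomain C] [IsDiscreteValuationRing C] [Algebra R C] [IsLocalHom (algebraMap R C)]
    (α : R →+* O) (ι : O →+* C) [IsLocalHom ι] (hια : ι.comp α = algebraMap R C) (hι : ι.Flat)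
    (hRC : Function.Injective (algebraMap R C)) (hinj : Function.Injective ι)
    (a : Spec (CommRingCat.of (FractionRing O)) ⟶ X)
    (y : Spec (CommRingCat.of C) ⟶ X) (hy : y ≫ pX = Spec.map (CommRingCat.ofHom (algebraMap R C)))
    (hy' : Neron.genPt C ≫ y = Spec.map (CommRingCat.ofHom (IsFractionRing.map (K := FractionRing O)
      (L := FractionRing C) hinj)) ≫ a) :
    ∃ l : Spec (CommRingCat.of O) ⟶ X, l ≫ pX = Spec.map (CommRingCat.ofHom α) ∧
      Neron.genPt O ≫ l = a := by
  let p : Spec (CommRingCat.of C) ⟶ Spec (CommRingCat.of O) := Spec.map (CommRingCat.ofHom ι)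
  let r : Spec (CommRingCat.of C) ⟶ Spec (CommRingCat.of R) := Spec.map (CommRingCat.ofHom (algebraMap R C))
  let j : Spec (CommRingCat.of (FractionRing C)) ⟶ Spec (CommRingCat.of (FractionRing O)) :=
    Spec.map (CommRingCat.ofHom (IsFractionRing.map (K := FractionRing O) (L := FractionRing C) hinj))
  have hjp : Neron.genPt C ≫ p = j ≫ Neron.genPt O := by
    simp only [p, j, Neron.genPt, ← Spec.map_comp]
    congr 1
    ext c
    exact (IsLocalization.map_eq (S := FractionRing O) (Q := FractionRing C)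
      (nonZeroDivisors_le_comap_nonZeroDivisors_of_injective _ hinj) c).symm
  haveI : Flat p := (HasRingHomProperty.Spec_iff (P := @Flat)).2 hι
  haveI : Surjective p := ⟨by
    letI := ι.toAlgebra
    haveI : Module.Flat O C := hι
    haveI : IsLocalHom (algebraMap O C) := ‹IsLocalHom ι›
    haveI : Module.FaithfullyFlat O C := Module.FaithfullyFlat.of_flat_of_isLocalHom
    exact PrimeSpectrum.comap_surjective_of_faithfullyFlat⟩
  haveI : EffectiveEpi p := inferInstance
  have hrC : (algebraMap R C).Flat := by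
    haveI : FaithfulSMul R C := (faithfulSMul_iff_algebraMap_injective R C).2 hRC
    rw [RingHom.flat_algebraMap_iff]
    infer_instance
  haveI : Flat r := (HasRingHomProperty.Spec_iff (P := @Flat)).2 hrC
  haveI : IsOpenImmersion (Neron.genPt C) := isOpenImmersion_genPt
  haveI : IsOpenImmersion (Neron.genPt O) := isOpenImmersion_genPt
  let U₀ : (Spec (CommRingCat.of R)).Opens := genOpen (𝟙 _)
  have hU₀ : CInt.IsSchematicallyDense U₀ := An92.Rat.schDense_of_dense (dense_genOpen (𝟙 _))
  have hdd : ∀ {W : Scheme.{u}} (g₁ g₂ : W ⟶ Spec (CommRingCat.of C)), g₁ ≫ p = g₂ ≫ p → g₁ ≫ y = g₂ ≫ y := by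
    intro W g₁ g₂ hg
    suffices hu : pullback.fst p p ≫ y = pullback.snd p p ≫ y by
      rw [← pullback.lift_fst g₁ g₂ hg, Category.assoc, hu, pullback.lift_snd_assoc]
    haveI : Flat (pullback.fst p p) := inferInstance
    let c := pullback.fst p p ≫ r
    haveI : Flat c := inferInstance
    have hpr : ∀ {T : Scheme.{u}} (g : T ⟶ Spec (CommRingCat.of C)), g ≫ r = g ≫ p ≫ Spec.map (CommRingCat.ofHom α) :=
      fun g => by
        simp only [r, p, ← Spec.map_comp, ← CommRingCat.ofHom_comp, hια]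
    have hcs : c = pullback.snd p p ≫ r := by
      simp only [c, hpr, pullback.condition_assoc]
    refine SGA3a.eq_of_eqOn_schemDense pX (c ⁻¹ᵁ U₀)
      (An92.Rat.schDense_preimage_of_flat c hU₀) _ _ ?_ ?_
    · rw [Category.assoc, Category.assoc, hy]
      exact hcs
    · have hf : ∀ q : pullback p p ⟶ Spec (CommRingCat.of C), q ≫ r = c →
          ∃ b : ((c ⁻¹ᵁ U₀ : _) : Scheme.{u}) ⟶ Spec (CommRingCat.of (FractionRing C)),
            b ≫ Neron.genPt C = (c ⁻¹ᵁ U₀).ι ≫ q := by
        intro q hq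
        refine ⟨IsOpenImmersion.lift (Neron.genPt C) ((c ⁻¹ᵁ U₀).ι ≫ q) ?_, IsOpenImmersion.lift_fac _ _ _⟩
        rintro _ ⟨t, rfl⟩
        refine mem_range_genPt _ fun h => ?_
        have ht : c ((c ⁻¹ᵁ U₀).ι t) ≠ closedPoint R := t.2
        apply ht
        refine (congr($hq ((c ⁻¹ᵁ U₀).ι t))).symm.trans ?_
        show r (q ((c ⁻¹ᵁ U₀).ι t)) = _
        rw [show q ((c ⁻¹ᵁ U₀).ι t) = closedPoint C from h]
        exact IsLocalRing.comap_closedPoint (algebraMap R C)
      obtain ⟨b₁, hb₁⟩ := hf (pullback.fst p p) rfl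
      obtain ⟨b₂, hb₂⟩ := hf (pullback.snd p p) hcs.symm
      have hb : b₁ ≫ j = b₂ ≫ j := by
        rw [← cancel_mono (Neron.genPt O), Category.assoc, Category.assoc, ← hjp, reassoc_of% hb₁,
          reassoc_of% hb₂, pullback.condition]
      rw [← reassoc_of% hb₁, ← reassoc_of% hb₂, hy']
      exact (reassoc_of% hb) a
  refine ⟨EffectiveEpi.desc p y hdd, ?_, ?_⟩
  · rw [← cancel_epi p, EffectiveEpi.fac_assoc, hy]
    simp only [p, ← Spec.map_comp, ← CommRingCat.ofHom_comp, hια]
  · haveI : Flat j := (HasRingHomProperty.Spec_iff (P := @Flat)).2 (by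
      algebraize [IsFractionRing.map (K := FractionRing O) (L := FractionRing C) hinj]
      rw [RingHom.Flat]
      infer_instance)
    haveI : Surjective j := ⟨fun t => ⟨(default : PrimeSpectrum (FractionRing C)), Subsingleton.elim (α := PrimeSpectrum (FractionRing O)) _ _⟩⟩
    haveI := Flat.epi_of_flat_of_surjective j
    rw [← cancel_epi j, ← Category.assoc, ← hjp, Category.assoc, EffectiveEpi.fac, hy']

set_option maxHeartbeats 1000000 in
/-- Extension at a point of codimension one of the closed fibre. -/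
theorem exists_lift_at_codim_one {X G : Scheme.{u}} (pX : X ⟶ Spec (CommRingCat.of R)) [Smooth pX]
    (pG : G ⟶ Spec (CommRingCat.of R)) [IsSeparated pG]
    (hpts : ∀ (R' : Type u) [CommRing R'] [IsDomain R'] [IsDiscreteValuationRing R'] [Algebra R R']
        [IsLocalHom (algebraMap R R')] [HenselianLocalRing R'] [IsSepClosed (IsLocalRing.ResidueField R')],
      (maximalIdeal R).map (algebraMap R R') = maximalIdeal R' →
      Algebra.IsGeometricallyReduced (ResidueField R) (ResidueField R') →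
      ∀ x : Spec (CommRingCat.of (FractionRing R')) ⟶ G,
        x ≫ pG = Spec.map (CommRingCat.ofHom ((algebraMap R' (FractionRing R')).comp (algebraMap R R'))) →
        ∃ y : Spec (CommRingCat.of R') ⟶ G, y ≫ pG = Spec.map (CommRingCat.ofHom (algebraMap R R')) ∧
          Spec.map (CommRingCat.ofHom (algebraMap R' (FractionRing R'))) ≫ y = x)
    (U : X.Opens) (f : (U : Scheme.{u}) ⟶ G) (hf : f ≫ pG = U.ι ≫ pX) (ξ : X) [IsDomain (X.presheaf.stalk ξ)]
    (hξc : pX ξ = closedPoint R) (hξ : ringKrullDim (X.presheaf.stalk ξ) ≤ 1)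
    (k : Spec (CommRingCat.of (FractionRing (X.presheaf.stalk ξ))) ⟶ (U : Scheme.{u}))
    (hk : k ≫ U.ι = fracPt (X.presheaf.stalk ξ) ≫ X.fromSpecStalk ξ) :
    ∃ l : Spec (X.presheaf.stalk ξ) ⟶ G, l ≫ pG = X.fromSpecStalk ξ ≫ pX ∧
      fracPt (X.presheaf.stalk ξ) ≫ l = k ≫ f := by
  have := isLocallyNoetherian_of_smooth pX
  haveI := regular_stalk_of_smooth pX ξ
  obtain ⟨φ, hφ⟩ := Spec.map_surjective (X.fromSpecStalk ξ ≫ pX)
  letI : Algebra R (X.presheaf.stalk ξ) := φ.hom.toAlgebra
  haveI : Algebra.FormallySmooth R (X.presheaf.stalk ξ) := formallySmooth_toStalk pX ξ φ hφ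
  have hcp : (Spec.map φ) (closedPoint (X.presheaf.stalk ξ)) = closedPoint R := by
    rw [hφ]
    show pX (X.fromSpecStalk ξ (closedPoint (X.presheaf.stalk ξ))) = _
    rw [Scheme.fromSpecStalk_closedPoint, hξc]
  haveI : IsLocalHom (algebraMap R (X.presheaf.stalk ξ)) :=
    ((IsLocalRing.local_hom_TFAE φ.hom).out 0 4).2 (congrArg PrimeSpectrum.asIdeal hcp)
  have hinjR : Function.Injective (algebraMap R (X.presheaf.stalk ξ)) := by
    haveI : Flat (Spec.map φ) := by
      rw [hφ]
      haveI := FlatMor67.flat_fromSpecStalk ξ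
      infer_instance
    have hfl : φ.hom.Flat := (HasRingHomProperty.Spec_iff (P := @Flat)).1 ‹Flat (Spec.map φ)›
    haveI : Module.Flat R (X.presheaf.stalk ξ) := hfl
    haveI : Module.FaithfullyFlat R (X.presheaf.stalk ξ) := Module.FaithfullyFlat.of_flat_of_isLocalHom
    exact FaithfulSMul.algebraMap_injective R _
  obtain ⟨hm, hgr⟩ := map_maximalIdeal_of_formallySmooth hinjR hξ
  haveI := hgr
  haveI : IsDiscreteValuationRing (X.presheaf.stalk ξ) := by
    have hnf : ¬ IsField (X.presheaf.stalk ξ) := fun hF => by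
      obtain ⟨ϖ, hϖ⟩ := IsDiscreteValuationRing.exists_irreducible R
      letI := hF.toField
      have h0 : algebraMap R (X.presheaf.stalk ξ) ϖ ∈ maximalIdeal (X.presheaf.stalk ξ) :=
        hm ▸ Ideal.mem_map_of_mem _ (hϖ.maximalIdeal_eq ▸ Ideal.mem_span_singleton_self _)
      rw [(IsLocalRing.isField_iff_maximalIdeal_eq).1 hF, Ideal.mem_bot] at h0
      exact hϖ.ne_zero (hinjR (h0.trans (map_zero _).symm))
    obtain ⟨ϖ, hϖ⟩ := IsDiscreteValuationRing.exists_irreducible R
    refine ((IsDiscreteValuationRing.TFAE _ hnf).out 0 4).mpr ?_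
    exact ⟨⟨algebraMap R _ ϖ, by rw [← hm, hϖ.maximalIdeal_eq, Ideal.map_span, Set.image_singleton]⟩⟩
  obtain ⟨C, _, _, _, _, _, _, _, ι, _, hinj, hια, hflat, hmC, hgrC⟩ :=
    exists_henselian_sepClosed_extension R (X.presheaf.stalk ξ) hm
  let j : Spec (CommRingCat.of (FractionRing C)) ⟶ Spec (CommRingCat.of (FractionRing (X.presheaf.stalk ξ))) :=
    Spec.map (CommRingCat.ofHom (IsFractionRing.map (K := FractionRing (X.presheaf.stalk ξ))
      (L := FractionRing C) hinj))
  obtain ⟨y, hy, hy'⟩ := hpts C hmC hgrC (j ≫ k ≫ f) (by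
    simp only [Category.assoc, hf]
    rw [reassoc_of% hk, ← hφ]
    simp only [j, fracPt, ← Spec.map_comp]
    congr 1
    ext c
    show IsFractionRing.map hinj (algebraMap _ _ (φ.hom c)) = algebraMap C _ (algebraMap R C c)
    rw [← hια]
    exact IsLocalization.map_eq _ _)
  obtain ⟨l, hl, hl'⟩ := exists_lift_descend pG φ.hom ι hια hflat
    (by rw [← hια]; exact hinj.comp hinjR) hinj (k ≫ f) y hy hy'
  exact ⟨l, hl.trans hφ, hl'⟩

/-- The mapping property from the extension of points over strictly henselian extensions. -/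
theorem exists_extension_of_shPoints (Y G : Over (Spec (CommRingCat.of R))) [Smooth Y.hom] [GrpObj G]
    [IsSeparated G.hom] [LocallyOfFiniteType G.hom]
    (hpts : ∀ (R' : Type u) [CommRing R'] [IsDomain R'] [IsDiscreteValuationRing R'] [Algebra R R']
        [IsLocalHom (algebraMap R R')] [HenselianLocalRing R'] [IsSepClosed (IsLocalRing.ResidueField R')],
      (maximalIdeal R).map (algebraMap R R') = maximalIdeal R' →
      Algebra.IsGeometricallyReduced (ResidueField R) (ResidueField R') →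
      ∀ x : Spec (CommRingCat.of (FractionRing R')) ⟶ G.left,
        x ≫ G.hom = Spec.map (CommRingCat.ofHom ((algebraMap R' (FractionRing R')).comp (algebraMap R R'))) →
        ∃ y : Spec (CommRingCat.of R') ⟶ G.left, y ≫ G.hom = Spec.map (CommRingCat.ofHom (algebraMap R R')) ∧
          Spec.map (CommRingCat.ofHom (algebraMap R' (FractionRing R'))) ≫ y = x)
    (w : (Neron.genericFibre R).obj Y ⟶ (Neron.genericFibre R).obj G) :
    ∃ g : Y ⟶ G, (Neron.genericFibre R).map g = w := by
  haveI : GrpObj (Over.mk G.hom) := ‹GrpObj G›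
  haveI := isOpenImmersion_genPt (R := R)
  have hYred := isReduced_of_smooth Y.hom
  have := isLocallyNoetherian_of_smooth Y.hom
  let w' : pullback Y.hom (Neron.genPt R) ⟶ G.left := w.left ≫ pullback.fst G.hom (Neron.genPt R)
  have hw' : w' ≫ G.hom = pullback.fst Y.hom (Neron.genPt R) ≫ Y.hom := by
    rw [Category.assoc, pullback.condition, pullback.condition]
    exact (reassoc_of% (Over.w w)) (Neron.genPt R)
  let U := genOpen Y.hom
  have hrU : Set.range U.ι ⊆ Set.range (pullback.fst Y.hom (Neron.genPt R)) := by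
    rw [Scheme.Opens.range_ι, Scheme.Pullback.range_fst]
    exact fun y hy => mem_range_genPt _ hy
  let i := IsOpenImmersion.lift (pullback.fst Y.hom (Neron.genPt R)) U.ι hrU
  have hi : i ≫ pullback.fst _ _ = U.ι := IsOpenImmersion.lift_fac _ _ _
  let f : (U : Scheme.{u}) ⟶ G.left := i ≫ w'
  have hf : f ≫ G.hom = U.ι ≫ Y.hom := by rw [Category.assoc, hw', reassoc_of% hi]
  let P : Set Y.left := {ξ | Y.hom ξ = closedPoint R ∧ ringKrullDim (Y.left.presheaf.stalk ξ) ≤ 1}
  obtain ⟨V, hUV, g₀, hg₀, hgU, hP⟩ := EGA73.exists_extension G.hom Y.hom U (dense_genOpen Y.hom) f hf P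
    fun ξ hξ => by
      have := isDomain_stalk_of_smooth Y.hom ξ
      have := regular_stalk_of_smooth Y.hom ξ
      refine exists_local_extension' G.hom Y.hom U (dense_genOpen Y.hom) f hf ξ fun k hk => ?_
      exact exists_lift_at_codim_one Y.hom G.hom hpts U f hf ξ hξ.1 hξ.2 k hk
  have hcodim : ∀ x : Y.left, x ∉ V → (2 : WithBot ℕ∞) ≤ ringKrullDim (Y.left.presheaf.stalk x) := by
    intro x hx
    have hxc : Y.hom x = closedPoint R := by
      by_contra h
      exact hx (hUV h)
    obtain ⟨n, hn⟩ : ∃ n : ℕ, ringKrullDim (Y.left.presheaf.stalk x) = n :=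
      ⟨_, (IsRegularLocalRing.iff_finrank_cotangentSpace _).1 (regular_stalk_of_smooth Y.hom x) |>.symm⟩
    have h1 : ¬ (n : WithBot ℕ∞) ≤ 1 := fun h => hx (hP x ⟨hxc, hn ▸ h⟩)
    rw [hn]
    have h2 : 2 ≤ n := by
      by_contra hc
      exact h1 (by exact_mod_cast (by omega : n ≤ 1))
    exact_mod_cast h2
  obtain ⟨g, ⟨hg, hgV⟩, -⟩ := weil_extension Y.hom G.hom V (fibre_dense_of_dim_le_one Y.hom V hcodim) hcodim g₀ hg₀
  refine ⟨Over.homMk g hg, ?_⟩
  ext : 1
  refine (cancel_mono (pullback.fst G.hom (Neron.genPt R))).1 ?_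
  refine (genericFibre_map_left_fst _).trans ?_
  show pullback.fst Y.hom (Neron.genPt R) ≫ g = w'
  have hr' : Set.range (pullback.fst Y.hom (Neron.genPt R)) ⊆ Set.range U.ι := by
    rw [Scheme.Opens.range_ι, Scheme.Pullback.range_fst]
    rintro y ⟨t, ht⟩
    show Y.hom y ≠ closedPoint R
    exact ht ▸ genPt_ne_closedPoint t
  let e' := IsOpenImmersion.lift U.ι (pullback.fst Y.hom (Neron.genPt R)) hr'
  have he' : e' ≫ U.ι = pullback.fst _ _ := IsOpenImmersion.lift_fac _ _ _
  have hei : e' ≫ i = 𝟙 _ := by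
    rw [← cancel_mono (pullback.fst Y.hom (Neron.genPt R)), Category.assoc, hi, he', Category.id_comp]
  calc pullback.fst Y.hom (Neron.genPt R) ≫ g = e' ≫ U.ι ≫ g := ((reassoc_of% he') g).symm
    _ = e' ≫ f := by rw [← Scheme.homOfLE_ι _ hUV, Category.assoc, hgV, hgU]
    _ = w' := by rw [reassoc_of% hei]

end Groth.Agent.NeronHD28
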