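import Groth.Agent.FlatMor68.FibreStalk
import Groth.Agent.Ega11.RegLocal
import Groth.Agent.VarGal.SmoothGeomReg
import Groth.Agent.NeronHD28.SmoothReg
import Groth.Agent.S2156
import Mathlib.AlgebraicGeometry.Morphisms.Flat

/-! Sections through regular points lie in the smooth locus. -/

set_option autoImplicit false
universe u

open CategoryTheory CategoryTheory.Limits AlgebraicGeometry IsLocalRing

namespace Groth.Agent.NeronHD28

/-- A parameter of a regular ring below a retraction is still a parameter. -/
theorem regular_quotient_map_of_retraction {A B C : Type u} [CommRing A] [IsLocalRing A]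
    [IsNoetherianRing A] (hP : (maximalIdeal A).IsPrincipal) [CommRing B] [IsRegularLocalRing B] [CommRing C]
    [IsLocalRing C] (φ : A →+* B) [IsLocalHom φ] (σ : B →+* C) [IsLocalHom σ]
    (h : Function.Bijective (σ.comp φ)) :
    IsRegularLocalRing (B ⧸ (maximalIdeal A).map φ) := by
  obtain ⟨π, hπ⟩ := hP.principal
  change maximalIdeal A = Ideal.span {π} at hπ
  rcases eq_or_ne (maximalIdeal A) ⊥ with hbot | hbot
  · rw [hbot, Ideal.map_bot]
    exact IsRegularLocalRing.of_ringEquiv (RingEquiv.quotientBot B).symm
  · have hπm : π ∈ maximalIdeal A := hπ ▸ Ideal.mem_span_singleton_self π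
    have hφm : φ π ∈ maximalIdeal B := map_nonunit φ π hπm
    have hφ2 : φ π ∉ maximalIdeal B ^ 2 := by
      intro hc
      let e := RingEquiv.ofBijective _ h
      have h1 : e π ∈ maximalIdeal C ^ 2 := by
        have := Ideal.mem_map_of_mem σ hc
        rw [Ideal.map_pow] at this
        refine Ideal.pow_right_mono ?_ 2 this
        exact (Ideal.map_le_iff_le_comap.2 fun a ha => Ideal.mem_comap.2 (map_nonunit σ a ha))
      have h2 : π ∈ maximalIdeal A ^ 2 := by
        have h3 := Ideal.mem_map_of_mem (e.symm : C →+* A) h1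
        rw [Ideal.map_pow] at h3
        refine Ideal.pow_right_mono ?_ 2 (by simpa using h3)
        exact Ideal.map_le_iff_le_comap.2 fun a ha hu => ha ((MulEquiv.isUnit_map e.symm).1 hu)
      refine hbot (Submodule.eq_bot_of_le_smul_of_le_jacobson_bot (maximalIdeal A) _
        (IsNoetherian.noetherian _) ?_ (IsLocalRing.maximalIdeal_le_jacobson _))
      intro y hy
      rw [hπ, Ideal.mem_span_singleton] at hy
      obtain ⟨r, rfl⟩ := hy
      rw [smul_eq_mul, ← pow_two]
      exact Ideal.mul_mem_right _ _ h2
    rw [hπ, Ideal.map_span, Set.image_singleton]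
    exact (Ega11.RegLocal.regular_quotient hφm hφ2).1

/-- A section of a scheme over a field has residue field `k`. -/
theorem resMap_surjective_of_section {k : Type u} [Field k] {X : Scheme.{u}}
    [X.Over (Spec (CommRingCat.of k))] (x : Spec (CommRingCat.of k) ⟶ X)
    (hx : x ≫ X ↘ Spec (CommRingCat.of k) = 𝟙 _) :
    Function.Surjective (Curv2.resMap k X (x (closedPoint k))) := by
  let f := Scheme.stalkClosedPointTo x
  have hf : CommRingCat.ofHom (Curv2.stalkMap k X (x (closedPoint k))) ≫ f = 𝟙 _ := by
    apply Spec.map_injective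
    rw [Spec.map_comp, VarGal.SpecMap_curvStalkMap, Spec.map_id, ← Category.assoc]
    exact (congrArg (· ≫ _) (Scheme.Spec_stalkClosedPointTo_fromSpecStalk x)).trans hx
  have hloc : IsLocalHom f.hom := inferInstanceAs (IsLocalHom (Scheme.stalkClosedPointTo x).hom)
  intro w
  obtain ⟨a, rfl⟩ := X.residue_surjective _ w
  refine ⟨f.hom a, ?_⟩
  show X.residue _ (Curv2.stalkMap k X _ (f.hom a)) = X.residue _ a
  rw [← sub_eq_zero, ← map_sub]
  refine (IsLocalRing.residue_eq_zero_iff _).2 ((IsLocalRing.mem_maximalIdeal _).2 fun hu => ?_)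
  refine (hu.map f.hom).ne_zero ?_
  rw [map_sub, sub_eq_zero]
  exact congr($hf (f.hom a))

attribute [local instance] Curv2.resAlgebra in
/-- A regular point carrying a section over a field is smooth. -/
theorem mem_smoothLocus_of_regular_section {k : Type u} [Field k] {X : Scheme.{u}}
    (q : X ⟶ Spec (CommRingCat.of k)) (hq : LocallyOfFinitePresentation q)
    (x : Spec (CommRingCat.of k) ⟶ X) (hx : x ≫ q = 𝟙 _) (z : X)
    (hz : x (closedPoint k) = z) (hreg : IsRegularLocalRing (X.presheaf.stalk z)) :
    z ∈ q.smoothLocus := by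
  letI : X.Over (Spec (CommRingCat.of k)) := ⟨q⟩
  haveI : LocallyOfFinitePresentation (X ↘ Spec (CommRingCat.of k)) := hq
  subst hz
  haveI : Algebra.FormallySmooth k (X.residueField (x (closedPoint k))) :=
    Algebra.FormallySmooth.of_equiv (AlgEquiv.ofBijective (Algebra.ofId k _)
      ⟨(Curv2.resMap k X _).injective, resMap_surjective_of_section x hx⟩)
  exact VarGal.mem_smoothLocus_of_regular (k := k) _

/-- A section through a regular point over a locally principal base lies in the smooth locus. -/
theorem section_mem_smoothLocus {X S : Scheme.{u}} (p : X ⟶ S) [LocallyOfFinitePresentation p]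
    (s : S ⟶ X) (hs : s ≫ p = 𝟙 S) (t : S) [IsNoetherianRing (S.presheaf.stalk (p (s t)))]
    (hP : (maximalIdeal (S.presheaf.stalk (p (s t)))).IsPrincipal)
    (hflat : (p.stalkMap (s t)).hom.Flat) (hreg : IsRegularLocalRing (X.presheaf.stalk (s t))) :
    s t ∈ p.smoothLocus := by
  haveI : LocallyOfFinitePresentation (p.fiberToSpecResidueField (p (s t))) :=
    MorphismProperty.pullback_snd _ _ ‹_›
  refine (S2156.result p (s t)).2 ⟨hflat, ?_⟩
  have hbij : Function.Bijective ((s.stalkMap t).hom.comp (p.stalkMap (s t)).hom) := by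
    have : IsIso ((s ≫ p).stalkMap t) := by
      haveI : IsIso (s ≫ p) := by rw [hs]; infer_instance
      infer_instance
    have : IsIso (p.stalkMap (s t) ≫ s.stalkMap t) := Scheme.Hom.stalkMap_comp s p t ▸ this
    exact ConcreteCategory.bijective_of_isIso (p.stalkMap (s t) ≫ s.stalkMap t)
  haveI hf : IsRegularLocalRing ((p.fiber (p (s t))).presheaf.stalk (p.asFiber (s t))) := by
    haveI := hreg
    haveI := regular_quotient_map_of_retraction hP (p.stalkMap (s t)).hom (s.stalkMap t).hom hbij
    exact IsRegularLocalRing.of_ringEquiv (FlatMor68.FibreStalk.fibreStalkEquivAt p (s t))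
  have ht : p (s t) = t := congr($hs t)
  let σ : Spec (S.residueField (p (s t))) ⟶ p.fiber (p (s t)) :=
    pullback.lift (S.fromSpecResidueField _ ≫ s) (𝟙 _)
      (by rw [Category.assoc, hs, Category.comp_id, Category.id_comp])
  refine mem_smoothLocus_of_regular_section (p.fiberToSpecResidueField _) (MorphismProperty.pullback_snd _ _ ‹_›) σ
    (pullback.lift_snd _ _ _) _ ?_ hf
  apply (p.fiberHomeo _).injective
  apply Subtype.ext
  rw [Scheme.Hom.fiberHomeo_apply, Scheme.Hom.fiberHomeo_apply, p.fiberι_asFiber]
  have hσ : σ ≫ p.fiberι (p (s t)) = S.fromSpecResidueField _ ≫ s := pullback.lift_fst _ _ _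
  refine (congr($hσ _)).trans ?_
  exact congrArg s ((Scheme.fromSpecResidueField_apply _ _).trans ht)

end Groth.Agent.NeronHD28
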