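import Groth.Agent.NeronHD28.Ext
import Groth.Agent.Desc59.DDSigma
import Mathlib.AlgebraicGeometry.Morphisms.Smooth

/-! The mapping property for disjoint unions of bases. -/

set_option autoImplicit false
universe u

open CategoryTheory CategoryTheory.Limits AlgebraicGeometry

namespace Groth.Agent.NeronHD28

theorem extProp_of_iso {S : Scheme.{u}} {N N' : Over S} (e : N ≅ N') (U : S.Opens) {Z : Scheme.{u}} (z : Z ⟶ S)
    (h : ExtProp N U z) : ExtProp N' U z := by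
  intro t ht
  have h1 : e.hom.left ≫ N'.hom = N.hom := Over.w e.hom
  have h2 : e.inv.left ≫ N.hom = N'.hom := Over.w e.inv
  have h3 : e.inv.left ≫ e.hom.left = 𝟙 _ := congrArg Over.Hom.left e.inv_hom_id
  have h4 : e.hom.left ≫ e.inv.left = 𝟙 _ := congrArg Over.Hom.left e.hom_inv_id
  obtain ⟨g, ⟨hg, hg'⟩, hu⟩ := h (t ≫ e.inv.left) (by rw [Category.assoc, h2, ht])
  refine ⟨g ≫ e.hom.left, ⟨by rw [Category.assoc, h1, hg], ?_⟩, fun b hb => ?_⟩
  · rw [← Category.assoc, hg', Category.assoc, h3, Category.comp_id]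
  · rw [← hu (b ≫ e.inv.left) ⟨by rw [Category.assoc, h2, hb.1], by rw [← Category.assoc, hb.2]⟩, Category.assoc, h3,
      Category.comp_id]

variable {I : Type u} {B N : I → Scheme.{u}} (f : ∀ i, N i ⟶ B i) (U : (∐ B).Opens)

noncomputable def pieceIso (i : I) :
    (Over.pullback (Sigma.ι B i)).obj (Over.mk (Limits.Sigma.map f)) ≅ Over.mk (f i) :=
  Over.isoMk (Desc59.Sigma'.isPullback_map f i).isoPullback.symm
    (Desc59.Sigma'.isPullback_map f i).isoPullback_inv_snd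

theorem extProp_piece_iff (i : I) {Z : Scheme.{u}} (z : Z ⟶ B i) :
    ExtProp (Over.mk (f i)) (Sigma.ι B i ⁻¹ᵁ U) z ↔
      ExtProp (Over.mk (Limits.Sigma.map f)) U (z ≫ Sigma.ι B i) := by
  rw [← extProp_pullback_iff]
  exact ⟨extProp_of_iso (pieceIso f i).symm _ z, extProp_of_iso (pieceIso f i) _ z⟩

/-- The extension property is checked on the pieces over the summands. -/
theorem extProp_of_pieces (M : Over (∐ B)) {Z : Scheme.{u}} (z : Z ⟶ ∐ B)
    (h : ∀ i, ExtProp M U (pullback.fst z (Sigma.ι B i) ≫ z)) : ExtProp M U z := by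
  intro t ht
  let r := fun i => pullback.fst z (Sigma.ι B i) ∣_ (z ⁻¹ᵁ U)
  have hr : ∀ i, r i ≫ (z ⁻¹ᵁ U).ι = (pullback.fst z (Sigma.ι B i) ⁻¹ᵁ (z ⁻¹ᵁ U)).ι ≫ pullback.fst z (Sigma.ι B i) :=
    fun i => morphismRestrict_ι _ _
  choose g hg hu using fun i => h i (r i ≫ t) ((Category.assoc _ _ _).trans ((congrArg (r i ≫ ·) ht).trans
    (((Category.assoc _ _ _).symm.trans (congrArg (· ≫ z) (hr i))).trans (Category.assoc _ _ _))))
  obtain ⟨g₀, hg₀⟩ := Desc59.Sigma'.exists_glue z g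
  refine ⟨g₀, ⟨?_, ?_⟩, fun b hb => ?_⟩
  · refine Desc59.Sigma'.hom_ext z fun i T' a x' hax => ?_
    rw [← pullback.lift_fst a x' hax, Category.assoc, Category.assoc, ← Category.assoc (pullback.fst _ _) g₀, hg₀,
      (hg i).1]
  · refine Desc59.Sigma'.hom_ext ((z ⁻¹ᵁ U).ι ≫ z) fun i T' a x' hax => ?_
    let b : T' ⟶ pullback z (Sigma.ι B i) := pullback.lift (a ≫ (z ⁻¹ᵁ U).ι) x' (by rw [Category.assoc]; exact hax)
    have hb : b ≫ pullback.fst _ _ = a ≫ (z ⁻¹ᵁ U).ι := pullback.lift_fst _ _ _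
    let c : T' ⟶ (pullback.fst z (Sigma.ι B i) ⁻¹ᵁ (z ⁻¹ᵁ U) : Scheme.Opens _) :=
      IsOpenImmersion.lift (pullback.fst z (Sigma.ι B i) ⁻¹ᵁ (z ⁻¹ᵁ U)).ι b (by
        rintro _ ⟨p, rfl⟩
        rw [Scheme.Opens.range_ι]
        show pullback.fst z (Sigma.ι B i) (b p) ∈ z ⁻¹ᵁ U
        rw [← Scheme.Hom.comp_apply, hb]
        exact (a p).2)
    have hc : c ≫ (pullback.fst z (Sigma.ι B i) ⁻¹ᵁ (z ⁻¹ᵁ U)).ι = b := IsOpenImmersion.lift_fac _ _ _
    have hca : c ≫ r i = a := by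
      rw [← cancel_mono (z ⁻¹ᵁ U).ι, Category.assoc, hr, reassoc_of% hc, hb]
    have h2 : (pullback.fst z (Sigma.ι B i) ⁻¹ᵁ (z ⁻¹ᵁ U)).ι ≫ g i = r i ≫ t := (hg i).2
    rw [← Category.assoc, ← hb, Category.assoc, hg₀, ← hc]
    exact (Category.assoc _ _ _).trans ((congrArg (c ≫ ·) h2).trans ((reassoc_of% hca) t))
  · refine Desc59.Sigma'.hom_ext z fun i T' a x' hax => ?_
    rw [← pullback.lift_fst a x' hax, Category.assoc, Category.assoc, hg₀]
    congr 1
    refine hu i _ ⟨by rw [Category.assoc, hb.1], ?_⟩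
    show (pullback.fst z (Sigma.ι B i) ⁻¹ᵁ (z ⁻¹ᵁ U)).ι ≫ pullback.fst z (Sigma.ι B i) ≫ b = r i ≫ t
    exact (((Category.assoc _ _ _).symm.trans (congrArg (· ≫ b) (hr i).symm)).trans (Category.assoc _ _ _)).trans
      (congrArg (r i ≫ ·) hb.2)

theorem smooth_sigmaMap_iff : Smooth (Limits.Sigma.map f) ↔ ∀ i, Smooth (f i) := by
  constructor
  · intro h i
    exact MorphismProperty.of_isPullback (P := @Smooth) (Desc59.Sigma'.isPullback_map f i) h
  · intro h
    refine IsZariskiLocalAtTarget.of_openCover (P := @Smooth) (sigmaOpenCover B) fun i => ?_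
    show Smooth (pullback.snd (Limits.Sigma.map f) (Sigma.ι B i))
    rw [← (Desc59.Sigma'.isPullback_map f i).isoPullback_inv_snd]
    exact (MorphismProperty.cancel_left_of_respectsIso (P := @Smooth) _ _).2 (h i)

end Groth.Agent.NeronHD28
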