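import Groth.Prelude
import Groth.Agent.AlgGrp79.Unram
import Groth.Agent.CAlg5.SmoothReduced
import Groth.Agent.FDesc60.Topo2
import Groth.Agent.S1450
import Groth.Agent.S2280

/-!
# Quasi-finite morphisms with smooth fibres over geometrically unibranch bases in characteristic zero
-/

set_option autoImplicit false
set_option linter.style.haveILetI false
universe u

open CategoryTheory CategoryTheory.Limits AlgebraicGeometry

namespace Groth.Agent.NeronHD28

theorem formallyUnramified_of_smooth_quasiFinite (K B : Type u) [Field K] [CharZero K] [CommRing B]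
    [Algebra K B] [Algebra.Smooth K B] [Algebra.QuasiFinite K B] : Algebra.FormallyUnramified K B := by
  classical
  haveI : IsReduced B := CAlg5.isReduced_of_smooth (A := K)
  haveI : Module.Finite K B := Module.Finite.of_quasiFinite
  haveI : IsArtinianRing B := IsArtinianRing.of_finite K B
  haveI : Algebra.FormallyEtale K B := by
    rw [Algebra.FormallyEtale.iff_exists_algEquiv_prod]
    refine ⟨MaximalSpectrum B, inferInstance, fun I => B ⧸ I.asIdeal,
      fun I => Ideal.Quotient.field I.asIdeal, inferInstance, (IsArtinianRing.equivPi B).restrictScalars K, fun I => ?_⟩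
    haveI : Module.Finite K (B ⧸ I.asIdeal) :=
      Module.Finite.of_surjective (Ideal.Quotient.mkₐ K I.asIdeal).toLinearMap Ideal.Quotient.mk_surjective
    letI := Ideal.Quotient.field I.asIdeal
    infer_instance
  infer_instance

theorem formallyUnramified_spec {K : Type u} [Field K] [CharZero K] {B : CommRingCat.{u}}
    (a : Spec B ⟶ Spec (CommRingCat.of K)) [Smooth a] [LocallyQuasiFinite a] : FormallyUnramified a := by
  obtain ⟨φ, rfl⟩ := Spec.map_surjective a
  have hsm : φ.hom.Smooth := (HasRingHomProperty.Spec_iff (P := @Smooth)).1 ‹_›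
  have hqf : φ.hom.QuasiFinite :=
    (HasRingHomProperty.Spec_iff (P := @LocallyQuasiFinite)).1 ‹_›
  rw [HasRingHomProperty.Spec_iff (P := @FormallyUnramified)]
  algebraize [φ.hom]
  rw [← φ.hom.algebraMap_toAlgebra, RingHom.formallyUnramified_algebraMap]
  exact formallyUnramified_of_smooth_quasiFinite K _

theorem formallyUnramified_of_smooth_locallyQuasiFinite {K : Type u} [Field K] [CharZero K] {F : Scheme.{u}}
    (q : F ⟶ Spec (CommRingCat.of K)) [Smooth q] [LocallyQuasiFinite q] : FormallyUnramified q := by
  rw [IsZariskiLocalAtSource.iff_of_openCover (P := @FormallyUnramified) F.affineCover]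
  intro i
  haveI : IsOpenImmersion (F.affineCover.f i) := inferInstance
  haveI : Smooth (F.affineCover.f i) := inferInstance
  haveI : Smooth (F.affineCover.f i ≫ q) := MorphismProperty.comp_mem @Smooth _ _ ‹Smooth (F.affineCover.f i)› ‹Smooth q›
  haveI : LocallyQuasiFinite (F.affineCover.f i ≫ q) := inferInstance
  exact @formallyUnramified_spec _ _ _ _ (F.affineCover.f i ≫ q) ‹Smooth (F.affineCover.f i ≫ q)›
    ‹LocallyQuasiFinite (F.affineCover.f i ≫ q)›

theorem etale_of_smooth_fibres {k : Type u} [Field k] [CharZero k] {S : Scheme.{u}}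
    (σ : S ⟶ Spec (CommRingCat.of k)) [IsLocallyNoetherian S] [IsReduced S]
    (hS : ∀ s : S, CAlg2.IsGeomUnibranch (S.presheaf.stalk s))
    {X : Scheme.{u}} (f : X ⟶ S) [LocallyOfFiniteType f] [QuasiCompact f] [LocallyQuasiFinite f] [IsDominant f]
    [ConnectedSpace X]
    (hfib : ∀ s : S, Smooth (pullback.snd f (S.fromSpecResidueField s))) :
    Etale f := by
  -- the base is integral
  have hdom : ∀ s : S, IsDomain (S.presheaf.stalk s) := fun s => by
    haveI := (hS s).1.1
    have h0 : nilradical (S.presheaf.stalk s) = ⊥ := nilradical_eq_zero _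
    exact ((RingEquiv.quotientBot _).symm.trans (Ideal.quotEquivOfEq h0.symm)).toMulEquiv.isDomain
  haveI : ConnectedSpace S := by
    obtain ⟨x⟩ := (inferInstance : ConnectedSpace X).toNonempty
    haveI : PreconnectedSpace S := ⟨by
      rw [← f.denseRange.closure_range]
      exact (isPreconnected_range f.continuous).closure⟩
    exact { toNonempty := ⟨f x⟩ }
  haveI : IsIntegral S := ((Groth.Agent.S2280.result S).2).2 ⟨inferInstance, hdom⟩
  -- unramified
  haveI : FormallyUnramified f := by
    refine AlgGrp79.formallyUnramified_of_fiberToSpecResidueField f fun s => ?_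
    haveI : CharZero (S.residueField s) := by
      exact charZero_of_injective_ringHom
        (f := (((Scheme.ΓSpecIso (CommRingCat.of k)).inv ≫ σ.appTop ≫ S.presheaf.germ ⊤ s trivial ≫
          S.residue s).hom)) (RingHom.injective _)
    haveI : Smooth (f.fiberToSpecResidueField s) := hfib s
    exact formallyUnramified_of_smooth_locallyQuasiFinite (K := S.residueField s) _
  refine (Groth.Agent.S1450.result f hS ?_).1
  obtain ⟨x, hx⟩ := FDesc60.exists_specializes_of_mem_closure_range f
    (show genericPoint S ∈ closure (Set.range f) by rw [f.denseRange.closure_range]; trivial)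
  exact ⟨x, (hx.antisymm (genericPoint_specializes (f x))).eq⟩

end Groth.Agent.NeronHD28
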