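import Groth.Agent.SpFP87.Cover
import Groth.Prelude.Def_CInt
import Groth.Prelude.Def_AlgSp3
import Mathlib.CategoryTheory.Sites.RegularEpi

/-! The Néron mapping property for smooth algebraic spaces. -/

set_option autoImplicit false
universe u

open CategoryTheory CategoryTheory.Limits AlgebraicGeometry Opposite

namespace Groth.Agent.NeronHD28.SpaceNMP

open AlgSp

variable {S : Scheme.{u}}

/-- Morphisms of representable sheaves into an open are unique. -/
theorem toOpen_ext (U : S.Opens) {T : Over S} (v v' : (yon S).obj T ⟶ (yon S).obj (Over.mk U.ι)) : v = v' := by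
  obtain ⟨a, rfl⟩ := (yon S).map_surjective v
  obtain ⟨b, rfl⟩ := (yon S).map_surjective v'
  congr 1
  refine Over.OverMorphism.ext ?_
  rw [← cancel_mono U.ι]
  exact (Over.w a).trans (Over.w b).symm

theorem smooth_chart {F : Sp S} {sF : F ⟶ (yon S).obj (Over.mk (𝟙 S))} (hsm : LocP @Smooth sF) {X : Over S}
    (a : (yon S).obj X ⟶ F) (ha : RepWith @Etale a) : Smooth X.hom := by
  obtain ⟨h, hh⟩ := (yon S).map_surjective (a ≫ sF)
  have e : h.left = X.hom := (Category.comp_id _).symm.trans (Over.w h)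
  rw [← e]
  exact hsm a (𝟙 _) h ha (repWith_id _ _) (by rw [Category.comp_id, hh])

theorem bijective (U : S.Opens) (N : Over S)
    (hN : ∀ Y : Over S, Smooth Y.hom →
      Function.Bijective (fun g : Y ⟶ N => (Over.mapPullbackAdj U.ι).counit.app Y ≫ g))
    {F : Sp S} (hF : IsAlgSpace F) (sF : F ⟶ (yon S).obj (Over.mk (𝟙 S))) (hsm : LocP @Smooth sF) :
    Function.Bijective (fun φ : F ⟶ (yon S).obj N =>
      (Limits.prod.fst : F ⨯ (yon S).obj (Over.mk U.ι) ⟶ F) ≫ φ) := by
  obtain ⟨X, a, hae, has⟩ := hF.atlas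
  have hlift := SpFP87.locLift_of_atlas hae has
  have hepi : Epi a := hlift.epi
  have : IsRegularEpiCategory (Sp S) := inferInstanceAs (IsRegularEpiCategory (Sheaf _ _))
  have : EffectiveEpi a := (isRegularEpi_iff_effectiveEpi a).1 (IsRegularEpiCategory.regularEpiOfEpi a)
  have hX : Smooth X.hom := smooth_chart hsm a hae
  let L := Over.pullback U.ι ⋙ Over.map U.ι
  let ε : ∀ Y : Over S, L.obj Y ⟶ Y := fun Y => (Over.mapPullbackAdj U.ι).counit.app Y
  have hnat : ∀ {Y Y' : Over S} (f : Y ⟶ Y'), L.map f ≫ ε Y' = ε Y ≫ f :=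
    fun f => (Over.mapPullbackAdj U.ι).counit.naturality f
  let toU : L.obj X ⟶ Over.mk U.ι := Over.homMk (pullback.snd X.hom U.ι) rfl
  let c : (yon S).obj (L.obj X) ⟶ F ⨯ (yon S).obj (Over.mk U.ι) :=
    prod.lift ((yon S).map (ε X) ≫ a) ((yon S).map toU)
  refine ⟨fun φ φ' h => ?_, fun ψ => ?_⟩
  · obtain ⟨g, hg⟩ := (yon S).map_surjective (a ≫ φ)
    obtain ⟨g', hg'⟩ := (yon S).map_surjective (a ≫ φ')
    have h1 : ε X ≫ g = ε X ≫ g' := (yon S).map_injective <| by
      have h2 := congrArg (c ≫ ·) h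
      simp only [c, prod.lift_fst_assoc, Category.assoc] at h2
      rwa [Functor.map_comp, Functor.map_comp, hg, hg']
    rw [← cancel_epi a, ← hg, ← hg', (hN X hX).1 h1]
  · obtain ⟨eU, heU⟩ := (yon S).map_surjective (c ≫ ψ)
    obtain ⟨g, hg⟩ := (hN X hX).2 eU
    change ε X ≫ g = eU at hg
    obtain ⟨W, p, q, hW⟩ := SpFP87.exists_isPullback_yon hF.diag a a
    have hq : Etale q.left := hae.property a ((yon S).map p) q hW
    have hWsm : Smooth W.hom := by
      rw [← Over.w q]
      infer_instance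
    have hLc : (yon S).map (L.map p) ≫ c = (yon S).map (L.map q) ≫ c := by
      apply Limits.prod.hom_ext
      · simp only [c, Category.assoc, prod.lift_fst]
        rw [← Functor.map_comp_assoc, ← Functor.map_comp_assoc, hnat, hnat, Functor.map_comp, Functor.map_comp,
          Category.assoc, Category.assoc, hW.w]
      · exact toOpen_ext U _ _
    have hpq : p ≫ g = q ≫ g := (hN W hWsm).1 <| by
      show ε W ≫ p ≫ g = ε W ≫ q ≫ g
      rw [← Category.assoc, ← hnat p, ← Category.assoc, ← hnat q, Category.assoc, Category.assoc, hg]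
      apply (yon S).map_injective
      rw [Functor.map_comp, Functor.map_comp, heU, ← Category.assoc, hLc, Category.assoc]
    let φ : F ⟶ (yon S).obj N := EffectiveEpi.desc a ((yon S).map g) fun g₁ g₂ h12 => by
      rw [← hW.lift_fst g₁ g₂ h12, Category.assoc, ← Functor.map_comp, hpq, Functor.map_comp, ← Category.assoc,
        hW.lift_snd]
    have hφ : a ≫ φ = (yon S).map g := EffectiveEpi.fac _ _ _
    refine ⟨φ, SpFP87.sp_hom_ext fun T t => ?_⟩
    obtain ⟨T', cc, l, hcc, hl⟩ := hlift T (t ≫ Limits.prod.fst)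
    obtain ⟨l₀, rfl⟩ := (yon S).map_surjective l
    obtain ⟨u₀, hu₀⟩ := (yon S).map_surjective (t ≫ Limits.prod.snd)
    let l' : T' ⟶ L.obj X := Over.homMk (pullback.lift l₀.left (cc ≫ u₀).left
      ((Over.w l₀).trans (Over.w (cc ≫ u₀)).symm)) (by
        show pullback.lift _ _ _ ≫ pullback.snd X.hom U.ι ≫ U.ι = T'.hom
        rw [pullback.lift_snd_assoc]
        exact Over.w (cc ≫ u₀))
    have hl' : l' ≫ ε X = l₀ := Over.OverMorphism.ext (by
      simp [l', ε, L, Over.mapPullbackAdj, pullback.lift_fst])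
    have ht : (yon S).map cc ≫ t = (yon S).map l' ≫ c := by
      apply Limits.prod.hom_ext
      · simp only [c, Category.assoc, prod.lift_fst]
        rw [← Functor.map_comp_assoc, hl', hl]
      · exact toOpen_ext U _ _
    refine SpFP87.cover_hom_ext cc hcc ?_
    show (yon S).map cc ≫ t ≫ Limits.prod.fst ≫ φ = (yon S).map cc ≫ t ≫ ψ
    rw [← Category.assoc _ t ψ, ht, Category.assoc _ c, ← heU, ← Functor.map_comp, ← hg, ← Category.assoc l', hl',
      Functor.map_comp, ← hφ]
    simp only [← Category.assoc]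
    rw [hl]
    simp only [Category.assoc]

end Groth.Agent.NeronHD28.SpaceNMP
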