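import Groth.Prelude
import Groth.Agent.NeronHD28.CubeRing

/-!
# Reduction is injective on torsion in small ramification

For a group scheme over a discrete valuation ring, a section of prime order `q` reducing to the unit
forces `q ∈ 𝔪 ^ (q - 1)`.
-/

set_option autoImplicit false
universe u

open CategoryTheory MonoidalCategory CartesianMonoidalCategory MonObj AlgebraicGeometry IsLocalRing

namespace Groth.Agent.NeronHD28

section Chart

variable {R : Type u} [CommRing R] (N : Over (Spec (CommRingCat.of R)))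
  {U : N.left.Opens} (hU : IsAffineOpen U)

/-- The structure map of an affine chart on sections. -/
noncomputable def chartStr : CommRingCat.of R ⟶ Γ(N.left, U) := Spec.preimage (hU.fromSpec ≫ N.hom)

theorem spec_chartStr : Spec.map (chartStr N hU) = hU.fromSpec ≫ N.hom := Spec.map_preimage _

/-- Points valued in `Spec A` landing in an affine chart, as ring maps. -/
theorem exists_chartHom {A : Type u} [CommRing A] (f : Spec (CommRingCat.of A) ⟶ N.left)
    (hf : ∀ a, f.base a ∈ U) : ∃ α : Γ(N.left, U) ⟶ CommRingCat.of A, Spec.map α ≫ hU.fromSpec = f := by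
  have hr : Set.range f.base ⊆ Set.range hU.fromSpec.base := by
    rw [hU.range_fromSpec]; rintro _ ⟨a, rfl⟩; exact hf a
  exact ⟨Spec.preimage (IsOpenImmersion.lift hU.fromSpec f hr), by
    rw [Spec.map_preimage, IsOpenImmersion.lift_fac]⟩

theorem chartHom_unique {A : Type u} [CommRing A] {α β : Γ(N.left, U) ⟶ CommRingCat.of A}
    (h : Spec.map α ≫ hU.fromSpec = Spec.map β ≫ hU.fromSpec) : α = β :=
  Spec.map_injective ((cancel_mono hU.fromSpec).1 h)

theorem chartHom_str {A : Type u} [CommRing A] {α : Γ(N.left, U) ⟶ CommRingCat.of A} {f : R →+* A}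
    (h : Spec.map α ≫ hU.fromSpec ≫ N.hom = Spec.map (CommRingCat.ofHom f)) :
    chartStr N hU ≫ α = CommRingCat.ofHom f := by
  refine Spec.map_injective ?_
  rw [Spec.map_comp, spec_chartStr, h]

end Chart

variable {R : Type u} [CommRing R]

/-- The `R`-scheme attached to an `R`-algebra. -/
noncomputable def specObj (A : Type u) [CommRing A] [Algebra R A] : Over (Spec (CommRingCat.of R)) :=
  Over.mk (Spec.map (CommRingCat.ofHom (algebraMap R A)))

/-- The point of `Spec A` attached to an algebra map to the base. -/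
noncomputable def specPt {A : Type u} [CommRing A] [Algebra R A] (e : A →ₐ[R] R) :
    𝟙_ (Over (Spec (CommRingCat.of R))) ⟶ specObj (R := R) A :=
  Over.homMk (Spec.map (CommRingCat.ofHom e.toRingHom)) (by
    change Spec.map (CommRingCat.ofHom e.toRingHom) ≫ Spec.map (CommRingCat.ofHom (algebraMap R A)) = 𝟙 _
    rw [← Spec.map_comp, ← Spec.map_id]
    congr 1
    ext r
    exact e.commutes r)

theorem closedPoint_mem_forall [IsLocalRing R] {X : Scheme.{u}} (f : Spec (CommRingCat.of R) ⟶ X)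
    (U : X.Opens) (h : f.base (closedPoint R) ∈ U) (a : Spec (CommRingCat.of R)) : f.base a ∈ U := by
  have : f ⁻¹ᵁ U = ⊤ := (IsLocalRing.closedPoint_mem_iff (f ⁻¹ᵁ U)).1 h
  exact (this.symm ▸ trivial : a ∈ f ⁻¹ᵁ U)

set_option maxHeartbeats 1000000 in
theorem natCast_mem_pow_of_torsion [IsDomain R] [IsDiscreteValuationRing R]
    (N : Over (Spec (CommRingCat.of R))) [GrpObj N] [IsCommMonObj N]
    (y : 𝟙_ (Over (Spec (CommRingCat.of R))) ⟶ N) {q : ℕ} (hq : q.Prime) (hy : y ^ q = 1) (hy1 : y ≠ 1)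
    (hred : y.left.base (closedPoint R) = (η[N]).left.base (closedPoint R)) :
    (q : R) ∈ maximalIdeal R ^ (q - 1) := by
  classical
  obtain ⟨W, hW, heW, -⟩ := exists_isAffineOpen_mem_and_subset (U := (⊤ : N.left.Opens))
    (x := (1 : 𝟙_ (Over (Spec (CommRingCat.of R))) ⟶ N).left.base (closedPoint R)) trivial
  have hone : (1 : 𝟙_ (Over (Spec (CommRingCat.of R))) ⟶ N) = η[N] := by
    rw [Hom.one_def]; simp
  have hyW : y.left.base (closedPoint R) ∈ W := by rw [hred, ← hone]; exact heW
  obtain ⟨α₁, hα₁⟩ := exists_chartHom N hW (A := R) (1 : 𝟙_ (Over (Spec (CommRingCat.of R))) ⟶ N).left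
    (closedPoint_mem_forall _ W heW)
  obtain ⟨α, hα⟩ := exists_chartHom N hW (A := R) y.left (closedPoint_mem_forall _ W hyW)
  have hstr : ∀ (β : Γ(N.left, W) ⟶ CommRingCat.of R) (z : 𝟙_ (Over (Spec (CommRingCat.of R))) ⟶ N),
      Spec.map β ≫ hW.fromSpec = z.left → ∀ r, β.hom ((chartStr N hW).hom r) = r := by
    intro β z hz r
    have h1 : Spec.map β ≫ hW.fromSpec ≫ N.hom = Spec.map (CommRingCat.ofHom (RingHom.id R)) := by
      rw [reassoc_of% hz, CommRingCat.ofHom_id, Spec.map_id]
      exact Over.w z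
    exact congrArg (fun φ => φ.hom r) (chartHom_str N hW h1)
  -- congruence
  have hcong : ∀ f, α.hom f - α₁.hom f ∈ maximalIdeal R := by
    intro f
    have hpt : (Spec.map α).base (closedPoint R) = (Spec.map α₁).base (closedPoint R) := by
      refine hW.fromSpec.isOpenEmbedding.injective ?_
      show (Spec.map α ≫ hW.fromSpec).base _ = (Spec.map α₁ ≫ hW.fromSpec).base _
      rw [hα, hα₁, hred, hone]
    have h2 : (maximalIdeal R).comap α.hom = (maximalIdeal R).comap α₁.hom :=
      congrArg PrimeSpectrum.asIdeal hpt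
    have h3 : f - (chartStr N hW).hom (α₁.hom f) ∈ (maximalIdeal R).comap α.hom := by
      rw [h2, Ideal.mem_comap, map_sub, hstr α₁ _ hα₁, sub_self]
      exact zero_mem _
    rwa [Ideal.mem_comap, map_sub, hstr α _ hα] at h3
  have hne : ∃ f, α.hom f ≠ α₁.hom f := by
    by_contra hcon
    push Not at hcon
    refine hy1 (Over.OverMorphism.ext ?_)
    rw [← hα, ← hα₁, show α = α₁ from CommRingCat.hom_ext (RingHom.ext hcon)]
  obtain ⟨ϖ, hϖ⟩ := IsDiscreteValuationRing.exists_irreducible R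
  have hval : ∀ f, α.hom f ≠ α₁.hom f → ∃ (k : ℕ) (u : Rˣ), α.hom f - α₁.hom f = u * ϖ ^ k := fun f hf =>
    IsDiscreteValuationRing.eq_unit_mul_pow_irreducible (sub_ne_zero.2 hf) hϖ
  have hex : ∃ k, ∃ f, ∃ u : Rˣ, α.hom f - α₁.hom f = u * ϖ ^ k := by
    obtain ⟨f, hf⟩ := hne; obtain ⟨k, u, h⟩ := hval f hf; exact ⟨k, f, u, h⟩
  let k := Nat.find hex
  obtain ⟨f₀, u, hu⟩ : ∃ f, ∃ u : Rˣ, α.hom f - α₁.hom f = u * ϖ ^ k := Nat.find_spec hex
  have hdvd : ∀ f, ϖ ^ k ∣ α.hom f - α₁.hom f := fun f => by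
    rcases eq_or_ne (α.hom f) (α₁.hom f) with h | h
    · simp [h]
    · obtain ⟨j, v, hv⟩ := hval f h
      exact hv ▸ dvd_mul_of_dvd_right (pow_dvd_pow _ (Nat.find_min' hex ⟨f, v, hv⟩)) _
  have hk : 0 < k := Nat.pos_of_ne_zero fun h0 => by
    have := hcong f₀
    rw [hu, h0, pow_zero, _root_.mul_one] at this
    exact (mem_maximalIdeal _).1 this u.isUnit
  have hπm : ϖ ^ k ∈ maximalIdeal R :=
    Ideal.pow_mem_of_mem _ ((mem_maximalIdeal _).2 hϖ.not_isUnit) k hk
  -- coordinate points
  let C := Cube.cube (ϖ ^ k) q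
  let xr : Fin q → (Γ(N.left, W) →+* C) := fun i =>
    RingHom.codRestrict (Pi.ringHom fun S : Finset (Fin q) => if i ∈ S then α.hom else α₁.hom) C fun f => by
      have : (fun S : Finset (Fin q) => (if i ∈ S then α.hom else α₁.hom) f) =
          fun S : Finset (Fin q) => if i ∈ S then α.hom f else α₁.hom f := funext fun S => by split_ifs <;> rfl
      show (fun S : Finset (Fin q) => (if i ∈ S then α.hom else α₁.hom) f) ∈ C
      rw [this]
      exact Cube.pair_mem i (hdvd f)
  let t : Fin q → (specObj (R := R) C ⟶ N) := fun i =>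
    Over.homMk (Spec.map (CommRingCat.ofHom (xr i)) ≫ hW.fromSpec) (by
      refine (Category.assoc _ _ _).trans ?_
      rw [← spec_chartStr]
      refine (Spec.map_comp _ _).symm.trans ?_
      show Spec.map _ = Spec.map _
      congr 1
      refine CommRingCat.hom_ext (RingHom.ext fun r => Subtype.ext (funext fun S => ?_))
      show (if i ∈ S then α.hom else α₁.hom) ((chartStr N hW).hom r) = r
      split_ifs
      · exact hstr α _ hα r
      · exact hstr α₁ _ hα₁ r)
  have ht : ∀ i S, specPt (Cube.ev (π := ϖ ^ k) S) ≫ t i = if i ∈ S then y else 1 := by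
    intro i S
    refine Over.OverMorphism.ext ?_
    show Spec.map (CommRingCat.ofHom (Cube.ev S).toRingHom) ≫ Spec.map (CommRingCat.ofHom (xr i)) ≫ hW.fromSpec = _
    rw [← Spec.map_comp_assoc]
    by_cases hi : i ∈ S
    · rw [if_pos hi, ← hα]
      congr 2
      refine CommRingCat.hom_ext (RingHom.ext fun f => ?_)
      show (if i ∈ S then α.hom else α₁.hom) f = α.hom f
      rw [if_pos hi]
    · rw [if_neg hi, ← hα₁]
      congr 2
      refine CommRingCat.hom_ext (RingHom.ext fun f => ?_)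
      show (if i ∈ S then α.hom else α₁.hom) f = α₁.hom f
      rw [if_neg hi]
  let P : specObj (R := R) C ⟶ N := ∏ i, t i
  have hP : ∀ S, specPt (Cube.ev (π := ϖ ^ k) S) ≫ P = y ^ S.card := by
    intro S
    let φ : (specObj (R := R) C ⟶ N) →* (𝟙_ (Over (Spec (CommRingCat.of R))) ⟶ N) :=
      { toFun := fun g => specPt (Cube.ev (π := ϖ ^ k) S) ≫ g
        map_one' := MonObj.comp_one _
        map_mul' := fun g g' => MonObj.comp_mul _ g g' }
    show φ (∏ i, t i) = _
    rw [map_prod]
    simp only [φ, MonoidHom.coe_mk, OneHom.coe_mk, ht, Finset.prod_ite_mem, Finset.univ_inter,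
      Finset.prod_const]
  -- the product lands in the chart
  have hPW : ∀ a, P.left.base a ∈ W := by
    intro a
    obtain ⟨M, hM, haM⟩ := Ideal.exists_le_maximal (a : PrimeSpectrum C).asIdeal (a : PrimeSpectrum C).2.ne_top
    have hb : (⟨M, hM.isPrime⟩ : PrimeSpectrum C) =
        (Spec.map (CommRingCat.ofHom (Cube.ev (π := ϖ ^ k) (∅ : Finset (Fin q))).toRingHom)).base (closedPoint R) :=
      PrimeSpectrum.ext (Cube.eq_comap_of_isMaximal hπm M)
    have hmem : P.left.base (⟨M, hM.isPrime⟩ : PrimeSpectrum C) ∈ W := by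
      rw [hb]
      show (specPt (Cube.ev (π := ϖ ^ k) (∅ : Finset (Fin q))) ≫ P).left.base (closedPoint R) ∈ W
      rw [hP, Finset.card_empty, pow_zero]
      exact heW
    exact Specializes.mem_open ((PrimeSpectrum.le_iff_specializes a ⟨M, hM.isPrime⟩).1 haM |>.map P.left.continuous)
      W.2 hmem
  obtain ⟨Q, hQ⟩ := exists_chartHom N hW (A := C) P.left hPW
  have hyj : ∀ j : ℕ, (y ^ j).left.base (closedPoint R) ∈ W → ∃ β : Γ(N.left, W) ⟶ CommRingCat.of R,
      Spec.map β ≫ hW.fromSpec = (y ^ j).left := fun j hj =>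
    exists_chartHom N hW (A := R) (y ^ j).left (closedPoint_mem_forall _ W hj)
  let h : ℕ → R := fun j => if hj : (y ^ j).left.base (closedPoint R) ∈ W then (hyj j hj).choose.hom f₀ else 0
  have hval' : ∀ (j : ℕ) (β : Γ(N.left, W) ⟶ CommRingCat.of R),
      Spec.map β ≫ hW.fromSpec = (y ^ j).left → h j = β.hom f₀ := by
    intro j β hβ
    have hj : (y ^ j).left.base (closedPoint R) ∈ W := by
      rw [← hβ]; exact hW.range_fromSpec.le ⟨_, rfl⟩
    simp only [h, dif_pos hj]
    rw [chartHom_unique N hW ((hyj j hj).choose_spec.trans hβ.symm)]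
  have hh : ∀ S, (Q.hom f₀ : Finset (Fin q) → R) S = h S.card := by
    intro S
    refine (hval' S.card (Q ≫ CommRingCat.ofHom (Cube.ev (π := ϖ ^ k) S).toRingHom) ?_).symm
    rw [Spec.map_comp, Category.assoc, hQ, ← hP S]
    rfl
  have h0 : h 0 = α₁.hom f₀ := hval' 0 α₁ (by rw [pow_zero, hα₁])
  have h1 : h 1 = α.hom f₀ := hval' 1 α (by rw [pow_one, hα])
  have hq0 : h q = h 0 := by rw [h0]; exact hval' q α₁ (by rw [hy, hα₁])
  exact Cube.mem_pow_of_eq ((mem_maximalIdeal _).2 hϖ.not_isUnit) hϖ.ne_zero hk hq (Q.hom f₀).2 hh hq0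
    u.isUnit (by rw [h0, h1, hu, mul_comm])

theorem residue_comp_eq_iff [IsLocalRing R] {N : Over (Spec (CommRingCat.of R))} [GrpObj N]
    (x : 𝟙_ (Over (Spec (CommRingCat.of R))) ⟶ N)
    (hx : x.left.base (closedPoint R) = (η[N]).left.base (closedPoint R)) :
    Spec.map (CommRingCat.ofHom (residue R)) ≫ x.left =
      Spec.map (CommRingCat.ofHom (residue R)) ≫ (1 : 𝟙_ (Over (Spec (CommRingCat.of R))) ⟶ N).left := by
  have hone : (1 : 𝟙_ (Over (Spec (CommRingCat.of R))) ⟶ N) = η[N] := by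
    rw [Hom.one_def]; simp
  obtain ⟨W, hW, heW, -⟩ := exists_isAffineOpen_mem_and_subset (U := (⊤ : N.left.Opens))
    (x := x.left.base (closedPoint R)) trivial
  obtain ⟨α, hα⟩ := exists_chartHom N hW (A := R) x.left (closedPoint_mem_forall _ W heW)
  obtain ⟨α₁, hα₁⟩ := exists_chartHom N hW (A := R) (1 : 𝟙_ (Over (Spec (CommRingCat.of R))) ⟶ N).left
    (closedPoint_mem_forall _ W (by rw [hone, ← hx]; exact heW))
  have hstr : ∀ (β : Γ(N.left, W) ⟶ CommRingCat.of R) (z : 𝟙_ (Over (Spec (CommRingCat.of R))) ⟶ N),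
      Spec.map β ≫ hW.fromSpec = z.left → ∀ r, β.hom ((chartStr N hW).hom r) = r := by
    intro β z hz r
    have h1 : Spec.map β ≫ hW.fromSpec ≫ N.hom = Spec.map (CommRingCat.ofHom (RingHom.id R)) := by
      rw [reassoc_of% hz, CommRingCat.ofHom_id, Spec.map_id]
      exact Over.w z
    exact congrArg (fun φ => φ.hom r) (chartHom_str N hW h1)
  have hpt : (Spec.map α).base (closedPoint R) = (Spec.map α₁).base (closedPoint R) := by
    refine hW.fromSpec.isOpenEmbedding.injective ?_
    show (Spec.map α ≫ hW.fromSpec).base _ = (Spec.map α₁ ≫ hW.fromSpec).base _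
    rw [hα, hα₁, hx, hone]
  have h2 : (maximalIdeal R).comap α.hom = (maximalIdeal R).comap α₁.hom :=
    congrArg PrimeSpectrum.asIdeal hpt
  rw [← hα, ← hα₁, ← Spec.map_comp_assoc, ← Spec.map_comp_assoc]
  congr 2
  refine CommRingCat.hom_ext (RingHom.ext fun f => ?_)
  have h3 : f - (chartStr N hW).hom (α₁.hom f) ∈ (maximalIdeal R).comap α.hom := by
    rw [h2, Ideal.mem_comap, map_sub, hstr α₁ _ hα₁, sub_self]
    exact zero_mem _
  rw [Ideal.mem_comap, map_sub, hstr α _ hα] at h3
  show residue R (α.hom f) = residue R (α₁.hom f)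
  exact Ideal.Quotient.eq.2 h3

theorem pow_reduces [IsLocalRing R] {N : Over (Spec (CommRingCat.of R))} [GrpObj N]
    (x : 𝟙_ (Over (Spec (CommRingCat.of R))) ⟶ N)
    (hx : x.left.base (closedPoint R) = (η[N]).left.base (closedPoint R)) (m : ℕ) :
    (x ^ m).left.base (closedPoint R) = (η[N]).left.base (closedPoint R) := by
  let s : specObj (R := R) (ResidueField R) ⟶ 𝟙_ (Over (Spec (CommRingCat.of R))) :=
    Over.homMk (Spec.map (CommRingCat.ofHom (residue R))) (Category.comp_id _)
  have hs : s ≫ x = s ≫ (1 : 𝟙_ (Over (Spec (CommRingCat.of R))) ⟶ N) :=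
    Over.OverMorphism.ext (residue_comp_eq_iff x hx)
  have hsm : s ≫ x ^ m = s ≫ (1 : 𝟙_ (Over (Spec (CommRingCat.of R))) ⟶ N) := by
    rw [MonObj.comp_pow, hs, ← MonObj.comp_pow, one_pow]
  have hone : (1 : 𝟙_ (Over (Spec (CommRingCat.of R))) ⟶ N) = η[N] := by
    rw [Hom.one_def]; simp
  have hc : (Spec.map (CommRingCat.ofHom (residue R))).base (closedPoint (ResidueField R)) = closedPoint R :=
    IsLocalRing.comap_closedPoint (residue R)
  have := congrArg (fun g => g.left.base (closedPoint (ResidueField R))) hsm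
  simp only [Over.comp_left, Scheme.Hom.comp_base, TopCat.coe_comp, Function.comp_apply] at this
  rw [← hone, ← hc]
  exact this

/-- Torsion sections reducing to the unit are trivial when the prime residue characteristic is small. -/
theorem eq_one_of_torsion_reduces [IsDomain R] [IsDiscreteValuationRing R]
    (N : Over (Spec (CommRingCat.of R))) [GrpObj N] [IsCommMonObj N]
    (p : ℕ) [Fact p.Prime] [CharP (ResidueField R) p] (hv : (p : R) ∉ maximalIdeal R ^ (p - 1))
    (x : 𝟙_ (Over (Spec (CommRingCat.of R))) ⟶ N) {n : ℕ} (hn : 0 < n) (hx : x ^ n = 1)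
    (hred : x.left.base (closedPoint R) = (η[N]).left.base (closedPoint R)) : x = 1 := by
  by_contra hne
  have ho : 0 < orderOf x := (isOfFinOrder_iff_pow_eq_one.2 ⟨n, hn, hx⟩).orderOf_pos
  obtain ⟨q, hq, hdvd⟩ := Nat.exists_prime_and_dvd (n := orderOf x) fun h1 => hne (orderOf_eq_one_iff.1 h1)
  have hqo : orderOf (x ^ (orderOf x / q)) = q := orderOf_pow_orderOf_div ho.ne' hdvd
  have hy : (x ^ (orderOf x / q)) ^ q = 1 := by
    conv_lhs => arg 2; rw [← hqo]
    exact pow_orderOf_eq_one _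
  have hy1 : x ^ (orderOf x / q) ≠ 1 := fun h => hq.ne_one (by rw [← hqo, h, orderOf_one])
  have hmem := natCast_mem_pow_of_torsion N _ hq hy hy1 (pow_reduces x hred _)
  rcases eq_or_ne q p with rfl | hqp
  · exact hv hmem
  · have h2 : (q : R) ∈ maximalIdeal R :=
      Ideal.pow_le_self (by have := hq.two_le; omega) hmem
    have h0 : ((q : ℕ) : ResidueField R) = 0 := by
      rw [← map_natCast (residue R)]
      exact (residue_eq_zero_iff _).2 h2
    rw [CharP.cast_eq_zero_iff (ResidueField R) p] at h0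
    exact hqp ((Nat.prime_dvd_prime_iff_eq Fact.out hq).1 h0).symm

end Groth.Agent.NeronHD28
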