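import Groth.Agent.NeronHD28.Transfer
import Groth.Prelude.Def_NonAbH2

/-! Mapping properties of pseudo-torsors. -/

set_option autoImplicit false
universe u

open CategoryTheory CategoryTheory.Limits AlgebraicGeometry MonoidalCategory CartesianMonoidalCategory

namespace Groth.Agent.NeronHD28

variable {S T : Scheme.{u}} {G N : Over S} [GrpObj G]

theorem smooth_tensor_hom {A B : Over S} [Smooth A.hom] [Smooth B.hom] : Smooth (A ⊗ B).hom := by
  show Smooth (pullback.fst A.hom B.hom ≫ A.hom)
  infer_instance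

/-- Translation of `n` by `g`. -/
noncomputable def smulPt (a : AlgGrp.Action G N) {W : Over S} (g : W ⟶ G) (n : W ⟶ N) : W ⟶ N :=
  lift g n ≫ a.act

/-- The element carrying `n` to `x`. -/
noncomputable def divPt (a : AlgGrp.Action G N) [IsIso (lift a.act (snd G N))] {W : Over S} (x n : W ⟶ N) : W ⟶ G :=
  lift x n ≫ inv (lift a.act (snd G N)) ≫ fst G N

theorem smulPt_natural (a : AlgGrp.Action G N) {W W' : Over S} (p : W' ⟶ W) (g : W ⟶ G) (n : W ⟶ N) :
    p ≫ smulPt a g n = smulPt a (p ≫ g) (p ≫ n) := by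
  rw [smulPt, smulPt, comp_lift_assoc]

theorem divPt_natural (a : AlgGrp.Action G N) [IsIso (lift a.act (snd G N))] {W W' : Over S} (p : W' ⟶ W)
    (x n : W ⟶ N) : p ≫ divPt a x n = divPt a (p ≫ x) (p ≫ n) := by
  rw [divPt, divPt, comp_lift_assoc]

theorem smulPt_divPt (a : AlgGrp.Action G N) [IsIso (lift a.act (snd G N))] {W : Over S} (x n : W ⟶ N) :
    smulPt a (divPt a x n) n = x := by
  let e := lift a.act (snd G N)
  let p : W ⟶ G ⊗ N := lift x n ≫ inv e
  have hp : p ≫ e = lift x n := by rw [Category.assoc, IsIso.inv_hom_id, Category.comp_id]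
  have h1 : p ≫ a.act = x := by
    have := congrArg (· ≫ fst N N) hp
    simpa [e] using this
  have h2 : p ≫ snd G N = n := by
    have := congrArg (· ≫ snd N N) hp
    simpa [e] using this
  have h3 : lift (divPt a x n) n = p := by
    refine CartesianMonoidalCategory.hom_ext _ _ ?_ ?_
    · rw [lift_fst]; exact (Category.assoc _ _ _).symm
    · rw [lift_snd, h2]
  rw [smulPt, h3, h1]

theorem divPt_smulPt (a : AlgGrp.Action G N) [IsIso (lift a.act (snd G N))] {W : Over S} (g : W ⟶ G) (n : W ⟶ N) :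
    divPt a (smulPt a g n) n = g := by
  have h : lift g n ≫ lift a.act (snd G N) = lift (smulPt a g n) n := by
    rw [comp_lift, lift_snd]; rfl
  rw [divPt, ← h, Category.assoc, IsIso.hom_inv_id_assoc, lift_fst]

theorem smoothExt_iff_of_pseudoTorsor (b : T ⟶ S) (a : AlgGrp.Action G N) (ha : NonAbH1.IsPseudoTorsorSch a)
    [Smooth N.hom] [Surjective N.hom] : SmoothExt b G ↔ SmoothExt b N := by
  have : IsIso (lift a.act (snd G N)) := ha
  exact ⟨fun h => SmoothExt.transfer (N := N) (fun g n => smulPt a g n) (fun x n => divPt a x n)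
      (fun p x n => smulPt_natural a p x n) (fun p x n => divPt_natural a p x n) (fun x n => smulPt_divPt a x n) h,
    fun h => SmoothExt.transfer (N := N) (fun x n => divPt a x n) (fun g n => smulPt a g n)
      (fun p x n => divPt_natural a p x n) (fun p x n => smulPt_natural a p x n) (fun g n => divPt_smulPt a g n) h⟩

theorem isPseudoTorsor_of_restrict (b : T ⟶ S) (a : AlgGrp.Action G N) [Smooth G.hom] [Smooth N.hom]
    (hG : SmoothExt b G) (hN : SmoothExt b N)
    (h0 : IsIso ((Over.pullback b).map (lift a.act (snd G N)))) : NonAbH1.IsPseudoTorsorSch a := by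
  let L := Over.pullback b ⋙ Over.map b
  have hnat : ∀ {Z' Z : Over S} (q : Z' ⟶ Z), L.map q ≫ restrMap b Z = restrMap b Z' ≫ q :=
    fun q => (Over.mapPullbackAdj b).counit.naturality q
  let e : G ⊗ N ⟶ N ⊗ N := lift a.act (snd G N)
  have : IsIso (L.map e) := inferInstanceAs (IsIso ((Over.map b).map ((Over.pullback b).map e)))
  have hGN : Smooth (G ⊗ N).hom := smooth_tensor_hom
  have hNN : Smooth (N ⊗ N).hom := smooth_tensor_hom
  obtain ⟨ψ, hψ⟩ := (hG (N ⊗ N) hNN).2 (inv (L.map e) ≫ restrMap b (G ⊗ N) ≫ fst G N)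
  change restrMap b (N ⊗ N) ≫ ψ = inv (L.map e) ≫ restrMap b (G ⊗ N) ≫ fst G N at hψ
  let φ : N ⊗ N ⟶ G ⊗ N := lift ψ (snd N N)
  have hsnd : e ≫ snd N N = snd G N := lift_snd _ _
  have hφ : restrMap b (N ⊗ N) ≫ φ = inv (L.map e) ≫ restrMap b (G ⊗ N) := by
    refine CartesianMonoidalCategory.hom_ext _ _ ?_ ?_
    · rw [Category.assoc, lift_fst, hψ, Category.assoc]
    · rw [Category.assoc, lift_snd, Category.assoc, ← hsnd, ← Category.assoc (restrMap b (G ⊗ N)), ← hnat e,
        Category.assoc, IsIso.inv_hom_id_assoc]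
  refine ⟨φ, ?_, ?_⟩
  · refine CartesianMonoidalCategory.hom_ext _ _ ?_ ?_
    · rw [Category.assoc, lift_fst, Category.id_comp]
      refine (hG (G ⊗ N) hGN).1 (show restrMap b (G ⊗ N) ≫ e ≫ ψ = restrMap b (G ⊗ N) ≫ fst G N from ?_)
      rw [← Category.assoc, ← hnat e, Category.assoc, hψ, IsIso.hom_inv_id_assoc]
    · rw [Category.assoc, lift_snd, Category.id_comp]
      exact hsnd
  · refine CartesianMonoidalCategory.hom_ext _ _ ?_ ?_
    · rw [Category.assoc, lift_fst, Category.id_comp]
      refine (hN (N ⊗ N) hNN).1 (show restrMap b (N ⊗ N) ≫ φ ≫ a.act = restrMap b (N ⊗ N) ≫ fst N N from ?_)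
      have ha : e ≫ fst N N = a.act := lift_fst _ _
      rw [← Category.assoc, hφ, Category.assoc, ← ha, ← Category.assoc (restrMap b (G ⊗ N)), ← hnat e,
        Category.assoc, IsIso.inv_hom_id_assoc]
    · rw [Category.assoc, lift_snd, Category.id_comp, lift_snd]

end Groth.Agent.NeronHD28
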