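import Groth.Agent.NeronHD28.TorsorExt
import Groth.Agent.Unr55.DescProps
import Mathlib.AlgebraicGeometry.Morphisms.LocalFlatDescent
import Mathlib.AlgebraicGeometry.Morphisms.FlatDescent

/-! Properties of torsors descend from the group. -/

set_option autoImplicit false
universe u

open CategoryTheory CategoryTheory.Limits AlgebraicGeometry MonoidalCategory CartesianMonoidalCategory

namespace Groth.Agent.NeronHD28

variable {S : Scheme.{u}} {X P : Over S} [GrpObj X]

theorem pullback_snd_of_section (Q : MorphismProperty Scheme.{u}) [Q.RespectsIso]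
    (a : AlgGrp.Action X P) (ha : NonAbH1.IsPseudoTorsorSch a) {S' : Scheme.{u}} (f : S' ⟶ S)
    (σ : S' ⟶ P.left) (hσ : σ ≫ P.hom = f) (hX : Q (pullback.snd X.hom f)) : Q (pullback.snd P.hom f) := by
  have : IsIso (lift a.act (snd X P)) := ha
  let σ' : Over.mk f ⟶ P := Over.homMk σ hσ
  let e : P ⊗ Over.mk f ≅ X ⊗ Over.mk f :=
    { hom := lift (divPt a (fst P (Over.mk f)) (snd P (Over.mk f) ≫ σ')) (snd P (Over.mk f))
      inv := lift (smulPt a (fst X (Over.mk f)) (snd X (Over.mk f) ≫ σ')) (snd X (Over.mk f))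
      hom_inv_id := by
        refine CartesianMonoidalCategory.hom_ext _ _ ?_ ?_
        · rw [Category.assoc, lift_fst, smulPt_natural, lift_fst, ← Category.assoc, lift_snd, smulPt_divPt,
            Category.id_comp]
        · rw [Category.assoc, lift_snd, lift_snd, Category.id_comp]
      inv_hom_id := by
        refine CartesianMonoidalCategory.hom_ext _ _ ?_ ?_
        · rw [Category.assoc, lift_fst, divPt_natural, lift_fst, ← Category.assoc, lift_snd, divPt_smulPt,
            Category.id_comp]
        · rw [Category.assoc, lift_snd, lift_snd, Category.id_comp] }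
  have h : e.hom.left ≫ pullback.snd X.hom f = pullback.snd P.hom f :=
    congrArg Over.Hom.left (show e.hom ≫ snd X (Over.mk f) = snd P (Over.mk f) from lift_snd _ _)
  rw [← h]
  have : IsIso e.hom.left := ((Over.forget S).mapIso e).isIso_hom
  exact (Q.cancel_left_of_respectsIso _ _).2 hX

theorem surjective_of_locallyTrivial (hP : NonAbH1.IsLocallyTrivialFor Scheme.fppfPrecoverage P) :
    Surjective P.hom := by
  obtain ⟨R, hR, hsec⟩ := hP
  refine ⟨fun s => ?_⟩
  obtain ⟨hjs, -⟩ := (Scheme.ofArrows_mem_precoverage_iff (P := (@Flat ⊓ @LocallyOfFinitePresentation))).1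
    (show Presieve.ofArrows (fun i : R.category => i.obj.left) (fun i => i.obj.hom) ∈ Scheme.fppfPrecoverage S by
      rw [Presieve.ofArrows_category]; exact hR)
  obtain ⟨i, hi⟩ := hjs s
  obtain ⟨t, ht⟩ := hi
  obtain ⟨σ, hσ⟩ := hsec i.obj.hom i.property
  exact ⟨σ.base t, by rw [← Scheme.Hom.comp_apply, hσ]; exact ht⟩

theorem prop_hom_of_torsor (Q : MorphismProperty Scheme.{u}) [Q.IsStableUnderBaseChange] [IsZariskiLocalAtTarget Q]
    [Q.DescendsAlong (@Surjective ⊓ @Flat ⊓ @QuasiCompact)]
    (a : AlgGrp.Action X P) (ha : NonAbH1.IsPseudoTorsorSch a) (hP : NonAbH1.IsLocallyTrivialFor Scheme.fppfPrecoverage P)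
    (hX : Q X.hom) : Q P.hom := by
  obtain ⟨R, hR, hsec⟩ := hP
  obtain ⟨hjs, hprop⟩ := (Scheme.ofArrows_mem_precoverage_iff (P := (@Flat ⊓ @LocallyOfFinitePresentation))).1
    (show Presieve.ofArrows (fun i : R.category => i.obj.left) (fun i => i.obj.hom) ∈ Scheme.fppfPrecoverage S by
      rw [Presieve.ofArrows_category]; exact hR)
  let U : R.category → S.Opens := fun i =>
    have := (hprop i).1
    have := (hprop i).2
    ⟨Set.range i.obj.hom.base, i.obj.hom.isOpenMap.isOpen_range⟩
  refine IsZariskiLocalAtTarget.of_iSup_eq_top (P := Q) U ?_ fun i => ?_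
  · refine top_le_iff.1 fun s _ => ?_
    obtain ⟨i, hi⟩ := hjs s
    exact TopologicalSpace.Opens.mem_iSup.2 ⟨i, hi⟩
  · obtain ⟨σ, hσ⟩ := hsec i.obj.hom i.property
    have := (hprop i).1
    have := (hprop i).2
    let g : i.obj.left ⟶ (U i : Scheme.{u}) := IsOpenImmersion.lift (U i).ι i.obj.hom
      (by rw [Scheme.Opens.range_ι]; exact subset_refl _)
    have hg : g ≫ (U i).ι = i.obj.hom := IsOpenImmersion.lift_fac _ _ _
    have hgs : Surjective g := ⟨fun u => by
      obtain ⟨t, ht⟩ := u.2
      exact ⟨t, (U i).ι.isOpenEmbedding.injective (by rw [← Scheme.Hom.comp_apply, hg]; exact ht)⟩⟩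
    have hgf : Flat g := MorphismProperty.of_postcomp (W := @Flat) (W' := @IsOpenImmersion) g (U i).ι inferInstance
      (by rw [hg]; infer_instance)
    have hgl : LocallyOfFinitePresentation g := MorphismProperty.of_postcomp (W := @LocallyOfFinitePresentation)
      (W' := @IsOpenImmersion) g (U i).ι inferInstance (by rw [hg]; infer_instance)
    have hpb : IsPullback (pullback.snd (P.hom ∣_ U i) g) (pullback.fst (P.hom ∣_ U i) g ≫ (P.hom ⁻¹ᵁ U i).ι)
        i.obj.hom P.hom := by
      rw [← hg]
      exact (IsPullback.of_hasPullback (P.hom ∣_ U i) g).flip.paste_vert (isPullback_morphismRestrict P.hom (U i))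
    have h1 : Q (pullback.snd (P.hom ∣_ U i) g) := by
      rw [← hpb.flip.isoPullback_hom_snd]
      exact (Q.cancel_left_of_respectsIso _ _).2
        (pullback_snd_of_section Q a ha i.obj.hom σ hσ (MorphismProperty.pullback_snd _ _ hX))
    exact MorphismProperty.of_pullback_snd_of_descendsAlong (Q := @Surjective ⊓ @Flat ⊓ @LocallyOfFinitePresentation)
      ⟨⟨hgs, hgf⟩, hgl⟩ h1

end Groth.Agent.NeronHD28
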