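import Groth.Agent.NeronHD28.Ext
import Mathlib.AlgebraicGeometry.Sites.Fpqc
import Mathlib.CategoryTheory.Monoidal.Cartesian.Over

/-! Transporting mapping properties along a surjective smooth torsor. -/

set_option autoImplicit false
universe u v

open CategoryTheory CategoryTheory.Limits AlgebraicGeometry

namespace Groth.Agent.NeronHD28

variable {S : Scheme.{u}} {T : Scheme.{u}}

/-- The part of `Z` over `T`, mapped to `Z`. -/
noncomputable abbrev restrMap (b : T ⟶ S) (Z : Over S) :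
    (Over.map b).obj ((Over.pullback b).obj Z) ⟶ Z :=
  (Over.mapPullbackAdj b).counit.app Z

theorem bijective_map_iff (b : T ⟶ S) (Z N : Over S) :
    Function.Bijective (fun g : Z ⟶ N => (Over.pullback b).map g) ↔
      Function.Bijective (fun g : Z ⟶ N => restrMap b Z ≫ g) := by
  have : (fun g : Z ⟶ N => (Over.pullback b).map g) =
      ((Over.mapPullbackAdj b).homEquiv _ N) ∘ (fun g : Z ⟶ N => restrMap b Z ≫ g) :=
    funext fun g => (homEquiv_counit_comp b g).symm
  rw [this]
  exact ((Over.mapPullbackAdj b).homEquiv _ N).comp_bijective _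

/-- Bijectivity of restriction along `b` on all smooth test objects. -/
def SmoothExt (b : T ⟶ S) (N : Over S) : Prop :=
  ∀ Z : Over S, Smooth Z.hom → Function.Bijective (fun g : Z ⟶ N => restrMap b Z ≫ g)

theorem smoothExt_iff (b : T ⟶ S) (N : Over S) :
    SmoothExt b N ↔ ∀ Z : Over S, Smooth Z.hom → Function.Bijective (fun g : Z ⟶ N => (Over.pullback b).map g) :=
  forall₂_congr fun Z _ => (bijective_map_iff b Z N).symm

theorem restrSquare (b : T ⟶ S) {Z' Z : Over S} (q : Z' ⟶ Z) :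
    IsPullback (pullback.fst Z'.hom b) ((Over.pullback b).map q).left q.left (pullback.fst Z.hom b) := by
  refine (IsPullback.of_right (h₁₂ := ((Over.pullback b).obj Z).hom) (h₂₂ := Z.hom) (v₁₃ := b) ?_ ?_
    (IsPullback.of_hasPullback Z.hom b).flip).flip
  · rw [Over.w, Over.w]
    exact (IsPullback.of_hasPullback Z'.hom b).flip
  · exact pullback.lift_fst _ _ _

theorem SmoothExt.transfer {b : T ⟶ S} {A B N : Over S} [Smooth N.hom] [Surjective N.hom]
    (Φ : ∀ {W : Over S}, (W ⟶ A) → (W ⟶ N) → (W ⟶ B)) (Ψ : ∀ {W : Over S}, (W ⟶ B) → (W ⟶ N) → (W ⟶ A))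
    (hΦ : ∀ {W W' : Over S} (p : W' ⟶ W) (x : W ⟶ A) (n : W ⟶ N), p ≫ Φ x n = Φ (p ≫ x) (p ≫ n))
    (hΨ : ∀ {W W' : Over S} (p : W' ⟶ W) (x : W ⟶ B) (n : W ⟶ N), p ≫ Ψ x n = Ψ (p ≫ x) (p ≫ n))
    (hΦΨ : ∀ {W : Over S} (x : W ⟶ B) (n : W ⟶ N), Φ (Ψ x n) n = x)
    (hA : SmoothExt b A) : SmoothExt b B := by
  let L := Over.pullback b ⋙ Over.map b
  have hnat : ∀ {Z' Z : Over S} (q : Z' ⟶ Z), L.map q ≫ restrMap b Z = restrMap b Z' ≫ q :=
    fun q => (Over.mapPullbackAdj b).counit.naturality q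
  have hepi : ∀ Z : Over S, EffectiveEpi (pullback.fst Z.hom N.hom) := fun Z => inferInstance
  have huniq : ∀ Z : Over S, Smooth Z.hom → ∀ u v : Z ⟶ B, restrMap b Z ≫ u = restrMap b Z ≫ v → u = v := by
    intro Z hZ u v huv
    let Z' : Over S := Over.mk (pullback.fst Z.hom N.hom ≫ Z.hom)
    let q : Z' ⟶ Z := Over.homMk (pullback.fst _ _)
    let n : Z' ⟶ N := Over.homMk (pullback.snd _ _) pullback.condition.symm
    have : Smooth Z'.hom := inferInstanceAs (Smooth (pullback.fst Z.hom N.hom ≫ Z.hom))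
    have h0 : restrMap b Z' ≫ q ≫ u = restrMap b Z' ≫ q ≫ v := by
      rw [← Category.assoc, ← Category.assoc (restrMap b Z'), ← hnat, Category.assoc, Category.assoc, huv]
    have h1 : Ψ (q ≫ u) n = Ψ (q ≫ v) n := (hA Z' ‹_›).1 (show restrMap b Z' ≫ _ = restrMap b Z' ≫ _ by
      rw [hΨ, hΨ, h0])
    have h2 : q ≫ u = q ≫ v := by rw [← hΦΨ (q ≫ u) n, h1, hΦΨ]
    ext : 1
    have := hepi Z
    exact (cancel_epi (pullback.fst Z.hom N.hom)).1 (congrArg Over.Hom.left h2)
  intro Z hZ
  refine ⟨fun u v h => huniq Z hZ u v h, fun w => ?_⟩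
  let Z' : Over S := Over.mk (pullback.fst Z.hom N.hom ≫ Z.hom)
  let q : Z' ⟶ Z := Over.homMk (pullback.fst _ _)
  let n : Z' ⟶ N := Over.homMk (pullback.snd _ _) pullback.condition.symm
  have : Smooth Z'.hom := inferInstanceAs (Smooth (pullback.fst Z.hom N.hom ≫ Z.hom))
  obtain ⟨g, hg⟩ := (hA Z' ‹_›).2 (Ψ (L.map q ≫ w) (restrMap b Z' ≫ n))
  change restrMap b Z' ≫ g = Ψ (L.map q ≫ w) (restrMap b Z' ≫ n) at hg
  let h' : Z' ⟶ B := Φ g n
  have hh' : restrMap b Z' ≫ h' = L.map q ≫ w := by rw [hΦ, hg, hΦΨ]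
  have := hepi Z
  let Z'' : Over S := Over.mk (pullback.fst q.left q.left ≫ Z'.hom)
  let π₁ : Z'' ⟶ Z' := Over.homMk (pullback.fst _ _)
  let π₂ : Z'' ⟶ Z' := Over.homMk (pullback.snd _ _) (by
    show pullback.snd q.left q.left ≫ Z'.hom = pullback.fst q.left q.left ≫ Z'.hom
    rw [← Over.w q, ← Category.assoc, ← Category.assoc, pullback.condition])
  have : Smooth Z''.hom := by
    have : Smooth q.left := inferInstanceAs (Smooth (pullback.fst Z.hom N.hom))
    exact inferInstanceAs (Smooth (pullback.fst q.left q.left ≫ Z'.hom))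
  have hπ : π₁ ≫ q = π₂ ≫ q := by ext : 1; exact pullback.condition
  have heq : π₁ ≫ h' = π₂ ≫ h' := huniq Z'' ‹_› _ _ (by
    rw [← Category.assoc, ← Category.assoc (restrMap b Z''), ← hnat, ← hnat, Category.assoc, Category.assoc, hh',
      ← Category.assoc, ← Category.assoc, ← L.map_comp, ← L.map_comp, hπ])
  have hd : ∀ {W : Scheme.{u}} (g₁ g₂ : W ⟶ Z'.left), g₁ ≫ q.left = g₂ ≫ q.left → g₁ ≫ h'.left = g₂ ≫ h'.left := by
    intro W g₁ g₂ hgg
    have h1 : (π₁ ≫ h').left = (π₂ ≫ h').left := congrArg Over.Hom.left heq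
    rw [← pullback.lift_fst g₁ g₂ hgg, Category.assoc]
    conv_rhs => rw [← pullback.lift_snd g₁ g₂ hgg, Category.assoc]
    exact congrArg (pullback.lift g₁ g₂ hgg ≫ ·) h1
  let k : Z.left ⟶ B.left := EffectiveEpi.desc (pullback.fst Z.hom N.hom) h'.left hd
  have hk : pullback.fst Z.hom N.hom ≫ k = h'.left := EffectiveEpi.fac _ _ _
  have hkw : k ≫ B.hom = Z.hom := (cancel_epi (pullback.fst Z.hom N.hom)).1 (by
    rw [← Category.assoc, hk]; exact Over.w h')
  refine ⟨Over.homMk k hkw, ?_⟩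
  have hqk : q ≫ Over.homMk k hkw = h' := by ext : 1; exact hk
  have hepiL : ∀ x y : L.obj Z ⟶ B, L.map q ≫ x = L.map q ≫ y → x = y := by
    intro x y hxy
    ext : 1
    have : Flat (L.map q).left := ?_
    · have : Surjective (L.map q).left := ?_
      · have : LocallyOfFinitePresentation (L.map q).left := ?_
        · exact (cancel_epi (L.map q).left).1 (congrArg Over.Hom.left hxy)
        · exact MorphismProperty.of_isPullback (P := @LocallyOfFinitePresentation) (restrSquare b q)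
            (show LocallyOfFinitePresentation q.left from inferInstanceAs (LocallyOfFinitePresentation (pullback.fst Z.hom N.hom)))
      · exact MorphismProperty.of_isPullback (P := @Surjective) (restrSquare b q)
          (show Surjective q.left from inferInstanceAs (Surjective (pullback.fst Z.hom N.hom)))
    · exact MorphismProperty.of_isPullback (P := @Flat) (restrSquare b q)
        (show Flat q.left from inferInstanceAs (Flat (pullback.fst Z.hom N.hom)))
  refine hepiL _ _ ?_
  show L.map q ≫ restrMap b Z ≫ _ = _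
  rw [← Category.assoc, hnat, Category.assoc, hqk, hh']

end Groth.Agent.NeronHD28
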