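import Mathlib.RingTheory.DiscreteValuationRing.TFAE
import Mathlib.RingTheory.Valuation.ValuationRing
import Mathlib.RingTheory.LocalRing.ResidueField.Basic
import Mathlib.RingTheory.Polynomial.Basic
import Mathlib.RingTheory.Algebraic.Integral
import Mathlib.FieldTheory.IntermediateField.Adjoin.Basic
import Mathlib.FieldTheory.AlgebraicClosure
import Mathlib.RingTheory.Localization.AtPrime.Basic
import Mathlib.RingTheory.Localization.Submodule

/-!
Residue fields of discrete valuation rings dominating a local ring with two-generated maximal ideal: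
a chain of quadratic transforms ends at a ring whose residue field extension is generated by one element.
-/

set_option autoImplicit false
universe u

open IsLocalRing

namespace Groth.Agent.NeronHD28.ValChain

variable {O : Type u} [CommRing O] [IsDomain O] [IsDiscreteValuationRing O]

/-- Every element is a quotient of two elements of a subring. -/
def HasFrac {R : Type u} [CommRing R] (φ : R →+* O) : Prop :=
  ∀ x : O, ∃ a b : R, φ b ≠ 0 ∧ x * φ b = φ a

/-- The residues of the subring are algebraic over the given field. -/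
def ResAlg {R : Type u} [CommRing R] (φ : R →+* O) (k₀ : Subfield (ResidueField O)) : Prop :=
  ∀ r : R, IsAlgebraic k₀ (residue O (φ r))

variable {R : Type u} [CommRing R] [IsDomain R] [IsLocalRing R] [IsNoetherianRing R] (φ : R →+* O) [IsLocalHom φ]

section Step

variable (k₀ : Subfield (ResidueField O)) {u v : R} {t : O}

/-- The first quadratic transform. -/
noncomputable abbrev blow (t : O) : Subring O := (Polynomial.eval₂RingHom φ t).range

/-- A combination with coefficients in the maximal ideal is divisible by `u`. -/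
theorem eval_dvd (hm : maximalIdeal R = Ideal.span {u, v}) (ht : φ v = φ u * t) (p : Polynomial R)
    (hp : ∀ i, p.coeff i ∈ maximalIdeal R) : ∃ w : Polynomial R, p.eval₂ φ t = φ u * w.eval₂ φ t := by
  have hchoice : ∀ i, ∃ a b : R, a * u + b * v = p.coeff i := fun i => Ideal.mem_span_pair.1 (hm ▸ hp i)
  choose a b hab using hchoice
  refine ⟨∑ i ∈ p.support, (Polynomial.C (a i) + Polynomial.C (b i) * Polynomial.X) * Polynomial.X ^ i, ?_⟩
  rw [Polynomial.eval₂_finsetSum, Finset.mul_sum, Polynomial.eval₂_eq_sum, Polynomial.sum_def]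
  refine Finset.sum_congr rfl fun i _ => ?_
  rw [← hab i]
  simp only [map_add, map_mul, ht, Polynomial.eval₂_mul, Polynomial.eval₂_add, Polynomial.eval₂_C,
    Polynomial.eval₂_X, Polynomial.eval₂_X_pow]
  ring

/-- The residue map on the residue field of the subring. -/
noncomputable abbrev ψ : ResidueField R →+* ResidueField O := ResidueField.map φ

theorem residue_eval (p : Polynomial R) :
    residue O (p.eval₂ φ t) = (p.map (residue R)).eval₂ (ψ φ) (residue O t) := by
  rw [Polynomial.hom_eval₂, Polynomial.eval₂_map]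
  congr 1

theorem eval₂_mem {K L : Type u} [CommRing K] [Field L] {S : Type u} [SetLike S L] [SubringClass S L]
    (M : S) (f : K →+* L) (hf : ∀ c, f c ∈ M) {x : L} (hx : x ∈ M) (p : Polynomial K) : p.eval₂ f x ∈ M := by
  rw [Polynomial.eval₂_eq_sum, Polynomial.sum_def]
  exact sum_mem fun i _ => mul_mem (hf _) (pow_mem hx i)

end Step

open scoped IntermediateField in
theorem exists_adjoin_eq_top (k₀ : Subfield (ResidueField O)) {g : O} (hg : Transcendental k₀ (residue O g)) (n : ℕ) :
    ∀ (R : Type u) [CommRing R] [IsDomain R] [IsLocalRing R] [IsNoetherianRing R] (φ : R →+* O) [IsLocalHom φ],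
      Function.Injective φ → HasFrac φ → ResAlg φ k₀ → (∃ u v, maximalIdeal R = Ideal.span {u, v}) →
      ∀ a b : R, φ b ≠ 0 → g * φ b = φ a → IsDiscreteValuationRing.addVal O (φ b) ≤ n →
      ∃ T : ResidueField O, IntermediateField.adjoin (algebraicClosure k₀ (ResidueField O)) {T} = ⊤ := by
  induction n using Nat.strong_induction_on with
  | _ n ih =>
  intro R _ _ _ _ φ _ hinj hfrac hres hm a b hb hab hn
  let M := algebraicClosure k₀ (ResidueField O)
  have hM : ∀ r : R, residue O (φ r) ∈ M := fun r => mem_algebraicClosure_iff.2 (hres r)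
  -- `a` and `b` lie in the maximal ideal
  have hbm : b ∈ maximalIdeal R := by
    by_contra h
    obtain ⟨c, hc⟩ := (notMem_maximalIdeal.1 h).exists_left_inv
    have : g = φ (a * c) := by
      rw [map_mul, ← hab, mul_assoc, ← map_mul, mul_comm b, hc, map_one, mul_one]
    exact hg (this ▸ hres _)
  have ham : a ∈ maximalIdeal R := by
    by_contra h
    have h1 := (notMem_maximalIdeal.1 h).map φ
    rw [← hab] at h1
    exact (map_nonunit φ b hbm) (isUnit_of_mul_isUnit_right h1)
  obtain ⟨u₀, v₀, huv⟩ := hm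
  obtain ⟨u, v, hm, hdvd⟩ : ∃ u v, maximalIdeal R = Ideal.span {u, v} ∧ φ u ∣ φ v := by
    rcases ValuationRing.dvd_total (φ u₀) (φ v₀) with h | h
    · exact ⟨u₀, v₀, huv, h⟩
    · exact ⟨v₀, u₀, by rw [huv, Set.pair_comm], h⟩
  obtain ⟨t, ht⟩ := hdvd
  have hu0 : φ u ≠ 0 := by
    intro h0
    have hu : u = 0 := hinj (h0.trans (map_zero φ).symm)
    have hv : v = 0 := hinj (by rw [ht, h0, zero_mul, map_zero])
    rw [hm, hu, hv, Ideal.mem_span_pair] at hbm
    obtain ⟨x, y, hxy⟩ := hbm
    exact hb (by rw [← hxy]; simp)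
  have hum : u ∈ maximalIdeal R := hm ▸ Ideal.subset_span (by simp)
  -- the quadratic transform
  let R₁ := blow φ t
  have : IsNoetherianRing R₁ :=
    isNoetherianRing_of_surjective (Polynomial R) R₁ (Polynomial.eval₂RingHom φ t).rangeRestrict
      (Polynomial.eval₂RingHom φ t).rangeRestrict_surjective
  let ι : R₁ →+* O := R₁.subtype
  let el : Polynomial R → R₁ := fun p => (Polynomial.eval₂RingHom φ t).rangeRestrict p
  have hel : ∀ p, ι (el p) = p.eval₂ φ t := fun p => rfl
  have hsurj : ∀ x, ∃ p, el p = x := (Polynomial.eval₂RingHom φ t).rangeRestrict_surjective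
  let q : Ideal R₁ := (maximalIdeal O).comap ι
  have hq : q.IsPrime := inferInstance
  have huq : el (Polynomial.C u) ∈ q := by
    show ι (el _) ∈ maximalIdeal O
    rw [hel, Polynomial.eval₂_C]
    exact map_nonunit φ u hum
  let R₂ := Localization.AtPrime q
  have hι : ∀ s : q.primeCompl, IsUnit (ι s) := fun s => notMem_maximalIdeal.1 s.2
  let φ₂ : R₂ →+* O := IsLocalization.lift hι
  have hφ₂ : ∀ x, φ₂ (algebraMap R₁ R₂ x) = ι x := fun x => IsLocalization.lift_eq hι x
  have hloc : IsLocalHom φ₂ := ⟨fun x hx => by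
    obtain ⟨c, s, rfl⟩ := IsLocalization.exists_mk'_eq q.primeCompl x
    refine (IsLocalization.AtPrime.isUnit_mk'_iff R₂ q c s).2 fun hc => ?_
    rw [IsLocalization.lift_mk'] at hx
    exact hc (isUnit_of_mul_isUnit_left hx)⟩
  have hle : q.primeCompl ≤ nonZeroDivisors R₁ := q.primeCompl_le_nonZeroDivisors
  have hinj₂ : Function.Injective φ₂ :=
    (IsLocalization.lift_injective_iff hι).2 fun x y =>
      ⟨fun h => congrArg ι (IsLocalization.injective R₂ hle h), fun h => congrArg _ (Subtype.ext h)⟩
  have : IsDomain R₂ := hinj₂.isDomain φ₂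
  have : IsNoetherianRing R₂ := inferInstance
  let e : R → R₂ := fun r => algebraMap R₁ R₂ (el (Polynomial.C r))
  have he : ∀ r, φ₂ (e r) = φ r := fun r => by rw [hφ₂, hel, Polynomial.eval₂_C]
  have hfrac₂ : HasFrac φ₂ := fun x => by
    obtain ⟨a', b', hb', hx⟩ := hfrac x
    exact ⟨e a', e b', by rwa [he], by rw [he, he, hx]⟩
  by_cases hT : residue O t ∈ M
  · -- algebraic residue: continue the chain
    have hres₂ : ResAlg φ₂ k₀ := fun x => by
      obtain ⟨c, s, rfl⟩ := IsLocalization.exists_mk'_eq q.primeCompl x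
      refine mem_algebraicClosure_iff.1 ?_
      have hmem : ∀ y : R₁, residue O (ι y) ∈ M := fun y => by
        obtain ⟨p, rfl⟩ := hsurj y
        rw [hel, residue_eval]
        refine eval₂_mem M _ (fun c => ?_) hT _
        obtain ⟨r, rfl⟩ := residue_surjective c
        rw [ResidueField.map_residue]
        exact hM r
      have h1 := congrArg (residue O) (IsLocalization.lift_mk'_spec hι c (φ₂ (IsLocalization.mk' R₂ c s)) s |>.1 rfl)
      rw [map_mul] at h1
      have hs0 : residue O (ι s) ≠ 0 := fun h => (residue_eq_zero_iff _).1 h (hι s)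
      rw [eq_div_of_mul_eq hs0 ((mul_comm _ _).trans h1.symm)]
      exact div_mem (hmem c) (hmem s)
    let J : Ideal (Polynomial (ResidueField R)) := RingHom.ker (Polynomial.eval₂RingHom (ψ φ) (residue O t))
    obtain ⟨f₀, hf₀⟩ := (IsPrincipalIdealRing.principal J).principal
    obtain ⟨f, hf⟩ := Polynomial.map_surjective (residue R) residue_surjective f₀
    have hfq : el f ∈ q := by
      show ι (el f) ∈ maximalIdeal O
      rw [hel, ← residue_eq_zero_iff, residue_eval, hf]
      exact RingHom.mem_ker.1 (hf₀ ▸ Ideal.mem_span_singleton_self f₀ : f₀ ∈ J)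
    have hqspan : q = Ideal.span {el (Polynomial.C u), el f} := by
      refine le_antisymm (fun x hx => ?_) (Ideal.span_le.2 fun x hx => ?_)
      · obtain ⟨p, rfl⟩ := hsurj x
        have hpJ : p.map (residue R) ∈ J := by
          rw [RingHom.mem_ker, Polynomial.coe_eval₂RingHom, ← residue_eval, residue_eq_zero_iff, ← hel]
          exact hx
        rw [hf₀, Ideal.submodule_span_eq, Ideal.mem_span_singleton'] at hpJ
        obtain ⟨h₀, hh₀⟩ := hpJ
        obtain ⟨h, rfl⟩ := Polynomial.map_surjective (residue R) residue_surjective h₀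
        obtain ⟨w, hw⟩ := eval_dvd φ hm ht (p - h * f) fun i => by
          rw [← residue_eq_zero_iff, ← Polynomial.coeff_map, Polynomial.map_sub, Polynomial.map_mul, hf, hh₀, sub_self,
            Polynomial.coeff_zero]
        refine Ideal.mem_span_pair.2 ⟨el w, el h, Subtype.ext ?_⟩
        show ι (el w * el (Polynomial.C u) + el h * el f) = ι (el p)
        rw [Polynomial.eval₂_sub, Polynomial.eval₂_mul] at hw
        rw [map_add, map_mul, map_mul, hel, hel, hel, hel, hel, Polynomial.eval₂_C]
        linear_combination -hw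
      · rcases Set.mem_insert_iff.1 hx with rfl | hx
        · exact huq
        · rw [Set.mem_singleton_iff.1 hx]; exact hfq
    have hm₂ : ∃ u' v', maximalIdeal R₂ = Ideal.span {u', v'} := by
      refine ⟨algebraMap R₁ R₂ (el (Polynomial.C u)), algebraMap R₁ R₂ (el f), ?_⟩
      rw [← IsLocalization.AtPrime.map_eq_maximalIdeal q R₂]
      rw [congrArg (Ideal.map (algebraMap R₁ R₂)) hqspan, Ideal.map_span, Set.image_pair]
    obtain ⟨a₁, a₂, ha'⟩ := Ideal.mem_span_pair.1 (hm ▸ ham)
    obtain ⟨b₁, b₂, hb'⟩ := Ideal.mem_span_pair.1 (hm ▸ hbm)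
    let A : R₂ := algebraMap R₁ R₂ (el (Polynomial.C a₁ + Polynomial.C a₂ * Polynomial.X))
    let B : R₂ := algebraMap R₁ R₂ (el (Polynomial.C b₁ + Polynomial.C b₂ * Polynomial.X))
    have hA : φ a = φ u * φ₂ A := by
      rw [hφ₂, hel, ← ha']
      simp only [map_add, map_mul, ht, Polynomial.eval₂_add, Polynomial.eval₂_mul, Polynomial.eval₂_C, Polynomial.eval₂_X]
      ring
    have hB : φ b = φ u * φ₂ B := by
      rw [hφ₂, hel, ← hb']
      simp only [map_add, map_mul, ht, Polynomial.eval₂_add, Polynomial.eval₂_mul, Polynomial.eval₂_C, Polynomial.eval₂_X]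
      ring
    have hB0 : φ₂ B ≠ 0 := fun h => hb (by rw [hB, h, mul_zero])
    have hAB : g * φ₂ B = φ₂ A := mul_left_cancel₀ hu0 (by rw [← hA, ← hab, hB]; ring)
    -- the valuation drops
    obtain ⟨π, hπ⟩ := IsDiscreteValuationRing.exists_irreducible O
    obtain ⟨i, hi⟩ : ∃ i : ℕ, IsDiscreteValuationRing.addVal O (φ u) = i :=
      ENat.ne_top_iff_exists.1 (by rw [Ne, IsDiscreteValuationRing.addVal_eq_top_iff]; exact hu0) |>.imp fun _ h => h.symm
    obtain ⟨j, hj⟩ : ∃ j : ℕ, IsDiscreteValuationRing.addVal O (φ₂ B) = j :=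
      ENat.ne_top_iff_exists.1 (by rw [Ne, IsDiscreteValuationRing.addVal_eq_top_iff]; exact hB0) |>.imp fun _ h => h.symm
    have hi0 : i ≠ 0 := by
      intro h0
      rw [h0, Nat.cast_zero, IsDiscreteValuationRing.addVal_eq_zero_iff] at hi
      exact map_nonunit φ u hum hi
    have hij : i + j ≤ n := by
      rw [hB, IsDiscreteValuationRing.addVal_mul, hi, hj] at hn
      exact_mod_cast hn
    exact ih j (by omega) R₂ φ₂ hinj₂ hfrac₂ hres₂ hm₂ A B hB0 hAB (le_of_eq hj)
  · -- transcendental residue: the transform is the valuation ring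
    refine ⟨residue O t, ?_⟩
    have htr : Transcendental M (residue O t) := fun h =>
      hT (mem_algebraicClosure_iff.2 (h.restrictScalars k₀))
    have hψM : ∀ c, ψ φ c ∈ M := fun c => by
      obtain ⟨r, rfl⟩ := residue_surjective c
      rw [ResidueField.map_residue]
      exact hM r
    have hqspan : q = Ideal.span {el (Polynomial.C u)} := by
      refine le_antisymm (fun x hx => ?_) (Ideal.span_le.2 (Set.singleton_subset_iff.2 huq))
      obtain ⟨p, rfl⟩ := hsurj x
      have h0 : residue O (p.eval₂ φ t) = 0 := (residue_eq_zero_iff _).2 (hel p ▸ hx)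
      rw [residue_eval] at h0
      let ψM : ResidueField R →+* M := (ψ φ).codRestrict M.toSubfield hψM
      have h1 : Polynomial.aeval (residue O t) ((p.map (residue R)).map ψM) = 0 := by
        rw [Polynomial.aeval_def, Polynomial.eval₂_map]
        exact h0
      have h2 : (p.map (residue R)).map ψM = 0 := by
        by_contra hne
        exact htr ⟨_, hne, h1⟩
      have h3 := (Polynomial.map_eq_zero_iff ψM.injective).1 h2
      obtain ⟨w, hw⟩ := eval_dvd φ hm ht p fun i => by
        rw [← residue_eq_zero_iff, ← Polynomial.coeff_map, h3, Polynomial.coeff_zero]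
      refine Ideal.mem_span_singleton'.2 ⟨el w, Subtype.ext ?_⟩
      show ι (el w * el (Polynomial.C u)) = ι (el p)
      rw [map_mul, hel, hel, hel, Polynomial.eval₂_C, hw, mul_comm]
    have hval : ValuationRing R₂ := by
      have hnf : ¬ IsField R₂ := fun hF => by
        have h1 : algebraMap R₁ R₂ (el (Polynomial.C u)) = 0 := by
          by_contra hne
          obtain ⟨y, hy⟩ := hF.mul_inv_cancel hne
          have h2 := (IsUnit.of_mul_eq_one _ hy).map φ₂
          exact map_nonunit φ u hum (he u ▸ h2)
        exact hu0 (by rw [← he u]; exact (congrArg φ₂ h1).trans (map_zero _))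
      refine ((IsDiscreteValuationRing.TFAE R₂ hnf).out 4 1).mp ?_
      refine ⟨⟨algebraMap R₁ R₂ (el (Polynomial.C u)), ?_⟩⟩
      rw [← IsLocalization.AtPrime.map_eq_maximalIdeal q R₂, congrArg (Ideal.map (algebraMap R₁ R₂)) hqspan,
        Ideal.map_span, Set.image_singleton]
    have hφsurj : Function.Surjective φ₂ := fun y => by
      obtain ⟨a', b', hb', hy⟩ := hfrac₂ y
      by_cases hy0 : y = 0
      · exact ⟨0, by rw [map_zero, hy0]⟩
      rcases ValuationRing.dvd_total b' a' with ⟨c, hc⟩ | ⟨c, hc⟩
      · exact ⟨c, mul_left_cancel₀ hb' (by rw [← map_mul, ← hc, ← hy, mul_comm])⟩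
      · have h1 : y * φ₂ c = 1 := by
          have ha' : φ₂ a' ≠ 0 := fun h => mul_ne_zero hy0 hb' (hy.trans h)
          refine mul_left_cancel₀ ha' ?_
          rw [mul_one]
          conv_rhs => rw [← hy, hc, map_mul]
          ring
        obtain ⟨c', hc'⟩ := (hloc.map_nonunit c (IsUnit.of_mul_eq_one _ ((mul_comm _ _).trans h1))).exists_right_inv
        exact ⟨c', by rw [← mul_one (φ₂ c'), ← h1]; rw [mul_left_comm, ← map_mul, mul_comm c', hc', map_one, mul_one]⟩
    let A := IntermediateField.adjoin M {residue O t}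
    have hA : ∀ y : R₁, residue O (ι y) ∈ A := fun y => by
      obtain ⟨p, rfl⟩ := hsurj y
      rw [hel, residue_eval]
      exact eval₂_mem A _ (fun c => A.algebraMap_mem ⟨_, hψM c⟩) (IntermediateField.mem_adjoin_simple_self _ _) _
    refine eq_top_iff.2 fun l _ => ?_
    obtain ⟨y, rfl⟩ := residue_surjective l
    obtain ⟨x, rfl⟩ := hφsurj y
    obtain ⟨c, s, rfl⟩ := IsLocalization.exists_mk'_eq q.primeCompl x
    have h1 := congrArg (residue O) (IsLocalization.lift_mk'_spec hι c (φ₂ (IsLocalization.mk' R₂ c s)) s |>.1 rfl)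
    rw [map_mul] at h1
    have hs0 : residue O (ι s) ≠ 0 := fun h => (residue_eq_zero_iff _).1 h (hι s)
    rw [eq_div_of_mul_eq hs0 ((mul_comm _ _).trans h1.symm)]
    exact div_mem (hA c) (hA s)

end Groth.Agent.NeronHD28.ValChain
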