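import Groth.Prelude
import Groth.Agent.An92.Rat.SchDenseOps
import Groth.Agent.SGA3a.SchemDense
import Groth.Agent.Fam20.QuasiSection

/-!
# Uniqueness in the Néron mapping property from étale test schemes, in characteristic zero
-/

set_option autoImplicit false
universe u

open CategoryTheory CategoryTheory.Limits AlgebraicGeometry TensorProduct

namespace Groth.Agent.NeronHD28

set_option maxHeartbeats 1000000 in
/-- A nonempty locally closed subset of the spectrum of a finite type algebra contains a prime with residue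
field finite over that of the base. -/
theorem exists_finite_residue {R B : Type u} [CommRing R] [CommRing B] [Algebra R B] [Algebra.FiniteType R B]
    (P : Ideal B) [P.IsPrime] (J : Ideal B) (hJ : J ≤ P) (f : B) (hf : f ∉ P) :
    ∃ (Q : Ideal B) (_ : Q.IsPrime), J ≤ Q ∧ f ∉ Q ∧ ∃ (p : Ideal R) (_ : p.IsPrime)
      (_ : Algebra p.ResidueField Q.ResidueField) (_ : IsScalarTower R p.ResidueField Q.ResidueField),
      Module.Finite p.ResidueField Q.ResidueField := by
  let p := P.comap (algebraMap R B)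
  let B' := Localization.Away (Ideal.Quotient.mk J f)
  haveI : Algebra.FiniteType R (B ⧸ J) :=
    Algebra.FiniteType.of_surjective (Ideal.Quotient.mkₐ R J) Ideal.Quotient.mk_surjective
  haveI : Algebra.FiniteType (B ⧸ J) B' :=
    IsLocalization.finiteType_of_monoid_fg (Submonoid.powers (Ideal.Quotient.mk J f)) B'
  haveI : Algebra.FiniteType R B' := Algebra.FiniteType.trans (R := R) (S := B ⧸ J) inferInstance inferInstance
  let T := p.ResidueField ⊗[R] B'
  haveI : Algebra.FiniteType p.ResidueField T := inferInstance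
  haveI hT : Nontrivial T := by
    let bar : B ⧸ J →ₐ[R] P.ResidueField := Ideal.Quotient.liftₐ J (IsScalarTower.toAlgHom R B P.ResidueField)
      fun a ha => Ideal.algebraMap_residueField_eq_zero.2 (hJ ha)
    have hu : IsUnit (bar (Ideal.Quotient.mk J f)) := isUnit_iff_ne_zero.2 fun h0 => hf
      (Ideal.algebraMap_residueField_eq_zero.1 h0)
    let ψ : B' →ₐ[R] P.ResidueField := IsLocalization.liftAlgHom (M := Submonoid.powers (Ideal.Quotient.mk J f))
      (f := bar) (by rintro ⟨_, m, rfl⟩; rw [map_pow]; exact hu.pow m)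
    let ρ : p.ResidueField →ₐ[R] P.ResidueField := Ideal.ResidueField.mapₐ p P (Algebra.ofId R B) rfl
    exact (Algebra.TensorProduct.lift ρ ψ fun _ _ => Commute.all _ _).toRingHom.domain_nontrivial
  obtain ⟨m, hm⟩ := Ideal.exists_maximal T
  let Ω := T ⧸ m
  letI : Field Ω := Ideal.Quotient.field m
  haveI : Algebra.FiniteType p.ResidueField Ω :=
    Algebra.FiniteType.of_surjective (Ideal.Quotient.mkₐ p.ResidueField m) Ideal.Quotient.mk_surjective
  haveI : Module.Finite p.ResidueField Ω := finite_of_finite_type_of_isJacobsonRing _ _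
  let toB' : B →ₐ[R] B' := (IsScalarTower.toAlgHom R (B ⧸ J) B').comp (Ideal.Quotient.mkₐ R J)
  let φ : B →ₐ[R] Ω := ((Ideal.Quotient.mkₐ R m).comp Algebra.TensorProduct.includeRight).comp toB'
  refine ⟨RingHom.ker φ.toRingHom, RingHom.ker_isPrime _, fun a ha => ?_, fun hfQ => ?_, ?_⟩
  · refine RingHom.mem_ker.2 ?_
    show φ a = 0
    simp only [φ, toB', AlgHom.comp_apply, Ideal.Quotient.mkₐ_eq_mk, Ideal.Quotient.eq_zero_iff_mem.2 ha,
      map_zero]
  · have hu : IsUnit (φ f) := (IsLocalization.Away.algebraMap_isUnit (S := B') (Ideal.Quotient.mk J f)).map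
      ((Ideal.Quotient.mkₐ R m).comp Algebra.TensorProduct.includeRight)
    exact hu.ne_zero (RingHom.mem_ker.1 hfQ)
  · haveI : (RingHom.ker φ.toRingHom).IsPrime := RingHom.ker_isPrime _
    let Q := RingHom.ker φ.toRingHom
    let θ : Q.ResidueField →ₐ[R] Ω := Ideal.ResidueField.liftₐ Q φ le_rfl fun x hx =>
      isUnit_iff_ne_zero.2 hx
    have hp : p = Q.comap (algebraMap R B) := by
      ext r
      show r ∈ p ↔ φ (algebraMap R B r) = 0
      rw [φ.commutes, IsScalarTower.algebraMap_apply R p.ResidueField Ω,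
        map_eq_zero_iff _ (algebraMap p.ResidueField Ω).injective, Ideal.algebraMap_residueField_eq_zero]
    let ρ : p.ResidueField →ₐ[R] Q.ResidueField := Ideal.ResidueField.mapₐ p Q (Algebra.ofId R B) hp
    refine ⟨p, inferInstance, ρ.toRingHom.toAlgebra,
      @IsScalarTower.of_algebraMap_eq _ _ _ _ _ _ _ ρ.toRingHom.toAlgebra _ fun r => (ρ.commutes r).symm, ?_⟩
    letI := ρ.toRingHom.toAlgebra
    haveI : IsScalarTower R p.ResidueField Q.ResidueField := IsScalarTower.of_algebraMap_eq fun r =>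
      (ρ.commutes r).symm
    have hθ : θ.comp ρ = IsScalarTower.toAlgHom R p.ResidueField Ω := Ideal.ResidueField.algHom_ext (Subsingleton.elim _ _)
    let θ' : Q.ResidueField →ₐ[p.ResidueField] Ω :=
      { toRingHom := θ.toRingHom
        commutes' := fun x => DFunLike.congr_fun hθ x }
    exact Module.Finite.of_injective θ'.toLinearMap θ'.toRingHom.injective

theorem formallyUnramified_residue {k R B : Type u} [Field k] [CharZero k] [CommRing R] [CommRing B]
    [Algebra R B] [Algebra.FiniteType R B] (σ : k →+* R) (Q : Ideal B) [Q.IsPrime] (p : Ideal R) [p.IsPrime]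
    [Algebra p.ResidueField Q.ResidueField] [IsScalarTower R p.ResidueField Q.ResidueField]
    [Module.Finite p.ResidueField Q.ResidueField] : Algebra.FormallyUnramified R Q.ResidueField := by
  haveI : CharZero p.ResidueField :=
    charZero_of_injective_ringHom ((algebraMap R p.ResidueField).comp σ).injective
  haveI : Algebra.IsSeparable p.ResidueField Q.ResidueField := inferInstance
  haveI : Algebra.FormallyUnramified p.ResidueField Q.ResidueField :=
    (Algebra.FormallyUnramified.iff_isSeparable _ _).2 inferInstance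
  haveI : Algebra.FormallyUnramified (R ⧸ p) p.ResidueField :=
    Algebra.FormallyUnramified.of_isLocalization (nonZeroDivisors (R ⧸ p))
  haveI : Algebra.FormallyUnramified R p.ResidueField := Algebra.FormallyUnramified.comp R (R ⧸ p) _
  exact Algebra.FormallyUnramified.comp R p.ResidueField Q.ResidueField

variable {S : Scheme.{u}}

theorem restrict_left_comp {S₀ : S.Opens} {Z N : Over S} {g h : Z ⟶ N}
    (e : (Over.pullback S₀.ι).map g = (Over.pullback S₀.ι).map h) {T : Scheme.{u}} (t : T ⟶ Z.left)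
    (ht : ∀ a, Z.hom.base (t.base a) ∈ S₀) : t ≫ g.left = t ≫ h.left := by
  let w : T ⟶ (S₀ : Scheme.{u}) := IsOpenImmersion.lift S₀.ι (t ≫ Z.hom) (by
    rw [Scheme.Opens.range_ι]; rintro _ ⟨a, rfl⟩; exact ht a)
  let l : T ⟶ pullback Z.hom S₀.ι := pullback.lift t w (IsOpenImmersion.lift_fac _ _ _).symm
  have h1 : pullback.fst Z.hom S₀.ι ≫ g.left = pullback.fst Z.hom S₀.ι ≫ h.left := by
    have := congrArg (fun m => m.left ≫ pullback.fst N.hom S₀.ι) e
    simpa [pullback.lift_fst] using this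
  have := congrArg (fun m => l ≫ m) h1
  simpa [l, pullback.lift_fst_assoc] using this

theorem subset_range_equalizer {k : Type u} [Field k] [CharZero k] (σ : S ⟶ Spec (CommRingCat.of k))
    {S₀ : S.Opens} {N Z : Over S} [Smooth Z.hom]
    (hN : ∀ U : Over S, Etale U.hom → Function.Bijective (fun g : U ⟶ N => (Over.pullback S₀.ι).map g))
    (g h : Z ⟶ N) (e : (Over.pullback S₀.ι).map g = (Over.pullback S₀.ι).map h)
    {E : Scheme.{u}} (i : E ⟶ Z.left)
    (hlift : ∀ {T : Scheme.{u}} (t : T ⟶ Z.left), t ≫ g.left = t ≫ h.left → ∃ l : T ⟶ E, l ≫ i = t)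
    (O F : Set Z.left) (hO : IsOpen O) (hF : IsClosed F) (t : Z.left) (htO : t ∈ O) (htF : t ∈ F) :
    ∃ z ∈ O ∩ F, z ∈ Set.range i.base := by
  obtain ⟨_, ⟨V, hV, rfl⟩, htV, -⟩ :=
    S.isBasis_affineOpens.exists_subset_of_mem_open (Set.mem_univ (Z.hom.base t)) isOpen_univ
  obtain ⟨W, hW, htW, hWs⟩ : ∃ W : Z.left.Opens, IsAffineOpen W ∧ t ∈ W ∧ W ≤ Z.hom ⁻¹ᵁ V := by
    obtain ⟨_, ⟨W, hW, rfl⟩, htW, hWs⟩ :=
      Z.left.isBasis_affineOpens.exists_subset_of_mem_open (show t ∈ Z.hom ⁻¹ᵁ V from htV) (Z.hom ⁻¹ᵁ V).2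
    exact ⟨W, hW, htW, hWs⟩
  have hsm : (Z.hom.appLE V W hWs).hom.Smooth := Z.hom.smooth_appLE hV hW hWs
  let σ₀ : k →+* Γ(S, V) :=
    ((Scheme.ΓSpecIso (CommRingCat.of k)).inv ≫ σ.appLE ⊤ V le_top).hom
  algebraize [(Z.hom.appLE V W hWs).hom]
  obtain ⟨⟨P, hP⟩, hPt⟩ : t ∈ Set.range hW.fromSpec.base := hW.range_fromSpec.ge htW
  obtain ⟨J, hJ⟩ : ∃ J : Set Γ(Z.left, W), hW.fromSpec.base ⁻¹' F = PrimeSpectrum.zeroLocus J :=
    (PrimeSpectrum.isClosed_iff_zeroLocus _).1 (hF.preimage hW.fromSpec.continuous)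
  obtain ⟨_, ⟨f, rfl⟩, hfP, hfO⟩ := PrimeSpectrum.isTopologicalBasis_basic_opens.exists_subset_of_mem_open
    (show (⟨P, hP⟩ : PrimeSpectrum Γ(Z.left, W)) ∈ hW.fromSpec.base ⁻¹' O by
      show hW.fromSpec.base _ ∈ O; rw [hPt]; exact htO) (hO.preimage hW.fromSpec.continuous)
  have hJP : Ideal.span J ≤ P := Ideal.span_le.2 ((PrimeSpectrum.mem_zeroLocus _ _).1 (hJ.le
    (show hW.fromSpec.base ⟨P, hP⟩ ∈ F by rw [hPt]; exact htF)))
  obtain ⟨Q, _, hJQ, hfQ, p, _, _, _, hfin⟩ := exists_finite_residue (R := Γ(S, V)) P (Ideal.span J) hJP f hfP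
  haveI := formallyUnramified_residue σ₀ Q p
  obtain ⟨W', ⟨χ⟩⟩ := Fam20.exists_qs (R := Γ(S, V)) Q
  refine ⟨hW.fromSpec.base ⟨Q, inferInstance⟩, ⟨hfO hfQ, ?_⟩, ?_⟩
  · exact hJ.ge ((PrimeSpectrum.mem_zeroLocus _ _).2 (Ideal.span_le.1 hJQ))
  -- the étale quasi-section
  let u : Spec (CommRingCat.of W'.Z) ⟶ Z.left :=
    Spec.map (CommRingCat.ofHom (algebraMap Γ(Z.left, W) W'.Z)) ≫ hW.fromSpec
  have hu : u ≫ Z.hom = Spec.map (CommRingCat.ofHom (algebraMap Γ(S, V) W'.Z)) ≫ hV.fromSpec := by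
    rw [Category.assoc, ← IsAffineOpen.SpecMap_appLE_fromSpec Z.hom hV hW hWs, ← Spec.map_comp_assoc,
      IsScalarTower.algebraMap_eq Γ(S, V) Γ(Z.left, W) W'.Z]
    rfl
  let U : Over S := Over.mk (u ≫ Z.hom)
  haveI : Etale U.hom := by
    show Etale (u ≫ Z.hom)
    rw [hu]
    haveI : Etale (Spec.map (CommRingCat.ofHom (algebraMap Γ(S, V) W'.Z))) := by
      rw [HasRingHomProperty.Spec_iff (P := @Etale)]
      exact RingHom.etale_algebraMap.2 W'.etale
    haveI : IsOpenImmersion (IsAffineOpen.fromSpec hV) := IsAffineOpen.isOpenImmersion_fromSpec hV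
    haveI : Etale (IsAffineOpen.fromSpec hV) := inferInstance
    exact Etale.etale_comp _ _
  let uO : U ⟶ Z := Over.homMk u rfl
  have huv : uO ≫ g = uO ≫ h := (hN U inferInstance).1 (by
    show (Over.pullback S₀.ι).map (uO ≫ g) = (Over.pullback S₀.ι).map (uO ≫ h)
    rw [Functor.map_comp, Functor.map_comp, e])
  obtain ⟨l, hl⟩ := hlift u (congrArg CommaMorphism.left huv)
  let q : PrimeSpectrum W'.Z := ⟨RingHom.ker χ.toRingHom, RingHom.ker_isPrime _⟩
  have hq : u.base q = hW.fromSpec.base ⟨Q, inferInstance⟩ := by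
    show hW.fromSpec.base _ = _
    congr 1
    refine PrimeSpectrum.ext ?_
    ext b
    show χ (algebraMap Γ(Z.left, W) W'.Z b) = 0 ↔ b ∈ Q
    rw [χ.commutes, Ideal.algebraMap_residueField_eq_zero]
  exact ⟨l.base q, by rw [← hq, ← hl]; rfl⟩

theorem restrict_injective {k : Type u} [Field k] [CharZero k] (σ : S ⟶ Spec (CommRingCat.of k))
    [IsLocallyNoetherian S] (S₀ : S.Opens) (hS₀ : CInt.IsSchematicallyDense S₀)
    (N : Over S) (hN : ∀ U : Over S, Etale U.hom → Function.Bijective (fun g : U ⟶ N => (Over.pullback S₀.ι).map g))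
    (Z : Over S) [Smooth Z.hom] :
    Function.Injective (fun g : Z ⟶ N => (Over.pullback S₀.ι).map g) := by
  intro g h e
  refine Over.OverMorphism.ext ?_
  obtain ⟨E, i, hi, -, hiab, hlift⟩ := SGA3a.exists_equalizer N.hom g.left h.left
    (by rw [Over.w, Over.w])
  obtain ⟨m, hm⟩ := hlift (Z.hom ⁻¹ᵁ S₀).ι (restrict_left_comp e _ fun a =>
    (Scheme.Opens.range_ι (Z.hom ⁻¹ᵁ S₀)).le ⟨a, rfl⟩)
  have hr : Set.range i.base = Set.univ := by
    have hlc : IsLocallyClosed (Set.range i.base) := i.isLocallyClosed_range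
    refine Set.eq_univ_iff_forall.2 fun t => by_contra fun ht => ?_
    by_cases htc : t ∈ closure (Set.range i.base)
    · have hcl : IsClosed (closure (Set.range i.base) \ Set.range i.base) := by
        have hc : closure (Set.range i.base) \ Set.range i.base = (coborder (Set.range i.base))ᶜ := by
          simp [coborder]
        rw [hc]
        exact hlc.isOpen_coborder.isClosed_compl
      obtain ⟨z, ⟨hz1, hz2⟩, hz3⟩ := subset_range_equalizer σ hN g h e i hlift Set.univ
        (closure (Set.range i.base) \ Set.range i.base) isOpen_univ hcl t trivial ⟨htc, ht⟩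
      exact hz2.2 hz3
    · obtain ⟨z, ⟨hz1, -⟩, hz3⟩ := subset_range_equalizer σ hN g h e i hlift
        (closure (Set.range i.base))ᶜ Set.univ isClosed_closure.isOpen_compl isClosed_univ t htc trivial
      exact hz1 (subset_closure hz3)
  haveI : IsClosedImmersion i := IsClosedImmersion.of_isPreimmersion i (by
    show IsClosed (Set.range i.base)
    rw [hr]; exact isClosed_univ)
  haveI := SGA3a.isIso_of_schemDense i _ (An92.Rat.schDense_preimage_of_flat Z.hom hS₀) m hm
  rwa [← cancel_epi i]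

end Groth.Agent.NeronHD28
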