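import Groth.Agent.CycCov3.Regular
import Mathlib.AlgebraicGeometry.EllipticCurve.Affine.Point
import Mathlib.RingTheory.RegularLocalRing.Polynomial

/-! Regularity of affine Weierstrass schemes over a DVR. -/

set_option autoImplicit false
universe u

open Polynomial
open scoped Polynomial.Bivariate

namespace Groth.Agent.NeronHD28

theorem notMem_sq_atPrime_of_derivation {A : Type u} [CommRing A] (P : Ideal A) [P.IsPrime] (F : A)
    (D : A → A) (hDadd : ∀ a b, D (a + b) = D a + D b) (hDmul : ∀ a b, D (a * b) = D a * b + a * D b)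
    (hD : D F ∉ P) :
    algebraMap A (Localization.AtPrime P) F ∉ IsLocalRing.maximalIdeal (Localization.AtPrime P) ^ 2 := by
  intro h
  rw [← Localization.AtPrime.map_eq_maximalIdeal, ← Ideal.map_pow,
    IsLocalization.algebraMap_mem_map_algebraMap_iff P.primeCompl] at h
  obtain ⟨s, hs, hsF⟩ := h
  have hFP : F ∈ P := (‹P.IsPrime›.mem_or_mem (Ideal.pow_le_self two_ne_zero hsF)).resolve_left hs
  have key : ∀ z ∈ P ^ 2, D z ∈ P := by
    intro z hz
    rw [pow_two] at hz
    refine Submodule.mul_induction_on hz (fun a ha b hb => ?_) (fun a b ha hb => ?_)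
    · rw [hDmul]; exact P.add_mem (P.mul_mem_left _ hb) (P.mul_mem_right _ ha)
    · rw [hDadd]; exact P.add_mem ha hb
  have h1 := key _ hsF
  rw [hDmul] at h1
  have h2 : s * D F ∈ P := by
    have := P.sub_mem h1 (P.mul_mem_left (D s) hFP)
    rwa [add_sub_cancel_left] at this
  exact hD ((‹P.IsPrime›.mem_or_mem h2).resolve_left hs)

theorem notMem_sq_atPrime_of_eval {A R : Type u} [CommRing A] [CommRing R] [IsLocalRing R]
    (P : Ideal A) [P.IsPrime] (ev : A →+* R) (hP : P = (IsLocalRing.maximalIdeal R).comap ev) (F : A)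
    (hF : ev F ∉ IsLocalRing.maximalIdeal R ^ 2) :
    algebraMap A (Localization.AtPrime P) F ∉ IsLocalRing.maximalIdeal (Localization.AtPrime P) ^ 2 := by
  intro h
  rw [← Localization.AtPrime.map_eq_maximalIdeal, ← Ideal.map_pow,
    IsLocalization.algebraMap_mem_map_algebraMap_iff P.primeCompl] at h
  obtain ⟨s, hs, hsF⟩ := h
  have h1 : ev (s * F) ∈ IsLocalRing.maximalIdeal R ^ 2 := by
    have := Ideal.mem_map_of_mem ev hsF
    rw [Ideal.map_pow] at this
    exact Ideal.pow_right_mono (Ideal.map_le_iff_le_comap.2 hP.le) 2 this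
  rw [map_mul] at h1
  have hu : IsUnit (ev s) := by
    by_contra hc
    exact hs (hP ▸ (IsLocalRing.mem_maximalIdeal _).2 hc)
  exact hF ((Ideal.unit_mul_mem_iff_mem _ hu).1 h1)

variable {R : Type u} [CommRing R]

/-- Partial derivative with respect to the inner variable. -/
noncomputable def innerDeriv (p : R[X][Y]) : R[X][Y] :=
  Bivariate.swap (R := R) (derivative (Bivariate.swap (R := R) p))

theorem innerDeriv_add (a b : R[X][Y]) : innerDeriv (a + b) = innerDeriv a + innerDeriv b := by
  simp only [innerDeriv, map_add]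

theorem innerDeriv_mul (a b : R[X][Y]) : innerDeriv (a * b) = innerDeriv a * b + a * innerDeriv b := by
  simp only [innerDeriv, map_mul, derivative_mul, map_add, Bivariate.swap_swap_apply]

theorem innerDeriv_polynomial (W : WeierstrassCurve.Affine R) : innerDeriv W.polynomial = W.polynomialX := by
  simp only [innerDeriv, WeierstrassCurve.Affine.polynomial, WeierstrassCurve.Affine.polynomialX,
    map_add, map_sub, map_mul, map_pow, Bivariate.swap_Y, Bivariate.swap_X, Bivariate.swap_C_C]
  simp only [derivative_add, derivative_sub, derivative_mul, derivative_pow, derivative_X, derivative_C]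
  simp only [map_add, map_sub, map_mul, map_pow, map_zero, map_one, Bivariate.swap_Y, Bivariate.swap_X,
    Bivariate.swap_C_C, map_natCast]
  simp only [Nat.cast_ofNat, Nat.reduceSub, pow_one, map_ofNat]
  ring

theorem derivative_polynomial (W : WeierstrassCurve.Affine R) : derivative W.polynomial = W.polynomialY := by
  simp [WeierstrassCurve.Affine.polynomial, WeierstrassCurve.Affine.polynomialY, derivative_pow, map_ofNat]

theorem ker_mk (W : WeierstrassCurve.Affine R) :
    RingHom.ker (WeierstrassCurve.Affine.CoordinateRing.mk W) = Ideal.span {W.polynomial} := by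
  ext p
  rw [RingHom.mem_ker, Ideal.mem_span_singleton]
  exact AdjoinRoot.mk_eq_zero

variable [IsDomain R] [IsDiscreteValuationRing R]

theorem notMem_sq_origin (W : WeierstrassCurve.Affine R) (P : Ideal R[X][Y]) [P.IsPrime]
    (hP : ∀ r ∈ IsLocalRing.maximalIdeal R, C (C r) ∈ P) (hx : C X ∈ P) (hy : (X : R[X][Y]) ∈ P)
    (h6' : W.a₆ ∉ IsLocalRing.maximalIdeal R ^ 2) :
    algebraMap R[X][Y] (Localization.AtPrime P) W.polynomial ∉
      IsLocalRing.maximalIdeal (Localization.AtPrime P) ^ 2 := by
  let ev : R[X][Y] →+* R := evalEvalRingHom 0 0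
  refine notMem_sq_atPrime_of_eval P ev ?_ _ ?_
  · have hsub : ∀ p : R[X][Y], p - C (C (ev p)) ∈ P := by
      intro p
      have h1 : (X : R[X][Y]) ∣ p - C (p.coeff 0) := by
        rw [X_dvd_iff, coeff_sub, coeff_C_zero, sub_self]
      have h2 : (X : R[X]) ∣ p.coeff 0 - C ((p.coeff 0).coeff 0) := by
        rw [X_dvd_iff, coeff_sub, coeff_C_zero, sub_self]
      have h3 : ev p = (p.coeff 0).coeff 0 := by
        show evalEval 0 0 p = _
        simp [evalEval, coeff_zero_eq_eval_zero]
      obtain ⟨a, ha⟩ := h1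
      obtain ⟨b, hb⟩ := h2
      have : p - C (C (ev p)) = X * a + C X * C b := by
        rw [← map_mul, ← hb, ← ha, h3, map_sub]
        ring
      rw [this]
      exact P.add_mem (P.mul_mem_right _ hy) (P.mul_mem_right _ hx)
    ext p
    rw [Ideal.mem_comap]
    constructor
    · intro hp
      by_contra hc
      have hu : IsUnit (ev p) := not_not.1 fun h => hc ((IsLocalRing.mem_maximalIdeal _).2 h)
      have h1 : C (C (ev p)) ∈ P := by
        have := P.sub_mem hp (hsub p)
        rwa [sub_sub_cancel] at this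
      exact ‹P.IsPrime›.ne_top (P.eq_top_of_isUnit_mem h1 ((hu.map C).map C))
    · intro hp
      have := P.add_mem (hsub p) (hP _ hp)
      rwa [sub_add_cancel] at this
  · show evalEval 0 0 W.polynomial ∉ _
    rw [WeierstrassCurve.Affine.evalEval_polynomial]
    intro hc
    apply h6'
    have := Ideal.neg_mem_iff _ |>.2 hc
    convert this using 1
    ring

theorem isRegular_atPrime_coordinateRing (W : WeierstrassCurve.Affine R)
    (Q : Ideal W.CoordinateRing) [Q.IsPrime]
    (h : algebraMap R[X][Y] (Localization.AtPrime (Q.comap (WeierstrassCurve.Affine.CoordinateRing.mk W))) W.polynomial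
      ∉ IsLocalRing.maximalIdeal (Localization.AtPrime (Q.comap (WeierstrassCurve.Affine.CoordinateRing.mk W))) ^ 2) :
    IsRegularLocalRing (Localization.AtPrime Q) :=
  CycCov3.regular_quotient_of_notMem_sq _ AdjoinRoot.mk_surjective _ (ker_mk W) Q h

theorem notMem_sq_any (W : WeierstrassCurve.Affine R) (hΔ : W.Δ ≠ 0)
    (h3 : W.a₃ ∈ IsLocalRing.maximalIdeal R) (h4 : W.a₄ ∈ IsLocalRing.maximalIdeal R)
    (h6 : W.a₆ ∈ IsLocalRing.maximalIdeal R) (h6' : W.a₆ ∉ IsLocalRing.maximalIdeal R ^ 2)
    (P : Ideal R[X][Y]) [P.IsPrime] (hF : W.polynomial ∈ P) :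
    algebraMap R[X][Y] (Localization.AtPrime P) W.polynomial ∉
      IsLocalRing.maximalIdeal (Localization.AtPrime P) ^ 2 := by
  by_cases hX : W.polynomialX ∈ P
  swap
  · exact notMem_sq_atPrime_of_derivation P _ innerDeriv innerDeriv_add innerDeriv_mul (innerDeriv_polynomial W ▸ hX)
  by_cases hY : W.polynomialY ∈ P
  swap
  · exact notMem_sq_atPrime_of_derivation P _ (fun p => derivative p) (fun a b => derivative_add)
      (fun a b => derivative_mul) (derivative_polynomial W ▸ hY)
  let φ : R[X][Y] →+* P.ResidueField := algebraMap R[X][Y] P.ResidueField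
  have hφ : ∀ p, φ p = 0 ↔ p ∈ P := fun p => Ideal.algebraMap_residueField_eq_zero
  let g : R →+* P.ResidueField := φ.comp (C.comp C)
  let a := φ (C X)
  let b := φ X
  have eF : b ^ 2 + g W.a₁ * a * b + g W.a₃ * b - (a ^ 3 + g W.a₂ * a ^ 2 + g W.a₄ * a + g W.a₆) = 0 := by
    rw [← (hφ _).2 hF]
    simp only [g, a, b, WeierstrassCurve.Affine.polynomial, RingHom.coe_comp, Function.comp_apply, map_add, map_sub, map_mul, map_pow]
    ring
  have eX : g W.a₁ * b - (3 * a ^ 2 + 2 * g W.a₂ * a + g W.a₄) = 0 := by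
    rw [← (hφ _).2 hX]
    simp only [g, a, b, WeierstrassCurve.Affine.polynomialX, RingHom.coe_comp, Function.comp_apply, map_add, map_sub, map_mul, map_pow, map_ofNat]
  have eY : 2 * b + g W.a₁ * a + g W.a₃ = 0 := by
    rw [← (hφ _).2 hY]
    simp only [g, a, b, WeierstrassCurve.Affine.polynomialY, RingHom.coe_comp, Function.comp_apply, map_add, map_sub, map_mul, map_pow, map_ofNat]
    ring
  by_cases hm : ∀ r ∈ IsLocalRing.maximalIdeal R, C (C r) ∈ P
  · have z : ∀ r ∈ IsLocalRing.maximalIdeal R, g r = 0 := fun r hr => (hφ _).2 (hm r hr)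
    rw [z _ h3, z _ h4, z _ h6] at eF
    rw [z _ h4] at eX
    rw [z _ h3] at eY
    have ha : a = 0 := pow_eq_zero_iff (n := 3) (by decide) |>.1 (by linear_combination 2 * eF - b * eY - a * eX)
    have hb : b = 0 := pow_eq_zero_iff (n := 2) (by decide) |>.1 (by
      rw [ha] at eF
      linear_combination eF)
    exact notMem_sq_origin W P hm ((hφ _).1 ha) ((hφ _).1 hb) h6'
  · exfalso
    have hker : RingHom.ker g = ⊥ := by
      by_contra hne
      have : (RingHom.ker g).IsMaximal := (RingHom.ker_isPrime g).isMaximal hne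
      exact hm fun r hr => (hφ _).1 (RingHom.mem_ker.1 ((IsLocalRing.eq_maximalIdeal this).symm ▸ hr : r ∈ RingHom.ker g))
    have hinj : Function.Injective g := (RingHom.injective_iff_ker_eq_bot g).2 hker
    let W' : WeierstrassCurve.Affine P.ResidueField := W.map g
    have hΔ' : W'.Δ ≠ 0 := by
      show (W.map g).Δ ≠ 0
      rw [WeierstrassCurve.map_Δ]
      exact (map_ne_zero_iff g hinj).2 hΔ
    have heq : W'.Equation a b := (W'.equation_iff' a b).2 eF
    have := ((W'.nonsingular_iff' a b).1 ((W'.equation_iff_nonsingular_of_Δ_ne_zero hΔ').1 heq)).2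
    rcases this with h | h
    · exact h eX
    · exact h eY

end Groth.Agent.NeronHD28
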