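import Groth.Agent.NeronHD28.WeilPoint

/-! The extension theorem of Weil for rational maps into group schemes. -/

set_option autoImplicit false
universe u

open CategoryTheory CategoryTheory.Limits AlgebraicGeometry

namespace Groth.Agent.NeronHD28

variable {R : Type u} [CommRing R] [IsDedekindDomain R] {X G : Scheme.{u}}
  (pX : X ⟶ Spec (CommRingCat.of R)) (pG : G ⟶ Spec (CommRingCat.of R))

omit [IsDedekindDomain R] in
theorem dense_of_fibre_dense (U : X.Opens)
    (hdense : ∀ x : X, x ∈ closure ((U : Set X) ∩ {y | pX.base y = pX.base x})) : Dense (U : Set X) :=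
  fun x => closure_mono Set.inter_subset_left (hdense x)

variable [Smooth pX] [IsSeparated pG]

theorem ext_of_dense (U : X.Opens) (hU : Dense (U : Set X)) (g g' : X ⟶ G) (hg : g ≫ pG = pX) (hg' : g' ≫ pG = pX)
    (h : U.ι ≫ g = U.ι ≫ g') : g = g' := by
  have := isReduced_of_smooth pX
  have : IsDominant U.ι := ⟨by rw [DenseRange, Scheme.Opens.range_ι]; exact hU⟩
  exact ext_of_isDominant_of_isSeparated pG (hg.trans hg'.symm) U.ι h

variable [GrpObj (Over.mk pG)] [LocallyOfFiniteType pG]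

theorem exists_weil_lift (U : X.Opens)
    (hdense : ∀ x : X, x ∈ closure ((U : Set X) ∩ {y | pX.base y = pX.base x}))
    (hcodim : ∀ x : X, x ∉ U → (2 : WithBot ℕ∞) ≤ ringKrullDim (X.presheaf.stalk x))
    (f : (U : Scheme.{u}) ⟶ G) (hf : f ≫ pG = U.ι ≫ pX) (x : X) [IsDomain (X.presheaf.stalk x)]
    (k : Spec (CommRingCat.of (FractionRing (X.presheaf.stalk x))) ⟶ (U : Scheme.{u}))
    (hk : k ≫ U.ι = fracPt (X.presheaf.stalk x) ≫ X.fromSpecStalk x) :
    ∃ l : Spec (X.presheaf.stalk x) ⟶ G, l ≫ pG = X.fromSpecStalk x ≫ pX ∧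
      fracPt (X.presheaf.stalk x) ≫ l = k ≫ f := by
  obtain ⟨W, g, hW, hg, hagree⟩ :=
    exists_diag_extension pX pG (dense_of_fibre_dense pX U hdense) hcodim f hf x
  obtain ⟨v, hvW, hv, hvU⟩ := exists_point_fibre pX U hdense x W hW
  subst hv
  exact exists_lift_of_diag_extension pX pG f hf W g hg hagree v hvW hvU k hk

/-- Weil: a morphism defined outside codimension two and densely in all fibres extends. -/
theorem weil_extension (U : X.Opens)
    (hdense : ∀ x : X, x ∈ closure ((U : Set X) ∩ {y | pX.base y = pX.base x}))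
    (hcodim : ∀ x : X, x ∉ U → (2 : WithBot ℕ∞) ≤ ringKrullDim (X.presheaf.stalk x))
    (f : (U : Scheme.{u}) ⟶ G) (hf : f ≫ pG = U.ι ≫ pX) :
    ∃! g : X ⟶ G, g ≫ pG = pX ∧ U.ι ≫ g = f := by
  have := isLocallyNoetherian_of_smooth pX
  have := isReduced_of_smooth pX
  have hU := dense_of_fibre_dense pX U hdense
  obtain ⟨V, hUV, g', hg', hgU, hV⟩ := EGA73.exists_extension pG pX U hU f hf Set.univ fun x _ => by
    have := isDomain_stalk_of_smooth pX x
    exact exists_local_extension' pG pX U hU f hf x fun k hk => exists_weil_lift pX pG U hdense hcodim f hf x k hk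
  have hVtop : V = ⊤ := top_le_iff.1 fun x _ => hV x trivial
  subst hVtop
  refine ⟨X.topIso.inv ≫ g', ⟨?_, ?_⟩, fun g hg => ?_⟩
  · rw [Category.assoc, hg', ← Scheme.topIso_hom, Iso.inv_hom_id_assoc]
  · rw [← hgU, ← Category.assoc]
    congr 1
    rw [← cancel_mono (⊤ : X.Opens).ι, Category.assoc, Scheme.homOfLE_ι, ← Scheme.topIso_hom, Iso.inv_hom_id, Category.comp_id]
  · refine ext_of_dense pX pG U hU _ _ hg.1 (by rw [Category.assoc, hg', ← Scheme.topIso_hom, Iso.inv_hom_id_assoc]) ?_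
    rw [hg.2, ← hgU, ← Category.assoc]
    congr 1
    rw [← cancel_mono (⊤ : X.Opens).ι, Category.assoc, Scheme.homOfLE_ι, ← Scheme.topIso_hom, Iso.inv_hom_id, Category.comp_id]

end Groth.Agent.NeronHD28
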