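import Mathlib.RingTheory.Localization.NumDen
import Mathlib.RingTheory.Ideal.KrullsHeightTheorem
import Mathlib.RingTheory.Flat.FaithfullyFlat.Algebra
import Mathlib.RingTheory.Localization.AtPrime.Basic
import Mathlib.RingTheory.RingHom.Flat

/-! Algebra for the extension theorem of Weil. -/

set_option autoImplicit false
universe u

namespace Groth.Agent.NeronHD28

/-- A fraction of a UFD which is defined at the primes lying over the primes of height at most one of `A`. -/
theorem mem_range_of_defined_codim_one {B A K : Type u} [CommRing B] [IsDomain B] [UniqueFactorizationMonoid B]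
    [CommRing A] [IsNoetherianRing A] (Δ : B →+* A) [IsLocalHom Δ] [Field K] [Algebra B K] [IsFractionRing B K]
    (c : K) (H : ∀ (z : Ideal A) [z.IsPrime], z.height ≤ 1 →
      ∃ a s : B, s ∉ z.comap Δ ∧ c * algebraMap B K s = algebraMap B K a) :
    c ∈ (algebraMap B K).range := by
  obtain ⟨a, b, hab, hc⟩ := IsFractionRing.exists_reduced_fraction B c
  by_cases hb : IsUnit (b : B)
  · obtain ⟨v, hv⟩ := hb
    refine ⟨a * (v⁻¹ : Bˣ), ?_⟩
    rw [← hc, IsLocalization.eq_mk'_iff_mul_eq, ← map_mul, ← hv, mul_assoc, Units.inv_mul, mul_one]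
  exfalso
  have hΔb : ¬ IsUnit (Δ b) := fun h => hb (isUnit_of_map_unit Δ _ h)
  have hne : Ideal.span {Δ b} ≠ ⊤ := by rwa [Ne, Ideal.span_singleton_eq_top]
  obtain ⟨z, hz⟩ := Ideal.nonempty_minimalPrimes hne
  have : z.IsPrime := hz.1.1
  obtain ⟨a', s, hs, has⟩ := H z (Ideal.height_le_one_of_isPrincipal_of_mem_minimalPrimes (Ideal.span {Δ b}) z hz)
  have hc' : c * algebraMap B K b = algebraMap B K a := by
    rw [← hc, IsLocalization.mk'_spec]
  have h1 : a * s = a' * b := by
    apply IsFractionRing.injective B K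
    rw [map_mul, map_mul, ← hc', ← has]
    ring
  have hdvd : (b : B) ∣ s := hab.symm.dvd_of_dvd_mul_left ⟨a', by rw [h1, mul_comm]⟩
  obtain ⟨d, rfl⟩ := hdvd
  refine hs ?_
  rw [Ideal.mem_comap, map_mul]
  exact z.mul_mem_right _ (hz.1.2 (Ideal.mem_span_singleton_self _))

/-- Descent of regularity of a fraction along a faithfully flat map of domains. -/
theorem mem_range_of_flat_local {A B K L : Type u} [CommRing A] [IsDomain A] [IsLocalRing A] [CommRing B] [IsLocalRing B]
    (φ : A →+* B) [IsLocalHom φ] (hφ : φ.Flat) [Field K] [Algebra A K] [IsFractionRing A K]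
    [Field L] [Algebra B L] [FaithfulSMul B L] (κ : K →+* L)
    (hκ : κ.comp (algebraMap A K) = (algebraMap B L).comp φ) (c : K) (hc : κ c ∈ (algebraMap B L).range) :
    c ∈ (algebraMap A K).range := by
  obtain ⟨a, b, hb, rfl⟩ := IsFractionRing.div_surjective (A := A) c
  obtain ⟨e, he⟩ := hc
  have hbK : algebraMap A K b ≠ 0 := IsFractionRing.to_map_ne_zero_of_mem_nonZeroDivisors hb
  have hκ' : ∀ x, κ (algebraMap A K x) = algebraMap B L (φ x) := fun x => RingHom.congr_fun hκ x
  have h1 : φ a = e * φ b := by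
    apply FaithfulSMul.algebraMap_injective B L
    rw [map_mul, he, ← hκ', ← hκ', ← map_mul, div_mul_cancel₀ _ hbK]
  algebraize [φ]
  have : IsLocalHom (algebraMap A B) := ‹IsLocalHom φ›
  have : Module.Flat A B := hφ
  have : Module.FaithfullyFlat A B := Module.FaithfullyFlat.of_flat_of_isLocalHom
  have h2 : a ∈ ((Ideal.span {b}).map (algebraMap A B)).comap (algebraMap A B) := by
    rw [Ideal.mem_comap, Ideal.map_span, Set.image_singleton, Ideal.mem_span_singleton]
    exact ⟨e, h1.trans (mul_comm _ _)⟩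
  rw [Ideal.comap_map_eq_self_of_faithfullyFlat, Ideal.mem_span_singleton] at h2
  obtain ⟨d, rfl⟩ := h2
  exact ⟨d, by rw [map_mul, mul_div_cancel_left₀ _ hbK]⟩

end Groth.Agent.NeronHD28
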