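import Mathlib.CategoryTheory.Monoidal.Cartesian.Over
import Mathlib.CategoryTheory.Monoidal.Cartesian.Grp
import Mathlib.AlgebraicGeometry.Pullbacks

/-! Multiplying morphisms into a group scheme. -/

set_option autoImplicit false
universe u

open CategoryTheory CategoryTheory.Limits AlgebraicGeometry MonObj CartesianMonoidalCategory MonoidalCategory

namespace Groth.Agent.NeronHD28

variable {S G : Scheme.{u}} (p : G ⟶ S) [GrpObj (Over.mk p)]

/-- The unit section. -/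
noncomputable def unitSec : S ⟶ G := (η[Over.mk p]).left

theorem unitSec_comp : unitSec p ≫ p = 𝟙 S := Over.w (η[Over.mk p])

/-- The product of two morphisms over the base. -/
noncomputable def gMul {T : Scheme.{u}} (t : T ⟶ S) (a b : T ⟶ G) (ha : a ≫ p = t) (hb : b ≫ p = t) : T ⟶ G :=
  ((Over.homMk a ha : Over.mk t ⟶ Over.mk p) * Over.homMk b hb).left

/-- The quotient of two morphisms over the base. -/
noncomputable def gDiv {T : Scheme.{u}} (t : T ⟶ S) (a b : T ⟶ G) (ha : a ≫ p = t) (hb : b ≫ p = t) : T ⟶ G :=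
  ((Over.homMk a ha : Over.mk t ⟶ Over.mk p) * (Over.homMk b hb)⁻¹).left

theorem gMul_over {T : Scheme.{u}} (t : T ⟶ S) (a b : T ⟶ G) (ha : a ≫ p = t) (hb : b ≫ p = t) :
    gMul p t a b ha hb ≫ p = t :=
  Over.w _

theorem gDiv_over {T : Scheme.{u}} (t : T ⟶ S) (a b : T ⟶ G) (ha : a ≫ p = t) (hb : b ≫ p = t) :
    gDiv p t a b ha hb ≫ p = t :=
  Over.w _

theorem gMul_congr {T : Scheme.{u}} {t t' : T ⟶ S} {a a' b b' : T ⟶ G} {ha : a ≫ p = t} {hb : b ≫ p = t}
    {ha' : a' ≫ p = t'} {hb' : b' ≫ p = t'} (h₁ : a = a') (h₂ : b = b') :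
    gMul p t a b ha hb = gMul p t' a' b' ha' hb' := by
  subst h₁ h₂
  subst ha
  subst ha'
  rfl

theorem comp_gMul {T T' : Scheme.{u}} (h : T' ⟶ T) (t : T ⟶ S) (a b : T ⟶ G) (ha : a ≫ p = t) (hb : b ≫ p = t) :
    h ≫ gMul p t a b ha hb = gMul p (h ≫ t) (h ≫ a) (h ≫ b) (by rw [Category.assoc, ha]) (by rw [Category.assoc, hb]) := by
  have key := MonObj.comp_mul (Over.homMk h rfl : Over.mk (h ≫ t) ⟶ Over.mk t)
    (Over.homMk a ha : Over.mk t ⟶ Over.mk p) (Over.homMk b hb)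
  exact congrArg Over.Hom.left key

theorem comp_gDiv {T T' : Scheme.{u}} (h : T' ⟶ T) (t : T ⟶ S) (a b : T ⟶ G) (ha : a ≫ p = t) (hb : b ≫ p = t) :
    h ≫ gDiv p t a b ha hb = gDiv p (h ≫ t) (h ≫ a) (h ≫ b) (by rw [Category.assoc, ha]) (by rw [Category.assoc, hb]) := by
  have key := MonObj.comp_mul (Over.homMk h rfl : Over.mk (h ≫ t) ⟶ Over.mk t)
    (Over.homMk a ha : Over.mk t ⟶ Over.mk p) (Over.homMk b hb)⁻¹
  rw [GrpObj.comp_inv] at key
  exact congrArg Over.Hom.left key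

theorem gMul_gDiv_cancel {T : Scheme.{u}} (t : T ⟶ S) (a b : T ⟶ G) (ha : a ≫ p = t) (hb : b ≫ p = t) :
    gMul p t (gDiv p t a b ha hb) b (gDiv_over p t a b ha hb) hb = a := by
  show ((Over.homMk a ha : Over.mk t ⟶ Over.mk p) * (Over.homMk b hb)⁻¹ * Over.homMk b hb).left = a
  rw [inv_mul_cancel_right]
  rfl

theorem gDiv_self {T : Scheme.{u}} (t : T ⟶ S) {a b : T ⟶ G} (ha : a ≫ p = t) (hb : b ≫ p = t) (h : a = b) :
    gDiv p t a b ha hb = t ≫ unitSec p := by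
  subst h
  show ((Over.homMk a ha : Over.mk t ⟶ Over.mk p) * (Over.homMk a hb)⁻¹).left = _
  rw [_root_.mul_inv_cancel]
  show (toUnit (Over.mk t)).left ≫ unitSec p = _
  congr 1

end Groth.Agent.NeronHD28
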