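import Groth.Agent.NeronHD28.WeilAlg
import Groth.Agent.NeronHD28.WeilLift
import Groth.Agent.NeronHD28.WeilGroup
import Groth.Agent.NeronHD28.SmoothReg
import Groth.Agent.RegUFD52.Basic
import Mathlib.AlgebraicGeometry.Morphisms.Smooth

/-! The difference map extends near the diagonal. -/

set_option autoImplicit false
universe u

open CategoryTheory CategoryTheory.Limits AlgebraicGeometry

namespace Groth.Agent.NeronHD28

set_option maxHeartbeats 800000

variable {R : Type u} [CommRing R] [IsDedekindDomain R] {X G : Scheme.{u}}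
  (pX : X ⟶ Spec (CommRingCat.of R)) (pG : G ⟶ Spec (CommRingCat.of R))
  [GrpObj (Over.mk pG)]

/-- The domain of the difference map. -/
noncomputable abbrev pairOpen (U : X.Opens) : (pullback pX pX).Opens :=
  pullback.fst pX pX ⁻¹ᵁ U ⊓ pullback.snd pX pX ⁻¹ᵁ U

/-- The structure map of the product. -/
noncomputable abbrev pairHom : pullback pX pX ⟶ Spec (CommRingCat.of R) := pullback.fst pX pX ≫ pX

/-- First projection into `U`. -/
noncomputable abbrev pairFst (U : X.Opens) : (pairOpen pX U : Scheme.{u}) ⟶ (U : Scheme.{u}) :=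
  (pullback.fst pX pX).resLE U (pairOpen pX U) inf_le_left

/-- Second projection into `U`. -/
noncomputable abbrev pairSnd (U : X.Opens) : (pairOpen pX U : Scheme.{u}) ⟶ (U : Scheme.{u}) :=
  (pullback.snd pX pX).resLE U (pairOpen pX U) inf_le_right

omit [IsDedekindDomain R] in
theorem pairFst_ι (U : X.Opens) : pairFst pX U ≫ U.ι = (pairOpen pX U).ι ≫ pullback.fst pX pX :=
  Scheme.Hom.resLE_comp_ι _ _

omit [IsDedekindDomain R] in
theorem pairSnd_ι (U : X.Opens) : pairSnd pX U ≫ U.ι = (pairOpen pX U).ι ≫ pullback.snd pX pX :=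
  Scheme.Hom.resLE_comp_ι _ _

omit [IsDedekindDomain R] [GrpObj (Over.mk pG)] in
theorem pairFst_over {U : X.Opens} {f : (U : Scheme.{u}) ⟶ G} (hf : f ≫ pG = U.ι ≫ pX) :
    (pairFst pX U ≫ f) ≫ pG = (pairOpen pX U).ι ≫ pairHom pX := by
  rw [Category.assoc, hf, ← Category.assoc, pairFst_ι, Category.assoc]

omit [IsDedekindDomain R] [GrpObj (Over.mk pG)] in
theorem pairSnd_over {U : X.Opens} {f : (U : Scheme.{u}) ⟶ G} (hf : f ≫ pG = U.ι ≫ pX) :
    (pairSnd pX U ≫ f) ≫ pG = (pairOpen pX U).ι ≫ pairHom pX := by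
  rw [Category.assoc, hf, ← Category.assoc, pairSnd_ι, Category.assoc, ← pullback.condition]

/-- The difference map. -/
noncomputable def diffMap {U : X.Opens} (f : (U : Scheme.{u}) ⟶ G) (hf : f ≫ pG = U.ι ≫ pX) :
    (pairOpen pX U : Scheme.{u}) ⟶ G :=
  gDiv pG ((pairOpen pX U).ι ≫ pairHom pX) (pairFst pX U ≫ f) (pairSnd pX U ≫ f)
    (pairFst_over pX pG hf) (pairSnd_over pX pG hf)

omit [IsDedekindDomain R] in
theorem diffMap_diag {U : X.Opens} (f : (U : Scheme.{u}) ⟶ G) (hf : f ≫ pG = U.ι ≫ pX)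
    (d : (U : Scheme.{u}) ⟶ pairOpen pX U) (hd : d ≫ (pairOpen pX U).ι = U.ι ≫ pullback.diagonal pX) :
    d ≫ diffMap pX pG f hf = U.ι ≫ pX ≫ unitSec pG := by
  have h₁ : d ≫ pairFst pX U = 𝟙 _ := by
    rw [← cancel_mono U.ι, Category.assoc, pairFst_ι, ← Category.assoc, hd, Category.assoc,
      pullback.diagonal_fst, Category.comp_id, Category.id_comp]
  have h₂ : d ≫ pairSnd pX U = 𝟙 _ := by
    rw [← cancel_mono U.ι, Category.assoc, pairSnd_ι, ← Category.assoc, hd, Category.assoc,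
      pullback.diagonal_snd, Category.comp_id, Category.id_comp]
  rw [diffMap, comp_gDiv, gDiv_self _ _ _ _ (by rw [← Category.assoc, h₁, ← Category.assoc, h₂])]
  rw [← Category.assoc d, hd]
  simp only [Category.assoc, pairHom, pullback.diagonal_fst_assoc]

omit [IsDedekindDomain R] [GrpObj (Over.mk pG)] in
/-- Extension near a point of a section `Δ` along which the map is defined outside codimension two. -/
theorem exists_extension_along {S P : Scheme.{u}} [S.IsSeparated] [IsLocallyNoetherian P] [IsReduced P]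
    [IsLocallyNoetherian X] (pG : G ⟶ S) [IsSeparated pG] [LocallyOfFiniteType pG] (q : P ⟶ S)
    (W2 : P.Opens) (hW2 : Dense (W2 : Set P)) (φ : (W2 : Scheme.{u}) ⟶ G) (hφ : φ ≫ pG = W2.ι ≫ q)
    (Δ : X ⟶ P) (x : X) [IsDomain (X.presheaf.stalk x)] [IsDomain (P.presheaf.stalk (Δ.base x))]
    [UniqueFactorizationMonoid (P.presheaf.stalk (Δ.base x))]
    {U : X.Opens} (hcodim : ∀ x : X, x ∉ U → (2 : WithBot ℕ∞) ≤ ringKrullDim (X.presheaf.stalk x))
    (d : (U : Scheme.{u}) ⟶ W2) (hd : d ≫ W2.ι = U.ι ≫ Δ)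
    (H : G.Opens) (hH : IsAffineOpen H)
    (hdH : ∀ w : (U : Scheme.{u}), U.ι.base w ⤳ x → φ.base (d.base w) ∈ H) :
    ∃ (W : P.Opens) (g : (W : Scheme.{u}) ⟶ G), Δ.base x ∈ W ∧ g ≫ pG = W.ι ≫ q ∧
      P.homOfLE (inf_le_left : W ⊓ W2 ≤ W) ≫ g = P.homOfLE (inf_le_right : W ⊓ W2 ≤ W2) ≫ φ := by
  let y : P := Δ.base x
  let B := P.presheaf.stalk y
  let A := X.presheaf.stalk x
  refine exists_local_extension' pG q W2 hW2 φ hφ y fun k hk => ?_
  let K := FractionRing B
  have key : ∀ z : PrimeSpectrum A, z.asIdeal.height ≤ 1 →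
      ∃ (ι : CommRingCat.of (Localization.AtPrime (z.asIdeal.comap (Δ.stalkMap x).hom)) ⟶ CommRingCat.of K)
        (lz : Spec (CommRingCat.of (Localization.AtPrime (z.asIdeal.comap (Δ.stalkMap x).hom))) ⟶ G),
        (∀ b : B, ι (algebraMap B _ b) = algebraMap B K b) ∧ Set.range lz ⊆ (H : Set G) ∧
          Spec.map ι ≫ lz = k ≫ φ := by
    intro z hz
    let pz : Ideal B := z.asIdeal.comap (Δ.stalkMap x).hom
    let Bq := Localization.AtPrime pz
    let z' : X := (X.fromSpecStalk x).base z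
    have hz' : z' ∈ U := by
      by_contra hc
      have h2 := hcodim z' hc
      rw [ringKrullDim_stalk_fromSpecStalk X x z] at h2
      have h3 : (2 : WithBot ℕ∞) ≤ ((1 : ℕ∞) : WithBot ℕ∞) := h2.trans (WithBot.coe_le_coe.2 hz)
      exact absurd h3 (by decide)
    let w : (U : Scheme.{u}) := ⟨z', hz'⟩
    let j : Spec (CommRingCat.of Bq) ⟶ P := Spec.map (CommRingCat.ofHom (algebraMap B Bq)) ≫ P.fromSpecStalk y
    have hjc : j.base (IsLocalRing.closedPoint Bq) = W2.ι.base (d.base w) := by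
      rw [← Scheme.Hom.comp_apply, hd, Scheme.Hom.comp_apply]
      show (P.fromSpecStalk y).base ((Spec.map (CommRingCat.ofHom (algebraMap B Bq))).base _) = Δ.base z'
      have h1 : (Spec.map (CommRingCat.ofHom (algebraMap B Bq))).base (IsLocalRing.closedPoint Bq) =
          (Spec.map (Δ.stalkMap x)).base z := by
        refine PrimeSpectrum.ext ?_
        exact IsLocalization.AtPrime.comap_maximalIdeal Bq pz
      rw [h1, ← Scheme.Hom.comp_apply, Scheme.SpecMap_stalkMap_fromSpecStalk, Scheme.Hom.comp_apply]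
    have hjr : Set.range j ⊆ (W2 : Set P) :=
      range_subset_of_closedPoint_mem j W2 (by rw [hjc]; exact (d.base w).2)
    let j' := IsOpenImmersion.lift W2.ι j (by rwa [Scheme.Opens.range_ι])
    have hj' : j' ≫ W2.ι = j := IsOpenImmersion.lift_fac _ _ _
    have hj'c : j'.base (IsLocalRing.closedPoint Bq) = d.base w :=
      W2.ι.isOpenEmbedding.injective (by rw [← Scheme.Hom.comp_apply, hj', hjc])
    let ι : CommRingCat.of Bq ⟶ CommRingCat.of K := CommRingCat.ofHom
      (IsLocalization.lift (M := pz.primeCompl) (g := algebraMap B K) fun s =>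
        isUnit_iff_ne_zero.2 (IsFractionRing.to_map_ne_zero_of_mem_nonZeroDivisors
          (pz.primeCompl_le_nonZeroDivisors s.2)))
    refine ⟨ι, j' ≫ φ, fun b => IsLocalization.lift_eq _ b, range_subset_of_closedPoint_mem _ H ?_, ?_⟩
    · rw [Scheme.Hom.comp_apply, hj'c]
      refine hdH w ?_
      have : z' ∈ Set.range (X.fromSpecStalk x).base := ⟨z, rfl⟩
      rw [Scheme.range_fromSpecStalk] at this
      exact this
    · rw [← Category.assoc]
      congr 1
      rw [← cancel_mono W2.ι, Category.assoc, hj', hk, ← Category.assoc, ← Spec.map_comp]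
      congr 2
      exact CommRingCat.hom_ext (RingHom.ext fun b => IsLocalization.lift_eq _ b)
  have hover : (k ≫ φ) ≫ pG = fracPt B ≫ P.fromSpecStalk y ≫ q := by
    rw [Category.assoc]
    rw [hφ]
    rw [← Category.assoc, hk, Category.assoc]
  have hxH : (k ≫ φ).base (IsLocalRing.closedPoint _) ∈ H := by
    obtain ⟨ι, lz, -, hlz, hι⟩ := key (⊥ : PrimeSpectrum A) (by rw [show ((⊥ : PrimeSpectrum A).asIdeal) = ⊥ from rfl, Ideal.height_bot]; exact zero_le_one)
    rw [← hι]
    exact hlz ⟨_, rfl⟩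
  refine exists_lift_of_forall_mem_range pG B (P.fromSpecStalk y ≫ q) (k ≫ φ) hover hH hxH fun ρ hρ h => ?_
  refine mem_range_of_defined_codim_one (Δ.stalkMap x).hom (ρ h) fun z hz hz1 => ?_
  obtain ⟨ι, lz, hι, hlz, hιx⟩ := key ⟨z, hz⟩ hz1
  obtain ⟨ρ', hρ'⟩ := chart_eq_of_lift ι lz hH hlz (k ≫ φ) hιx ρ hρ
  obtain ⟨⟨a, s⟩, hs⟩ := IsLocalization.surj (z.comap (Δ.stalkMap x).hom).primeCompl (ρ' h)
  refine ⟨a, s, s.2, ?_⟩
  rw [hρ', CommRingCat.comp_apply, ← hι, ← hι, ← map_mul, hs]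


variable [Smooth pX] [IsSeparated pG] [LocallyOfFiniteType pG]

omit [GrpObj (Over.mk pG)] [IsSeparated pG] [LocallyOfFiniteType pG] [IsDedekindDomain R] in
theorem dense_pairOpen {U : X.Opens} (hU : Dense (U : Set X)) :
    Dense (pairOpen pX U : Set ↥(pullback pX pX)) := by
  have h₁ : Dense (pullback.fst pX pX ⁻¹ᵁ U : Set ↥(pullback pX pX)) := hU.preimage (pullback.fst pX pX).isOpenMap
  have h₂ : Dense (pullback.snd pX pX ⁻¹ᵁ U : Set ↥(pullback pX pX)) := hU.preimage (pullback.snd pX pX).isOpenMap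
  exact h₁.inter_of_isOpen_left h₂ (pullback.fst pX pX ⁻¹ᵁ U).2

theorem exists_diag_extension {U : X.Opens} (hU : Dense (U : Set X))
    (hcodim : ∀ x : X, x ∉ U → (2 : WithBot ℕ∞) ≤ ringKrullDim (X.presheaf.stalk x))
    (f : (U : Scheme.{u}) ⟶ G) (hf : f ≫ pG = U.ι ≫ pX) (x : X) :
    ∃ (W : (pullback pX pX).Opens) (g : (W : Scheme.{u}) ⟶ G), (pullback.diagonal pX).base x ∈ W ∧
      g ≫ pG = W.ι ≫ pairHom pX ∧
      (pullback pX pX).homOfLE (inf_le_left : W ⊓ pairOpen pX U ≤ W) ≫ g =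
        (pullback pX pX).homOfLE (inf_le_right : W ⊓ pairOpen pX U ≤ pairOpen pX U) ≫ diffMap pX pG f hf := by
  let q := pairHom pX
  have : Smooth q := inferInstance
  have := isLocallyNoetherian_of_smooth q
  have := isReduced_of_smooth q
  have := isLocallyNoetherian_of_smooth pX
  let P := pullback pX pX
  let Δ := pullback.diagonal pX
  let y : P := Δ.base x
  have hBreg := regular_stalk_of_smooth q y
  have := isDomain_stalk_of_smooth q y
  have := isDomain_stalk_of_smooth pX x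
  have : UniqueFactorizationMonoid (P.presheaf.stalk (Δ.base x)) := RegUFD52.ufm_of_regular _
  let W2 := pairOpen pX U
  obtain ⟨H, hH, htH, -⟩ := exists_isAffineOpen_mem_and_subset (U := (⊤ : G.Opens))
    (x := (unitSec pG).base (pX.base x)) trivial
  have hdle : U ≤ Δ ⁻¹ᵁ W2 := fun z hz => ⟨by
      show (pullback.fst pX pX).base (Δ.base z) ∈ U
      rw [← Scheme.Hom.comp_apply, pullback.diagonal_fst]; exact hz, by
      show (pullback.snd pX pX).base (Δ.base z) ∈ U
      rw [← Scheme.Hom.comp_apply, pullback.diagonal_snd]; exact hz⟩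
  refine exists_extension_along pG q W2 (dense_pairOpen pX hU) (diffMap pX pG f hf) (gDiv_over _ _ _ _ _ _) Δ x
    hcodim (Δ.resLE W2 U hdle) (Scheme.Hom.resLE_comp_ι _ _) H hH fun w hw => ?_
  rw [← Scheme.Hom.comp_apply, diffMap_diag pX pG f hf (Δ.resLE W2 U hdle) (Scheme.Hom.resLE_comp_ι _ _),
    Scheme.Hom.comp_apply, Scheme.Hom.comp_apply]
  exact ((hw.map pX.continuous).map (unitSec pG).continuous).mem_open H.2 htH

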